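import Cfsg.Agent.Lib.Schur.PathCert

/-!
Certificates for the splitting of central extensions of the Held group over its Sylow subgroups.
-/

set_option autoImplicit false
set_option maxRecDepth 20000

namespace CfsgLib.SchurHe

/-- Part of a closed path for the prime 2. -/
def path2_46_0 : List SchurPath.Step :=
  [([], [8, 9], 73, false),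
    ([4, 5, 6, 8, 9], [], 72, false),
    ([4, 5, 6, 8], [1, 2, 13], 45, false),
    ([4, 5, 6], [9, 1, 2, 13], 36, false),
    ([4, 5], [8, 9, 1, 2, 13], 21, false),
    ([4], [6, 8, 9, 1, 2, 13], 15, false),
    ([], [5, 6, 8, 9, 1, 2, 13], 10, false),
    ([0, 4, 5, 6, 8], [2, 13], 46, false),
    ([0, 4, 5, 6], [1, 9, 2, 13], 36, false),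
    ([0, 4, 5], [8, 1, 9, 2, 13], 21, false),
    ([0, 4], [6, 8, 1, 9, 2, 13], 15, false),
    ([0], [5, 6, 8, 1, 9, 2, 13], 10, false),
    ([], [4, 5, 6, 8, 1, 9, 2, 13], 0, false),
    ([4, 5, 6], [9, 2, 13], 37, false),
    ([4, 5], [8, 9, 2, 13], 22, false),
    ([4], [6, 8, 9, 2, 13], 16, false),
    ([], [5, 6, 8, 9, 2, 13], 11, false),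
    ([1, 4, 5, 6, 8], [13], 47, false),
    ([1, 4, 5, 6], [2, 9, 13], 36, false),
    ([1, 4, 5], [8, 2, 9, 13], 21, false),
    ([1, 4], [6, 8, 2, 9, 13], 15, false),
    ([1], [5, 6, 8, 2, 9, 13], 10, false),
    ([], [4, 5, 6, 8, 2, 9, 13], 1, false),
    ([0, 1, 4, 5, 6], [9, 13], 38, false),
    ([0, 1, 4, 5], [8, 9, 13], 23, false),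
    ([0, 1, 4], [6, 8, 9, 13], 17, false),
    ([0, 1], [5, 6, 8, 9, 13], 12, false),
    ([0, 1, 2], [], 73, true),
    ([], [1, 6, 7], 72, true),
    ([13, 8], [6, 7], 46, false),
    ([13], [1, 9, 6, 7], 36, false),
    ([13, 0], [9, 6, 7], 37, false),
    ([13, 0, 1, 8], [7], 51, false),
    ([13, 0, 1], [3, 4, 6, 9, 7], 37, false),
    ([13, 0], [8, 3, 4, 6, 9, 7], 2, false),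
    ([13, 0], [4, 6, 9, 7], 39, false),
    ([13, 0, 3], [6, 9, 7], 40, false),
    ([13, 0], [2, 4, 8, 6, 9, 7], 7, false),
    ([13, 0, 1], [4, 8, 6, 9, 7], 8, false),
    ([13, 0, 1, 2, 3, 4], [9, 7], 42, false),
    ([13, 0, 1, 2, 3], [2, 3, 6, 8, 9, 7], 11, false),
    ([13, 0, 1, 2], [4, 2, 3, 6, 8, 9, 7], 7, false),
    ([13, 0, 1], [3, 4, 2, 3, 6, 8, 9, 7], 4, false),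
    ([13, 0], [2, 3, 4, 2, 3, 6, 8, 9, 7], 2, false),
    ([13, 0, 2, 3], [3, 6, 8, 9, 7], 12, false),
    ([13, 0, 2], [4, 3, 6, 8, 9, 7], 8, false),
    ([13, 0], [3, 4, 3, 6, 8, 9, 7], 5, false),
    ([13, 0, 3], [6, 8, 9, 7], 13, false),
    ([13, 0], [4, 6, 8, 9, 7], 9, false),
    ([13, 0, 4, 6, 8], [], 52, false),
    ([13, 0, 4, 6], [4, 5, 6, 7, 9], 38, false),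
    ([13, 0, 4], [8, 4, 5, 6, 7, 9], 23, false),
    ([13, 0], [6, 8, 4, 5, 6, 7, 9], 12, false),
    ([13, 0, 2, 4, 6], [5, 6, 7, 9], 40, false),
    ([13, 0, 2, 4], [2, 4, 8, 5, 6, 7, 9], 22, false),
    ([13, 0, 2], [6, 2, 4, 8, 5, 6, 7, 9], 11, false),
    ([13, 0], [4, 6, 2, 4, 8, 5, 6, 7, 9], 4, false),
    ([13, 0, 1, 2, 4], [4, 8, 5, 6, 7, 9], 23, false),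
    ([13, 0, 1, 2], [6, 4, 8, 5, 6, 7, 9], 12, false),
    ([13, 0, 1], [4, 6, 4, 8, 5, 6, 7, 9], 5, false)]

/-- Part of a closed path for the prime 2. -/
def path2_46_1 : List SchurPath.Step :=
  [([13, 0, 1, 4], [8, 5, 6, 7, 9], 25, false),
    ([13, 0, 1], [4, 6, 8, 5, 6, 7, 9], 10, false),
    ([13, 0], [4, 4, 6, 8, 5, 6, 7, 9], 1, false),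
    ([13], [1, 4, 4, 6, 8, 5, 6, 7, 9], 0, false),
    ([13, 1], [6, 8, 5, 6, 7, 9], 14, false),
    ([13, 1, 6], [6, 7, 9], 41, false),
    ([13, 1], [2, 3, 5, 8, 6, 7, 9], 21, false),
    ([13], [6, 2, 3, 5, 8, 6, 7, 9], 1, false),
    ([13, 0, 1], [3, 5, 8, 6, 7, 9], 23, false),
    ([13, 0, 1, 2], [5, 8, 6, 7, 9], 24, false),
    ([13, 0, 1, 2, 3], [8, 6, 7, 9], 26, false),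
    ([13, 0, 1, 2], [5, 6, 8, 6, 7, 9], 8, false),
    ([13, 0, 1], [3, 5, 6, 8, 6, 7, 9], 5, false),
    ([13, 0, 1, 3, 5, 6], [7, 9], 42, false),
    ([13, 0, 1, 3, 5], [2, 3, 6, 8, 7, 9], 22, false),
    ([13, 0, 1, 3], [6, 2, 3, 6, 8, 7, 9], 16, false),
    ([13, 0, 1], [5, 6, 2, 3, 6, 8, 7, 9], 7, false),
    ([13, 0], [3, 5, 6, 2, 3, 6, 8, 7, 9], 2, false),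
    ([13, 0, 3, 5], [3, 6, 8, 7, 9], 23, false),
    ([13, 0, 3], [6, 3, 6, 8, 7, 9], 17, false),
    ([13, 0], [5, 6, 3, 6, 8, 7, 9], 8, false),
    ([13, 0, 2, 3, 5], [6, 8, 7, 9], 24, false),
    ([13, 0, 2, 3], [6, 6, 8, 7, 9], 18, false),
    ([13, 0, 2], [5, 6, 6, 8, 7, 9], 9, false),
    ([13, 0, 2, 5], [8, 7, 9], 27, false),
    ([13, 0, 2], [2, 8, 7, 9], 15, false),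
    ([13, 0], [5, 2, 8, 7, 9], 3, false),
    ([13], [2, 5, 2, 8, 7, 9], 0, false),
    ([13, 2], [8, 7, 9], 17, false),
    ([13], [5, 8, 7, 9], 5, false),
    ([13, 5], [9], 43, false),
    ([13], [5, 6, 7, 8, 9], 16, false),
    ([13, 1], [6, 7, 8, 9], 20, false)]

/-- Part of a closed path for the prime 2. -/
def path2_47_0 : List SchurPath.Step :=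
  [([], [3, 5], 69, false),
    ([0, 2, 4, 5, 6], [], 68, false),
    ([0, 2, 4, 5], [1, 6, 8, 12], 21, false),
    ([0, 2, 4], [6, 1, 6, 8, 12], 15, false),
    ([0, 2], [5, 6, 1, 6, 8, 12], 10, false),
    ([0], [4, 5, 6, 1, 6, 8, 12], 3, false),
    ([], [2, 4, 5, 6, 1, 6, 8, 12], 0, false),
    ([2, 4, 5], [6, 8, 12], 22, false),
    ([2, 4], [6, 6, 8, 12], 16, false),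
    ([2], [5, 6, 6, 8, 12], 11, false),
    ([], [4, 5, 6, 6, 8, 12], 4, false),
    ([1, 2, 4, 5], [8, 12], 27, false),
    ([1, 2, 4], [2, 8, 12], 15, false),
    ([1, 2], [5, 2, 8, 12], 10, false),
    ([1], [4, 5, 2, 8, 12], 3, false),
    ([], [2, 4, 5, 2, 8, 12], 1, false),
    ([0, 1, 2, 4], [8, 12], 17, false),
    ([0, 1, 2], [5, 8, 12], 12, false),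
    ([0, 1], [4, 5, 8, 12], 5, false),
    ([0, 1], [4, 5, 8, 12], 5, true),
    ([0, 1, 2], [5, 8, 12], 12, true),
    ([0, 1, 2, 4], [8, 12], 17, true),
    ([], [2, 4, 5, 2, 8, 12], 1, true),
    ([1], [4, 5, 2, 8, 12], 3, true),
    ([1, 2], [5, 2, 8, 12], 10, true),
    ([1, 2, 4], [2, 8, 12], 15, true),
    ([1, 2, 4, 5], [8, 12], 27, true),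
    ([1, 2], [4, 5, 6, 6, 8, 12], 9, true),
    ([1, 2, 3], [5, 6, 6, 8, 12], 13, true),
    ([1, 2, 3, 4], [6, 6, 8, 12], 18, true),
    ([1, 2, 3, 4, 5], [6, 8, 12], 24, true),
    ([1], [4, 5, 6, 3, 6, 8, 12], 8, true),
    ([1, 3], [5, 6, 3, 6, 8, 12], 12, true),
    ([1, 3, 4], [6, 3, 6, 8, 12], 17, true),
    ([1, 3, 4, 5], [3, 6, 8, 12], 23, true),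
    ([], [4, 5, 6, 2, 3, 6, 8, 12], 7, true),
    ([3], [5, 6, 2, 3, 6, 8, 12], 11, true),
    ([3, 4], [6, 2, 3, 6, 8, 12], 16, true),
    ([3, 4, 5], [2, 3, 6, 8, 12], 22, true),
    ([3, 4, 5, 6], [12], 42, true),
    ([], [3, 4, 5, 6, 8, 6, 12], 5, true),
    ([2], [4, 5, 6, 8, 6, 12], 8, true),
    ([2, 3], [5, 6, 8, 6, 12], 12, true),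
    ([2, 3, 4], [8, 6, 12], 26, true),
    ([2], [6, 5, 8, 6, 12], 13, true),
    ([2, 4], [5, 8, 6, 12], 24, true),
    ([], [6, 3, 5, 8, 6, 12], 12, true),
    ([4], [3, 5, 8, 6, 12], 23, true),
    ([], [4, 6, 2, 3, 5, 8, 6, 12], 0, true),
    ([0], [6, 2, 3, 5, 8, 6, 12], 10, true),
    ([0, 4], [2, 3, 5, 8, 6, 12], 21, true),
    ([0, 4, 6], [6, 12], 41, true),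
    ([], [8, 5, 6, 12], 25, true),
    ([], [6, 4, 8, 5, 6, 12], 5, true),
    ([2], [4, 8, 5, 6, 12], 23, true),
    ([], [2, 6, 2, 4, 8, 5, 6, 12], 2, true),
    ([1], [6, 2, 4, 8, 5, 6, 12], 4, true),
    ([1, 2], [2, 4, 8, 5, 6, 12], 22, true),
    ([1, 2, 6], [5, 6, 12], 40, true),
    ([1], [8, 4, 5, 6, 12], 23, true)]

/-- Part of a closed path for the prime 2. -/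
def path2_47_1 : List SchurPath.Step :=
  [([1, 6], [4, 5, 6, 12], 38, true),
    ([], [1, 6, 8, 2, 4, 5, 6, 12], 0, true),
    ([0], [6, 8, 2, 4, 5, 6, 12], 1, true),
    ([0, 1], [8, 2, 4, 5, 6, 12], 21, true),
    ([0, 1, 6], [2, 4, 5, 6, 12], 36, true),
    ([0, 1, 6, 8], [], 69, true),
    ([], [7, 8, 9], 68, true),
    ([12, 3], [5, 7, 8, 9], 14, true),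
    ([12, 3, 4], [8, 9], 33, true),
    ([12], [7, 5, 8, 9], 13, true),
    ([12], [4, 3, 7, 5, 8, 9], 2, true),
    ([12, 1], [3, 7, 5, 8, 9], 11, true),
    ([12, 1, 4], [5, 8, 9], 31, true),
    ([12, 1], [4, 7, 3, 5, 8, 9], 5, true),
    ([12, 1, 2], [7, 3, 5, 8, 9], 12, true),
    ([12], [1, 2, 4, 2, 7, 3, 5, 8, 9], 0, true),
    ([12, 0], [2, 4, 2, 7, 3, 5, 8, 9], 1, true),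
    ([12, 0, 1], [4, 2, 7, 3, 5, 8, 9], 3, true),
    ([12, 0, 1, 2], [2, 7, 3, 5, 8, 9], 10, true),
    ([12, 0, 1, 2, 4], [3, 5, 8, 9], 30, true),
    ([12], [2, 4, 7, 2, 3, 5, 8, 9], 1, true),
    ([12, 1], [4, 7, 2, 3, 5, 8, 9], 3, true),
    ([12, 1, 2], [7, 2, 3, 5, 8, 9], 10, true),
    ([12, 1, 2, 4], [2, 3, 5, 8, 9], 28, true),
    ([12, 1, 2, 4, 7], [9], 41, true),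
    ([12, 1, 2], [8, 5, 9], 32, true),
    ([12], [1, 2, 7, 4, 8, 5, 9], 0, true),
    ([12, 0], [2, 7, 4, 8, 5, 9], 1, true),
    ([12, 0, 1], [4, 8, 5, 9], 30, true),
    ([12, 0], [2, 4, 8, 5, 9], 29, true),
    ([12, 0, 7], [5, 9], 40, true),
    ([12, 0], [7, 8, 4, 5, 9], 9, true),
    ([12, 0], [3, 3, 7, 8, 4, 5, 9], 2, true),
    ([12, 0, 1], [3, 7, 8, 4, 5, 9], 7, true),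
    ([12, 0, 1, 3], [8, 4, 5, 9], 31, true),
    ([12, 0, 1, 3, 7], [4, 5, 9], 39, true),
    ([12, 0, 1], [3, 7, 8, 3, 4, 5, 9], 5, true),
    ([12, 0, 1, 2], [7, 8, 3, 4, 5, 9], 8, true),
    ([12], [2, 3, 2, 7, 8, 3, 4, 5, 9], 1, true),
    ([12, 1], [3, 2, 7, 8, 3, 4, 5, 9], 3, true),
    ([12, 1, 2], [2, 7, 8, 3, 4, 5, 9], 6, true),
    ([12, 1, 2, 3], [8, 3, 4, 5, 9], 30, true),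
    ([12, 1, 2, 3, 7], [3, 4, 5, 9], 38, true),
    ([12], [3, 7, 8, 2, 3, 4, 5, 9], 4, true),
    ([12, 2], [7, 8, 2, 3, 4, 5, 9], 7, true),
    ([12, 2, 3], [8, 2, 3, 4, 5, 9], 29, true),
    ([12, 2, 3, 7], [2, 3, 4, 5, 9], 37, true),
    ([12, 2, 3, 7, 8], [], 50, true),
    ([12], [2, 3, 7, 8, 9, 5], 2, true),
    ([12, 1], [3, 7, 8, 9, 5], 4, true),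
    ([12, 1, 2], [8, 9, 5], 31, true),
    ([12, 1, 2, 7], [9, 5], 39, true),
    ([12], [1, 2, 7, 8, 3, 9, 5], 0, true),
    ([12, 0], [2, 7, 8, 3, 9, 5], 1, true),
    ([12, 0, 1], [8, 3, 9, 5], 30, true),
    ([12, 0, 1, 7], [3, 9, 5], 38, true),
    ([12, 0], [8, 2, 3, 9, 5], 29, true),
    ([12, 0, 7], [2, 3, 9, 5], 37, true),
    ([12], [8, 1, 2, 3, 9, 5], 28, true),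
    ([12, 7], [1, 2, 3, 9, 5], 36, true)]

/-- Part of a closed path for the prime 2. -/
def path2_47_2 : List SchurPath.Step :=
  [([12, 7, 8], [5], 48, true)]

/-- Part of a closed path for the prime 2. -/
def path2_48_0 : List SchurPath.Step :=
  [([], [7, 8, 9], 69, false),
    ([0, 2, 4, 5, 6], [], 69, false),
    ([0, 2, 4, 5], [2, 4, 5, 6, 12], 21, false),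
    ([0, 2, 4], [6, 2, 4, 5, 6, 12], 15, false),
    ([0, 2], [5, 6, 2, 4, 5, 6, 12], 10, false),
    ([0], [4, 5, 6, 2, 4, 5, 6, 12], 3, false),
    ([], [2, 4, 5, 6, 2, 4, 5, 6, 12], 0, false),
    ([2, 4, 5], [4, 5, 6, 12], 23, false),
    ([2, 4], [6, 4, 5, 6, 12], 17, false),
    ([2], [5, 6, 4, 5, 6, 12], 12, false),
    ([], [4, 5, 6, 4, 5, 6, 12], 5, false),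
    ([4, 5], [5, 6, 12], 25, false),
    ([4], [4, 6, 5, 6, 12], 15, false),
    ([], [5, 4, 6, 5, 6, 12], 10, false),
    ([0, 4], [6, 5, 6, 12], 19, false),
    ([0], [5, 6, 5, 6, 12], 14, false),
    ([0, 5], [6, 12], 26, false),
    ([0], [5, 6, 6, 12], 17, false),
    ([0, 2], [6, 6, 12], 20, false),
    ([0, 2], [12], 27, false),
    ([0], [2, 12], 3, false),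
    ([], [2, 2, 12], 0, false),
    ([], [12], 5, false),
    ([12], [], 14, true),
    ([12], [4, 4], 9, true),
    ([12, 3], [4], 13, true),
    ([12, 3, 4], [], 54, true),
    ([12], [9, 9], 13, true),
    ([12], [4, 3, 9, 9], 2, true),
    ([12, 1], [3, 9, 9], 11, true),
    ([12], [1, 4, 1, 3, 9, 9], 0, true),
    ([12, 0], [4, 1, 3, 9, 9], 1, true),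
    ([12, 0, 1], [1, 3, 9, 9], 10, true),
    ([12, 0, 1, 4], [9, 9], 44, true),
    ([12, 0, 1], [4, 8, 8, 9, 9], 5, true),
    ([12, 0], [2, 4, 8, 8, 9, 9], 4, true),
    ([12, 0, 2], [8, 9, 9], 40, true),
    ([12, 0], [4, 8, 9, 9], 38, true),
    ([12], [2, 4, 8, 9, 9], 36, true),
    ([12, 8], [9], 53, true),
    ([12], [8, 9, 8, 9], 14, true),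
    ([12], [4, 4, 8, 9, 8, 9], 2, true),
    ([12, 1], [4, 8, 9, 8, 9], 11, true),
    ([12, 1, 4], [8, 9, 8, 9], 35, true),
    ([12, 1], [4, 7, 7, 8, 9, 8, 9], 5, true),
    ([12, 1, 2], [7, 7, 8, 9, 8, 9], 12, true),
    ([12], [1, 2, 4, 2, 7, 7, 8, 9, 8, 9], 0, true),
    ([12, 0], [2, 4, 2, 7, 7, 8, 9, 8, 9], 1, true),
    ([12, 0, 1], [4, 2, 7, 7, 8, 9, 8, 9], 3, true),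
    ([12, 0, 1, 2], [2, 7, 7, 8, 9, 8, 9], 10, true),
    ([12, 0, 1, 2, 4], [7, 7, 8, 9, 8, 9], 27, true),
    ([12], [2, 4, 6, 6, 7, 7, 8, 9, 8, 9], 1, true),
    ([12, 1], [4, 6, 6, 7, 7, 8, 9, 8, 9], 3, true),
    ([12, 1, 2], [6, 7, 7, 8, 9, 8, 9], 25, true),
    ([12, 1], [4, 6, 7, 7, 8, 9, 8, 9], 23, true),
    ([12], [2, 4, 6, 7, 7, 8, 9, 8, 9], 22, true),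
    ([12], [6, 1, 2, 4, 6, 7, 7, 8, 9, 8, 9], 0, true),
    ([12, 0], [1, 2, 4, 6, 7, 7, 8, 9, 8, 9], 21, true),
    ([12, 0, 6], [7, 8, 9, 8, 9], 34, true),
    ([12, 0], [6, 7, 6, 7, 8, 9, 8, 9], 20, true)]

/-- Part of a closed path for the prime 2. -/
def path2_48_1 : List SchurPath.Step :=
  [([12, 0], [5, 5, 6, 7, 6, 7, 8, 9, 8, 9], 5, true),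
    ([12, 0, 2], [5, 6, 7, 6, 7, 8, 9, 8, 9], 17, true),
    ([12, 0, 2, 5], [7, 6, 7, 8, 9, 8, 9], 26, true),
    ([12, 0, 2], [5, 6, 5, 7, 6, 7, 8, 9, 8, 9], 14, true),
    ([12, 0, 2, 4], [6, 5, 7, 6, 7, 8, 9, 8, 9], 19, true),
    ([12], [4, 5, 4, 6, 5, 7, 6, 7, 8, 9, 8, 9], 3, true),
    ([12, 2], [5, 4, 6, 5, 7, 6, 7, 8, 9, 8, 9], 10, true),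
    ([12, 2, 4], [4, 6, 5, 7, 6, 7, 8, 9, 8, 9], 15, true),
    ([12, 2, 4, 5], [5, 7, 6, 7, 8, 9, 8, 9], 25, true),
    ([12, 2, 4, 5, 6], [6, 7, 8, 9, 8, 9], 33, true),
    ([12], [2, 4, 5, 6, 7, 5, 6, 7, 8, 9, 8, 9], 2, true),
    ([12, 1], [4, 5, 6, 7, 5, 6, 7, 8, 9, 8, 9], 4, true),
    ([12, 1, 2], [5, 6, 7, 5, 6, 7, 8, 9, 8, 9], 11, true),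
    ([12, 1, 2, 4], [6, 7, 5, 6, 7, 8, 9, 8, 9], 16, true),
    ([12, 1, 2, 4, 5], [7, 5, 6, 7, 8, 9, 8, 9], 22, true),
    ([12, 1, 2, 4, 5, 6], [5, 6, 7, 8, 9, 8, 9], 29, true),
    ([12, 1, 2, 4, 5, 6, 7], [9, 8, 9], 43, true),
    ([12, 1, 2], [6, 7, 8, 7, 9, 8, 9], 19, true),
    ([12, 1], [4, 6, 7, 8, 7, 9, 8, 9], 17, true),
    ([12], [2, 4, 6, 7, 8, 7, 9, 8, 9], 16, true),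
    ([12], [5, 1, 2, 4, 6, 7, 8, 7, 9, 8, 9], 0, true),
    ([12, 0], [1, 2, 4, 6, 7, 8, 7, 9, 8, 9], 15, true),
    ([12, 0, 5], [8, 7, 9, 8, 9], 34, true),
    ([12, 0], [5, 7, 6, 8, 7, 9, 8, 9], 9, true),
    ([12, 0, 3], [7, 6, 8, 7, 9, 8, 9], 18, true),
    ([12, 0], [3, 5, 3, 7, 6, 8, 7, 9, 8, 9], 2, true),
    ([12, 0, 1], [5, 3, 7, 6, 8, 7, 9, 8, 9], 7, true),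
    ([12, 0, 1, 3], [3, 7, 6, 8, 7, 9, 8, 9], 16, true),
    ([12, 0, 1, 3, 5], [6, 8, 7, 9, 8, 9], 31, true),
    ([12, 0, 1], [3, 5, 7, 3, 6, 8, 7, 9, 8, 9], 5, true),
    ([12, 0, 1, 2], [5, 7, 3, 6, 8, 7, 9, 8, 9], 8, true),
    ([12, 0, 1, 2, 3], [7, 3, 6, 8, 7, 9, 8, 9], 17, true),
    ([12], [2, 3, 5, 2, 7, 3, 6, 8, 7, 9, 8, 9], 1, true),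
    ([12, 1], [3, 5, 2, 7, 3, 6, 8, 7, 9, 8, 9], 3, true),
    ([12, 1, 2], [5, 2, 7, 3, 6, 8, 7, 9, 8, 9], 6, true),
    ([12, 1, 2, 3], [2, 7, 3, 6, 8, 7, 9, 8, 9], 15, true),
    ([12, 1, 2, 3, 5], [3, 6, 8, 7, 9, 8, 9], 30, true),
    ([12], [3, 5, 7, 2, 3, 6, 8, 7, 9, 8, 9], 4, true),
    ([12, 2], [5, 7, 2, 3, 6, 8, 7, 9, 8, 9], 7, true),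
    ([12, 2, 3], [7, 2, 3, 6, 8, 7, 9, 8, 9], 16, true),
    ([12, 2, 3, 5], [2, 3, 6, 8, 7, 9, 8, 9], 29, true),
    ([12, 2, 3, 5, 7], [7, 9, 8, 9], 42, true),
    ([12, 2, 3], [5, 7, 8, 6, 7, 9, 8, 9], 14, true),
    ([12, 2, 3, 4], [8, 6, 7, 9, 8, 9], 33, true),
    ([12, 2], [7, 5, 8, 6, 7, 9, 8, 9], 13, true),
    ([12], [2, 4, 3, 7, 5, 8, 6, 7, 9, 8, 9], 2, true),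
    ([12, 1], [4, 3, 7, 5, 8, 6, 7, 9, 8, 9], 4, true),
    ([12, 1, 2], [3, 7, 5, 8, 6, 7, 9, 8, 9], 11, true),
    ([12, 1, 2, 4], [5, 8, 6, 7, 9, 8, 9], 31, true),
    ([12, 1], [7, 3, 5, 8, 6, 7, 9, 8, 9], 12, true),
    ([12], [1, 4, 2, 7, 3, 5, 8, 6, 7, 9, 8, 9], 0, true),
    ([12, 0], [4, 2, 7, 3, 5, 8, 6, 7, 9, 8, 9], 1, true),
    ([12, 0, 1], [2, 7, 3, 5, 8, 6, 7, 9, 8, 9], 10, true),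
    ([12, 0, 1, 4], [3, 5, 8, 6, 7, 9, 8, 9], 30, true),
    ([12], [4, 7, 2, 3, 5, 8, 6, 7, 9, 8, 9], 1, true),
    ([12, 1], [7, 2, 3, 5, 8, 6, 7, 9, 8, 9], 10, true),
    ([12, 1, 4], [2, 3, 5, 8, 6, 7, 9, 8, 9], 28, true),
    ([12, 1, 4, 7], [6, 7, 9, 8, 9], 41, true),
    ([12, 1], [8, 5, 6, 7, 9, 8, 9], 32, true),
    ([12, 1], [7, 4, 8, 5, 6, 7, 9, 8, 9], 5, true)]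

/-- Part of a closed path for the prime 2. -/
def path2_48_2 : List SchurPath.Step :=
  [([12], [1, 2, 2, 7, 4, 8, 5, 6, 7, 9, 8, 9], 0, true),
    ([12, 0], [2, 2, 7, 4, 8, 5, 6, 7, 9, 8, 9], 1, true),
    ([12, 0, 1], [2, 7, 4, 8, 5, 6, 7, 9, 8, 9], 3, true),
    ([12, 0, 1, 2], [4, 8, 5, 6, 7, 9, 8, 9], 30, true),
    ([12, 0], [7, 2, 4, 8, 5, 6, 7, 9, 8, 9], 4, true),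
    ([12, 0, 2], [2, 4, 8, 5, 6, 7, 9, 8, 9], 29, true),
    ([12, 0, 2, 7], [5, 6, 7, 9, 8, 9], 40, true),
    ([12], [8, 4, 5, 6, 7, 9, 8, 9], 30, true),
    ([12, 7], [4, 5, 6, 7, 9, 8, 9], 38, true),
    ([12, 7, 8], [8, 9], 52, true)]

/-- Words of the letters for the prime 2. -/
def letters2 : List (List ℕ) :=
  [[2, 3, 5, 6, 3, 4, 2, 3, 6, 5, 3, 2],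
    [0],
    [3, 5, 4, 3, 6, 2, 3, 5, 4, 3],
    [2, 3, 5, 3, 2, 3, 5, 2, 3, 2, 3, 5, 3, 2, 3],
    [3, 5, 4, 3, 2, 3, 5, 4, 3],
    [3, 5, 3, 4, 3, 2, 3, 5, 4, 3, 0],
    [4, 3, 5, 6, 2, 3, 5, 2, 3, 2],
    [4, 3, 2, 3, 5, 3, 1, 0, 1, 2, 3, 2, 0],
    [5, 6, 2, 3, 5, 2, 3, 6, 2],
    [0, 5, 6, 3, 2, 1, 5, 3, 2, 3, 5, 4, 3, 1, 2, 3, 5, 1, 2, 3, 6, 0],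
    [2, 3, 5, 6, 3, 4, 2, 3, 6, 5, 3, 4, 2],
    [1, 2, 1, 3, 6, 5, 3, 2, 1, 0, 6, 3, 2, 3, 6, 5, 3, 4, 2, 3, 5, 1, 2, 3, 1, 2, 3, 1],
    [2, 3, 4, 5, 3, 2, 1, 3, 6, 3, 2, 3, 5, 2, 3, 4, 2, 3, 1, 2, 3, 6, 4, 1, 2],
    [0, 1, 2, 1, 3, 5, 6, 3, 2, 4, 3, 2, 1, 3, 2, 3, 2, 3, 6, 3, 1, 2, 3, 5, 6, 3, 2]]

/-- Words of the elements of the Sylow 2-subgroup, by increasing keys. -/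
def elts2 : List (List ℕ) :=
  [[1, 6, 7, 9],
    [1, 2, 9],
    [],
    [0, 3, 5, 7],
    [6, 7, 9],
    [2, 9],
    [4, 5, 6, 7, 9],
    [2, 4, 5, 9],
    [1],
    [0, 1, 3, 5, 7],
    [1, 4, 5],
    [0, 1, 3, 4, 7],
    [1, 2, 4, 5, 9],
    [1, 4, 5, 6, 7, 9],
    [1, 2, 5, 6, 7, 9],
    [1, 5, 9],
    [4, 5],
    [0, 3, 4, 7],
    [2, 3, 4, 5, 8],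
    [1, 3, 4, 5, 6, 7, 8],
    [0, 1, 2, 4, 5, 6, 7],
    [1, 3, 4, 6],
    [2, 5, 6, 7, 9],
    [5, 9],
    [1, 4, 9],
    [1, 2, 4, 6, 7, 9],
    [4, 9],
    [2, 4, 6, 7, 9],
    [1, 2, 3, 4, 5, 8],
    [3, 4, 5, 6, 7, 8],
    [0, 2, 4, 5, 6, 7],
    [3, 4, 6],
    [2, 3, 4, 5, 6],
    [0, 4, 6, 7],
    [0, 2, 6, 7],
    [3, 5, 6],
    [1, 2, 3, 6],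
    [0, 1, 5, 6, 7],
    [1, 2, 3, 8],
    [3, 6, 7, 8],
    [0, 1, 3, 4, 5, 6, 8],
    [3, 4, 5, 7, 8],
    [1, 2, 3, 5, 6, 7, 8],
    [3, 5, 8],
    [2, 3, 5, 6, 7, 8],
    [1, 3, 5, 8],
    [4, 6, 7, 8, 9],
    [0, 2, 3, 4, 5, 6, 8, 9],
    [1, 4, 5, 7, 9],
    [0, 1, 4, 5, 6, 9],
    [2, 4, 6, 8, 9],
    [0, 3, 4, 5, 6, 7, 8, 9],
    [0, 1, 2, 6, 7, 8, 9],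
    [1, 3, 5, 6, 8, 9],
    [1, 2, 3, 4, 5, 6],
    [0, 1, 4, 6, 7],
    [0, 1, 2, 6, 7],
    [1, 3, 5, 6],
    [2, 3, 6],
    [0, 5, 6, 7],
    [2, 3, 8],
    [1, 3, 6, 7, 8],
    [0, 3, 4, 5, 6, 8],
    [1, 3, 4, 5, 7, 8],
    [0, 1, 2, 6, 8],
    [2, 7, 8],
    [3, 6],
    [0, 2, 5, 6, 7],
    [0, 2, 4, 5, 6, 8],
    [1, 2, 4, 5, 7, 8],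
    [0, 3, 6, 8],
    [1, 3, 7, 8],
    [2, 3, 4, 6, 7, 8],
    [1, 3, 4, 8],
    [0, 1, 2, 3, 6, 8, 9],
    [1, 5, 6, 7, 8, 9],
    [1, 2, 3, 4, 6, 7, 8],
    [3, 4, 8],
    [0, 1, 2, 3, 4, 5, 6, 8, 9],
    [1, 4, 6, 7, 8, 9],
    [0, 6, 7, 9],
    [0, 2, 9],
    [0, 3, 4, 7, 9],
    [3, 4, 6, 9],
    [2, 3, 5, 6, 7, 8, 9],
    [0, 6, 8, 9],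
    [2, 3, 6, 9],
    [0, 2, 3, 7, 9],
    [1, 2, 3, 4, 6, 7, 8, 9],
    [0, 1, 4, 5, 6, 8, 9],
    [1, 2, 4, 6, 8, 9],
    [0, 1, 3, 4, 5, 6, 7, 8, 9],
    [0, 2, 6, 7, 8, 9],
    [3, 5, 6, 8, 9],
    [4, 5, 7, 9],
    [0, 4, 5, 6, 9],
    [3, 5, 7, 9],
    [0, 3, 5, 6, 9],
    [7, 9],
    [0, 6, 9],
    [0, 2, 4, 5, 8],
    [0, 1, 4, 5, 6, 7, 8],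
    [0, 1, 6, 7, 9],
    [0, 1, 2, 9],
    [1, 2, 5, 6, 8, 9],
    [0, 1, 3, 6, 7, 8, 9],
    [0, 2, 4, 5, 6, 7, 8, 9],
    [3, 4, 6, 8, 9],
    [0, 2, 6, 8],
    [1, 2, 7, 8],
    [1, 3, 6],
    [0, 1, 2, 5, 6, 7],
    [0, 1, 2, 4, 5, 6, 8],
    [2, 4, 5, 7, 8],
    [0, 1, 3, 6, 8],
    [3, 7, 8],
    [1, 3, 4, 5, 6],
    [0, 1, 2, 4, 6, 7],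
    [1, 3, 5, 7, 8],
    [0, 3, 5, 6, 8],
    [1, 3, 4, 5, 8],
    [2, 3, 4, 5, 6, 7, 8],
    [0, 1, 2, 4, 5, 6],
    [1, 3, 4, 6, 7],
    [1, 2, 3, 6, 7],
    [0, 1, 5, 6],
    [2, 4],
    [0, 2, 3, 4, 5, 7],
    [0, 2, 3, 6, 8, 9],
    [5, 6, 7, 8, 9],
    [4, 6, 8],
    [0, 1, 4, 7, 8],
    [1, 2, 3, 5, 6, 7, 8, 9],
    [0, 1, 6, 8, 9],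
    [0, 1, 3, 4, 7, 9],
    [1, 3, 4, 6, 9],
    [0, 1, 2, 3, 7, 9],
    [1, 2, 3, 6, 9],
    [2, 3, 4, 6, 7, 8, 9],
    [0, 4, 5, 6, 8, 9],
    [0, 2, 3, 5, 9],
    [0, 3, 5, 6, 7, 9],
    [0, 1, 4, 5, 6, 7, 9],
    [0, 1, 2, 4, 5, 9],
    [0, 1, 3, 4, 5, 7, 9],
    [1, 3, 4, 5, 6, 9],
    [1, 2, 3, 4, 5, 6, 9],
    [0, 1, 2, 3, 4, 5, 7, 9],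
    [0, 1, 3, 5, 7, 9],
    [1, 3, 5, 6, 9],
    [0, 1, 2, 3, 6, 7, 9],
    [0, 1, 3, 9],
    [2, 4, 5, 6, 9],
    [0, 2, 4, 5, 7, 9],
    [0, 1, 2, 6, 9],
    [1, 2, 7, 9],
    [0, 1, 2, 3, 6, 9],
    [1, 2, 3, 7, 9],
    [5, 7, 8, 9],
    [0, 3, 8, 9],
    [0, 1, 3, 8, 9],
    [1, 5, 7, 8, 9],
    [1, 2, 3, 4, 5, 7, 8, 9],
    [0, 1, 2, 4, 8, 9],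
    [2, 4, 7, 8, 9],
    [0, 2, 3, 4, 5, 8, 9],
    [0, 2, 5, 6, 7, 8],
    [0, 1, 5, 8],
    [2, 5, 6, 8, 9],
    [0, 3, 6, 7, 8, 9],
    [0, 1, 2, 4, 5, 6, 7, 8, 9],
    [1, 3, 4, 6, 8, 9],
    [1, 3, 5, 7, 9],
    [0, 1, 3, 5, 6, 9],
    [1, 7, 9],
    [0, 1, 6, 9],
    [1, 3, 4, 7, 9],
    [0, 1, 3, 4, 6, 9],
    [1, 2, 4, 7, 8, 9],
    [0, 1, 2, 3, 4, 5, 8, 9],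
    [2, 3, 4, 5, 7, 8, 9],
    [0, 2, 4, 8, 9],
    [0, 1, 2, 4, 5, 8],
    [0, 4, 5, 6, 7, 8],
    [1, 4, 5, 6, 7],
    [0, 1, 2, 3, 4, 6],
    [0, 1, 2, 8],
    [0, 6, 7, 8],
    [0, 1, 2, 3, 5, 9],
    [0, 1, 3, 5, 6, 7, 9],
    [0, 2, 4, 5, 9],
    [0, 4, 5, 6, 7, 9],
    [0, 3, 4, 5, 7, 9],
    [3, 4, 5, 6, 9],
    [0, 2, 3, 4, 5, 6, 7, 8, 9],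
    [4, 6, 8, 9],
    [0, 1, 2, 3, 6, 7, 8, 9],
    [1, 5, 6, 8, 9],
    [1, 3, 4, 6, 7, 9],
    [1, 2, 3, 4, 9],
    [2, 5, 9],
    [5, 6, 7, 9],
    [2, 5, 6, 9],
    [0, 2, 5, 7, 9],
    [0, 2, 5, 6, 9],
    [2, 5, 7, 9],
    [0, 1, 3, 4, 9],
    [0, 1, 2, 3, 4, 6, 7, 9],
    [4, 5, 6, 7],
    [0, 2, 3, 4, 6],
    [0, 2, 3, 5, 6, 9],
    [2, 3, 5, 7, 9],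
    [3, 4, 9],
    [2, 3, 4, 6, 7, 9],
    [1, 3, 4, 9],
    [1, 2, 3, 4, 6, 7, 9],
    [3, 4, 5, 6],
    [0, 2, 4, 6, 7],
    [3, 5, 7, 8],
    [0, 1, 3, 5, 6, 8],
    [3, 4, 5, 8],
    [1, 2, 3, 4, 5, 6, 7, 8],
    [0, 2, 4, 5, 6],
    [3, 4, 6, 7],
    [2, 3, 6, 7],
    [0, 5, 6],
    [1, 2, 4],
    [0, 1, 2, 3, 4, 5, 7],
    [1, 4, 6, 8],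
    [0, 4, 7, 8],
    [3, 4, 7, 8],
    [0, 1, 3, 4, 6, 8],
    [3, 8],
    [1, 2, 3, 6, 7, 8],
    [4, 7, 8],
    [0, 1, 4, 6, 8],
    [3, 5, 7],
    [0],
    [1, 4, 5, 8],
    [2, 4, 5, 6, 7, 8],
    [1, 5, 7, 8],
    [0, 5, 6, 8],
    [0, 1, 2, 4, 5, 7, 8],
    [2, 4, 5, 6, 8],
    [0, 1, 3, 4, 6, 7, 8],
    [0, 2, 3, 4, 8],
    [0, 2, 6],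
    [3, 5, 6, 7],
    [1, 2, 3, 4, 7, 9],
    [0, 1, 2, 3, 4, 6, 9],
    [0, 4, 6],
    [2, 3, 4, 5, 6, 7],
    [0, 3, 4, 5, 7, 8],
    [1, 3, 4, 5, 6, 8],
    [0, 1, 3, 4, 5, 8],
    [0, 2, 3, 4, 5, 6, 7, 8],
    [2, 3, 6, 7, 9],
    [3, 9],
    [1, 2, 3],
    [0, 1, 2, 5, 7],
    [0, 2, 3, 7],
    [2, 5],
    [0, 1, 2, 3, 7],
    [1, 2, 5],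
    [2, 4, 5, 6],
    [0, 3, 4, 6, 7],
    [0, 3, 6],
    [2, 5, 6, 7],
    [1, 5, 6, 8],
    [0, 5, 7, 8],
    [0, 3, 9],
    [0, 2, 3, 6, 7, 9],
    [2, 3, 4, 5, 6, 9],
    [0, 2, 3, 4, 5, 7, 9],
    [0, 3, 5, 7, 9],
    [3, 5, 6, 9],
    [0, 1, 2, 4, 5, 7, 9],
    [1, 2, 4, 5, 6, 9],
    [2, 7, 9],
    [0, 2, 6, 9],
    [2, 3, 7, 9],
    [0, 2, 3, 6, 9],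
    [3, 4, 5, 7, 8, 9],
    [0, 4, 8, 9],
    [0, 1, 2, 3, 4, 9],
    [0, 1, 3, 4, 6, 7, 9],
    [0, 3, 7, 9],
    [3, 6, 9],
    [0, 4, 9],
    [0, 2, 4, 6, 7, 9],
    [1, 3, 5, 8, 9],
    [0, 1, 7, 8, 9],
    [0, 1, 2, 7, 9],
    [1, 2, 6, 9],
    [0, 1, 2, 4, 7, 8, 9],
    [1, 2, 3, 4, 5, 8, 9],
    [0, 2, 3, 4, 5, 6, 7, 9],
    [0, 3, 4, 5, 9],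
    [0, 1, 4, 7, 8, 9],
    [1, 3, 4, 5, 8, 9],
    [3, 4, 8, 9],
    [0, 4, 5, 7, 8, 9],
    [0, 2, 3, 4, 7, 8, 9],
    [2, 4, 5, 8, 9],
    [0, 2, 5, 7, 8, 9],
    [2, 3, 8, 9],
    [2, 3, 6, 7, 8, 9],
    [0, 5, 6, 8, 9],
    [2, 4, 5, 7, 9],
    [0, 2, 4, 5, 6, 9],
    [0, 2, 3, 4, 5, 6, 9],
    [2, 3, 4, 5, 7, 9],
    [1, 4, 7, 8, 9],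
    [0, 1, 3, 4, 5, 8, 9],
    [4, 7, 8, 9],
    [0, 3, 4, 5, 8, 9],
    [0, 1, 2, 3, 4, 8, 9],
    [1, 2, 4, 5, 7, 8, 9],
    [0, 2, 5, 8, 9],
    [2, 3, 7, 8, 9],
    [1, 2, 5, 7, 8, 9],
    [0, 1, 2, 3, 8, 9],
    [0, 1, 2, 5, 6, 7, 8],
    [0, 5, 8],
    [1, 2, 4, 6, 7],
    [0, 1, 3, 4, 5, 6],
    [0, 1, 2, 4, 6, 7, 8],
    [0, 4, 8],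
    [0, 1, 2, 3, 4, 5, 6, 7, 8, 9],
    [1, 4, 6, 8, 9],
    [0, 2, 3, 6, 7, 8, 9],
    [5, 6, 8, 9],
    [2, 3, 4, 9],
    [3, 4, 6, 7, 9],
    [1, 2, 5, 9],
    [1, 5, 6, 7, 9],
    [1, 2, 5, 6, 9],
    [0, 1, 2, 5, 7, 9],
    [0, 1, 2, 5, 6, 9],
    [1, 2, 5, 7, 9],
    [0, 3, 4, 9],
    [0, 2, 3, 4, 6, 7, 9],
    [2, 4, 6, 7],
    [0, 3, 4, 5, 6],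
    [0, 1, 2, 3, 5, 6, 9],
    [1, 2, 3, 5, 7, 9],
    [5, 6, 8],
    [0, 1, 5, 7, 8],
    [3, 4, 7, 9],
    [0, 3, 4, 6, 9],
    [0, 1, 2, 3, 4, 7, 8],
    [2, 3, 4, 6, 8],
    [2, 5, 7, 8, 9],
    [0, 2, 3, 8, 9],
    [2, 4, 5, 6, 7, 9],
    [4, 5, 9],
    [2, 3, 4, 5, 6, 8, 9],
    [0, 4, 6, 7, 8, 9],
    [0, 3, 5, 9],
    [0, 2, 3, 5, 6, 7, 9],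
    [0, 2, 3, 4, 7, 8],
    [1, 2, 3, 4, 6, 8],
    [2, 4, 5, 7, 8, 9],
    [0, 2, 3, 4, 8, 9],
    [0, 1, 2, 5, 8, 9],
    [1, 2, 3, 7, 8, 9],
    [0, 2, 8],
    [0, 1, 6, 7, 8],
    [6, 7],
    [0, 2, 3, 5, 6],
    [0, 1, 2, 3, 8],
    [0, 3, 6, 7, 8],
    [0, 1, 4, 8, 9],
    [1, 3, 4, 5, 7, 8, 9],
    [0, 3, 4, 6, 7, 9],
    [0, 2, 3, 4, 9],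
    [0, 1, 3, 7, 9],
    [1, 3, 6, 9],
    [2, 3, 5, 9],
    [3, 5, 6, 7, 9],
    [2, 3, 4, 6, 8, 9],
    [0, 4, 5, 6, 7, 8, 9],
    [0, 1, 4, 9],
    [0, 1, 2, 4, 6, 7, 9],
    [1, 2, 3, 5, 6, 8, 9],
    [0, 1, 6, 7, 8, 9],
    [1, 4, 6, 7, 9],
    [1, 2, 4, 9],
    [0, 2, 3, 4, 7, 9],
    [2, 3, 4, 6, 9],
    [1, 2, 4, 6, 9],
    [0, 1, 2, 4, 7, 9],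
    [1, 2, 4, 7, 9],
    [0, 1, 2, 4, 6, 9],
    [0, 2, 6, 7, 9],
    [0, 9],
    [1, 6, 7],
    [0, 1, 2, 3, 5, 6],
    [2, 3, 5, 6, 9],
    [0, 2, 3, 5, 7, 9],
    [0, 1, 3, 6, 7, 9],
    [0, 1, 2, 3, 9],
    [2, 3, 5, 6, 7, 9],
    [3, 5, 9],
    [1, 3, 5, 9],
    [1, 2, 3, 5, 6, 7, 9],
    [1, 3, 4, 7, 8],
    [0, 3, 4, 6, 8],
    [1, 3, 8],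
    [2, 3, 6, 7, 8],
    [1, 4, 7, 8],
    [0, 4, 6, 8],
    [1, 3, 5, 7],
    [0, 1],
    [4, 5, 8],
    [1, 2, 4, 5, 6, 7, 8],
    [5, 7, 8],
    [0, 1, 5, 6, 8],
    [0, 2, 4, 5, 7, 8],
    [1, 2, 4, 5, 6, 8],
    [0, 3, 4, 6, 7, 8],
    [0, 1, 2, 3, 4, 8],
    [0, 1, 2, 6],
    [1, 3, 5, 6, 7],
    [0, 1, 4, 6],
    [1, 2, 3, 4, 5, 6, 7],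
    [0, 1, 3, 4, 5, 7, 8],
    [3, 4, 5, 6, 8],
    [0, 3, 4, 5, 8],
    [0, 1, 2, 3, 4, 5, 6, 7, 8],
    [1, 2, 3, 4, 5, 6, 7, 9],
    [1, 3, 4, 5, 9],
    [2, 3],
    [0, 2, 5, 7],
    [1, 2, 4, 5, 6],
    [0, 1, 3, 4, 6, 7],
    [1, 2, 3, 4, 6, 8, 9],
    [0, 1, 4, 5, 6, 7, 8, 9],
    [0, 1, 3, 6],
    [1, 2, 5, 6, 7],
    [1, 4, 5, 6],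
    [0, 1, 2, 3, 4, 6, 7],
    [4, 7],
    [0, 3, 4, 5],
    [7],
    [0, 3, 5],
    [1, 3, 4, 7],
    [0, 1, 4, 5],
    [2, 3, 4, 5, 7],
    [0, 2, 4],
    [6],
    [0, 2, 3, 5, 6, 7],
    [8],
    [1, 2, 6, 7, 8],
    [5, 7],
    [0, 3],
    [2, 4, 5, 7],
    [0, 2, 3, 4],
    [0, 1, 2, 3, 4, 5, 6, 9],
    [1, 2, 3, 4, 5, 7, 9],
    [1, 2, 6, 8],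
    [0, 2, 7, 8],
    [0, 3, 5, 6, 7, 8],
    [0, 1, 2, 3, 5, 8],
    [0, 2, 3, 4, 6, 9],
    [2, 3, 4, 7, 9],
    [1, 2, 3, 4, 6, 9],
    [0, 1, 2, 3, 4, 7, 9],
    [0, 4, 5, 6, 7],
    [2, 3, 4, 6],
    [0, 1, 3, 7, 8],
    [3, 6, 8],
    [0, 3, 8],
    [0, 1, 2, 3, 6, 7, 8],
    [1, 2, 3, 5, 6],
    [0, 1, 6, 7],
    [1, 3, 9],
    [1, 2, 3, 6, 7, 9],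
    [1, 2, 3, 5, 7, 8, 9],
    [0, 1, 2, 8, 9],
    [2, 3, 4, 5, 6, 7, 9],
    [3, 4, 5, 9],
    [0, 1, 2, 3, 5, 6, 7, 8],
    [0, 3, 5, 8],
    [1, 2, 3, 4, 5],
    [0, 1, 2, 4, 7],
    [2, 3, 4, 5],
    [0, 2, 4, 7],
    [0, 1, 2, 3, 6, 8],
    [2, 3, 7, 8],
    [2, 4, 5, 8],
    [1, 4, 5, 6, 7, 8],
    [1, 2, 6],
    [0, 1, 3, 5, 6, 7],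
    [1, 4, 7],
    [0, 1, 3, 4, 5],
    [2, 6, 8],
    [0, 1, 2, 7, 8],
    [0, 1, 2, 3, 4, 5, 9],
    [0, 1, 3, 4, 5, 6, 7, 9],
    [1, 3, 4],
    [0, 1, 4, 5, 7],
    [0, 2, 3, 5, 7, 8],
    [1, 2, 3, 5, 6, 8],
    [0, 1, 2, 3, 5, 7, 8],
    [2, 3, 5, 6, 8],
    [3, 5],
    [0, 7],
    [1, 3, 5],
    [0, 1, 7],
    [3, 8, 9],
    [0, 5, 7, 8, 9],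
    [0, 1, 5, 7, 8, 9],
    [1, 3, 8, 9],
    [0, 1, 2, 3, 4, 5, 6, 7, 9],
    [0, 1, 3, 4, 5, 9],
    [0, 4, 7, 8, 9],
    [3, 4, 5, 8, 9],
    [0, 7, 8, 9],
    [3, 5, 8, 9],
    [0, 1, 4, 5, 7, 8, 9],
    [1, 3, 4, 8, 9],
    [0, 1, 2, 3, 4, 7, 8, 9],
    [1, 2, 4, 5, 8, 9],
    [0, 1, 2, 5, 7, 8, 9],
    [1, 2, 3, 8, 9],
    [2, 6, 9],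
    [0, 2, 7, 9],
    [0, 2, 4, 7, 8, 9],
    [2, 3, 4, 5, 8, 9],
    [1, 2, 3, 6, 7, 8, 9],
    [0, 1, 5, 6, 8, 9],
    [0, 1, 2, 4, 5, 6, 9],
    [1, 2, 4, 5, 7, 9],
    [2],
    [0, 2, 3, 5, 7],
    [1, 3, 7, 8, 9],
    [0, 1, 5, 8, 9],
    [0, 1, 2, 4, 6, 7, 8, 9],
    [1, 3, 4, 5, 6, 8, 9],
    [0, 1, 2, 5, 6, 7, 9],
    [0, 1, 5, 9],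
    [0, 1, 2, 3, 5, 6, 8, 9],
    [1, 6, 7, 8, 9],
    [0, 2, 4, 6, 8, 9],
    [3, 4, 5, 6, 7, 8, 9],
    [0, 1, 2, 3, 4, 6, 7, 8, 9],
    [1, 4, 5, 6, 8, 9],
    [0, 1, 2, 3, 5, 7, 8, 9],
    [1, 2, 8, 9],
    [0, 1, 2, 5, 6, 8, 9],
    [1, 3, 6, 7, 8, 9],
    [1, 2, 3, 4, 5, 6, 7, 8, 9],
    [0, 1, 4, 6, 8, 9],
    [0, 3, 4, 5, 6, 7, 9],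
    [0, 2, 3, 4, 5, 9],
    [1, 2, 6, 7, 8, 9],
    [0, 1, 3, 5, 6, 8, 9],
    [1, 2, 5, 6, 7, 8, 9],
    [0, 1, 3, 6, 8, 9],
    [0, 1, 8, 9],
    [1, 3, 5, 7, 8, 9],
    [3, 4, 6, 7, 8, 9],
    [0, 2, 4, 5, 6, 8, 9],
    [0, 8, 9],
    [3, 5, 7, 8, 9],
    [3, 4, 7, 8, 9],
    [0, 4, 5, 8, 9],
    [1, 3, 4, 7, 8, 9],
    [0, 1, 4, 5, 8, 9],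
    [0, 2, 3, 5, 8, 9],
    [2, 7, 8, 9],
    [9],
    [2, 6, 7, 9],
    [0, 2, 3, 4, 5, 7, 8, 9],
    [2, 4, 8, 9],
    [0, 2, 4, 6, 7, 8],
    [0, 1, 4, 8],
    [0, 2, 3, 4, 6, 7, 8],
    [0, 1, 3, 4, 8],
    [1, 2, 3, 5, 9],
    [1, 3, 5, 6, 7, 9],
    [2, 3, 5, 6, 8, 9],
    [0, 6, 7, 8, 9],
    [4, 6, 7, 9],
    [2, 4, 9],
    [0, 2, 4, 7, 9],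
    [2, 4, 6, 9],
    [0, 2, 4, 6, 9],
    [2, 4, 7, 9],
    [0, 1, 2, 3, 5, 6, 7, 9],
    [0, 1, 3, 5, 9],
    [0, 1, 9],
    [0, 1, 2, 6, 7, 9],
    [1, 2, 3, 5, 6, 9],
    [0, 1, 2, 3, 5, 7, 9],
    [0, 3, 6, 7, 9],
    [0, 2, 3, 9],
    [1, 2, 4, 5, 6, 7, 9],
    [1, 4, 5, 9],
    [0, 1, 4, 6, 7, 8, 9],
    [1, 2, 3, 4, 5, 6, 8, 9],
    [1, 5, 7, 9],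
    [0, 1, 5, 6, 9],
    [1, 2, 6, 7, 9],
    [1, 9],
    [0, 1, 2, 3, 4, 5, 7, 8, 9],
    [1, 2, 4, 8, 9],
    [1, 2, 3, 6, 8, 9],
    [0, 1, 5, 6, 7, 8, 9],
    [0, 1, 2, 4, 5, 6, 7, 9],
    [0, 1, 4, 5, 9],
    [1, 8, 9],
    [0, 1, 3, 5, 7, 8, 9],
    [0, 1, 2, 3, 5, 8, 9],
    [1, 2, 7, 8, 9],
    [0, 2, 3, 8],
    [0, 1, 3, 6, 7, 8],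
    [0, 2, 3, 4, 5, 8],
    [0, 1, 3, 4, 5, 6, 7, 8],
    [2, 4, 5],
    [0, 2, 3, 4, 7],
    [3, 6, 7],
    [0, 2, 5, 6],
    [0, 5, 8, 9],
    [3, 7, 8, 9],
    [0, 2, 4, 6, 7, 8, 9],
    [3, 4, 5, 6, 8, 9],
    [2, 3, 5, 7, 8, 9],
    [0, 2, 8, 9],
    [1, 2, 5, 8, 9],
    [0, 1, 2, 3, 7, 8, 9],
    [0, 1, 2, 4, 5, 7, 8, 9],
    [1, 2, 3, 4, 8, 9],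
    [1, 2, 3, 4, 7, 8, 9],
    [0, 1, 2, 4, 5, 8, 9],
    [0, 1, 4, 5, 7, 9],
    [1, 4, 5, 6, 9],
    [0, 2, 5, 6, 7, 9],
    [0, 5, 9],
    [1, 2, 3, 5, 8, 9],
    [0, 1, 2, 7, 8, 9],
    [1, 2, 4, 5],
    [0, 1, 2, 3, 4, 7],
    [2, 5, 8, 9],
    [0, 2, 3, 7, 8, 9],
    [0, 3, 7, 8, 9],
    [5, 8, 9],
    [0, 3, 4, 7, 8, 9],
    [4, 5, 8, 9],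
    [4, 5, 7, 8, 9],
    [0, 3, 4, 8, 9],
    [0, 1, 3, 4, 8, 9],
    [1, 4, 5, 7, 8, 9],
    [0, 1, 2, 5, 9],
    [0, 1, 5, 6, 7, 9],
    [0, 4, 5, 7, 9],
    [4, 5, 6, 9],
    [4],
    [0, 3, 4, 5, 7],
    [5],
    [0, 3, 7],
    [4, 5, 6],
    [0, 2, 3, 4, 6, 7],
    [1, 7],
    [0, 1, 3, 5],
    [3, 4, 7],
    [0, 4, 5],
    [1, 2, 3, 4, 5, 7],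
    [0, 1, 2, 4],
    [1, 6],
    [0, 1, 2, 3, 5, 6, 7],
    [1, 8],
    [2, 6, 7, 8],
    [1, 5, 7],
    [0, 1, 3],
    [1, 2, 4, 5, 7],
    [0, 1, 2, 3, 4],
    [0, 1, 3, 5, 6, 7, 8],
    [0, 2, 3, 5, 8],
    [0, 1, 4, 5, 6, 7],
    [1, 2, 3, 4, 6],
    [0, 3, 7, 8],
    [1, 3, 6, 8],
    [0, 1, 3, 8],
    [0, 2, 3, 6, 7, 8],
    [2, 3, 5, 6],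
    [0, 6, 7],
    [0, 2, 3, 5, 6, 7, 8],
    [0, 1, 3, 5, 8],
    [0, 2, 3, 6, 8],
    [1, 2, 3, 7, 8],
    [1, 2, 4, 5, 8],
    [4, 5, 6, 7, 8],
    [2, 6],
    [0, 3, 5, 6, 7],
    [3, 4],
    [0, 4, 5, 7],
    [1, 2, 6, 7],
    [0, 1, 3, 5, 6],
    [2, 7],
    [0, 2, 3, 5],
    [3, 4, 5, 7],
    [0, 4],
    [1, 2, 3, 4, 7],
    [0, 1, 2, 4, 5],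
    [1, 4, 5, 7],
    [0, 1, 3, 4],
    [1, 2, 5, 7],
    [0, 1, 2, 3],
    [2, 4, 7],
    [0, 2, 3, 4, 5],
    [1, 2, 3, 7],
    [0, 1, 2, 5],
    [0, 1, 2, 3, 4, 5, 6],
    [1, 4, 6, 7],
    [3, 7],
    [0, 5],
    [1, 2, 7],
    [0, 1, 2, 3, 5],
    [1, 2, 4, 7],
    [0, 1, 2, 3, 4, 5],
    [1, 2, 3, 5, 7],
    [0, 1, 2],
    [3, 5, 6, 7, 8],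
    [1, 2, 3, 5, 8],
    [2, 3, 5, 8, 9],
    [0, 2, 7, 8, 9],
    [0, 1, 2, 5, 6, 8],
    [2, 5, 7, 8],
    [1, 3, 4, 6, 7, 8],
    [2, 3, 4, 8],
    [0, 2, 4, 6, 8],
    [1, 2, 4, 7, 8],
    [2, 3, 4, 7, 8, 9],
    [0, 2, 4, 5, 8, 9],
    [2, 3, 4, 6, 7],
    [0, 4, 5, 6],
    [0, 1, 6],
    [1, 2, 3, 5, 6, 7],
    [0, 1, 2, 3, 4, 5, 8],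
    [0, 3, 4, 5, 6, 7, 8],
    [2, 5, 6, 7, 8, 9],
    [0, 3, 6, 8, 9],
    [0, 2, 3, 4, 5, 6, 8],
    [1, 2, 3, 4, 5, 7, 8],
    [1, 2, 8],
    [6, 7, 8],
    [1, 3, 4, 5, 7],
    [0, 1, 4],
    [2, 3, 4, 7],
    [0, 2, 4, 5],
    [0, 1, 4, 6, 7, 9],
    [0, 1, 2, 4, 9],
    [1, 5],
    [0, 1, 3, 7],
    [0, 2, 3, 5, 7, 8, 9],
    [2, 8, 9],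
    [0, 2, 5, 6, 8, 9],
    [3, 6, 7, 8, 9],
    [2, 3, 4, 5, 6, 7, 8, 9],
    [0, 4, 6, 8, 9],
    [0, 2, 3, 5, 6, 8, 9],
    [6, 7, 8, 9],
    [0, 1, 2, 4, 6, 8, 9],
    [1, 3, 4, 5, 6, 7, 8, 9],
    [0, 2, 3, 4, 6, 7, 8, 9],
    [4, 5, 6, 8, 9],
    [2, 6, 7, 8, 9],
    [0, 3, 5, 6, 8, 9],
    [0, 1, 2, 4, 5, 6, 8, 9],
    [1, 3, 4, 6, 7, 8, 9],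
    [1, 2],
    [0, 1, 2, 3, 5, 7],
    [1, 2, 3, 4],
    [0, 1, 2, 4, 5, 7],
    [0, 2, 5, 6, 7, 8, 9],
    [3, 6, 8, 9],
    [0, 1, 2, 6, 8, 9],
    [1, 3, 5, 6, 7, 8, 9],
    [0, 2, 3, 4, 6, 8, 9],
    [4, 5, 6, 7, 8, 9],
    [4, 8, 9],
    [0, 3, 4, 5, 7, 8, 9],
    [2, 4, 6, 7, 8, 9],
    [0, 3, 4, 5, 6, 8, 9],
    [0, 2, 3, 5, 6, 7, 8, 9],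
    [6, 8, 9],
    [0, 1, 3, 4, 6, 7, 8, 9],
    [1, 2, 4, 5, 6, 8, 9],
    [1, 2, 4, 5, 6, 7, 8, 9],
    [0, 1, 3, 4, 6, 8, 9],
    [0, 4, 6, 7, 9],
    [0, 2, 4, 9],
    [0, 5, 7, 9],
    [5, 6, 9],
    [0, 1, 4, 7, 9],
    [1, 4, 6, 9],
    [2, 4, 5, 6, 7, 8, 9],
    [0, 3, 4, 6, 8, 9],
    [0, 1, 2, 3, 4, 6, 7, 8],
    [0, 3, 4, 8],
    [2, 3, 4, 8, 9],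
    [0, 2, 4, 5, 7, 8, 9],
    [0, 2, 4, 5, 6, 7, 9],
    [0, 4, 5, 9],
    [8, 9],
    [0, 3, 5, 7, 8, 9],
    [1, 5, 8, 9],
    [0, 1, 3, 7, 8, 9],
    [0, 1, 3, 4, 7, 8, 9],
    [1, 4, 5, 8, 9],
    [0, 2, 5, 9],
    [0, 5, 6, 7, 9],
    [5, 7, 9],
    [0, 5, 6, 9],
    [2, 3, 6, 8, 9],
    [0, 5, 6, 7, 8, 9],
    [0, 2, 5, 6, 8],
    [1, 2, 5, 7, 8],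
    [0, 2, 3, 5, 6, 8],
    [1, 2, 3, 5, 7, 8],
    [3, 4, 5, 7, 9],
    [0, 3, 4, 5, 6, 9],
    [4, 7, 9],
    [0, 4, 6, 9],
    [0, 2, 7],
    [2, 3, 5],
    [2, 6, 8, 9],
    [0, 3, 5, 6, 7, 8, 9],
    [1, 3, 6, 7],
    [0, 1, 2, 5, 6],
    [1, 3, 4, 5, 6, 7],
    [0, 1, 2, 4, 6],
    [0, 1, 2, 7],
    [1, 2, 3, 5],
    [1, 3, 4, 6, 8],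
    [0, 3, 4, 7, 8],
    [0, 2, 5, 7, 8],
    [1, 2, 5, 6, 8],
    [1, 2, 4, 6, 7, 8],
    [4, 8],
    [0, 1, 2, 5, 6, 7, 8, 9],
    [1, 3, 6, 8, 9],
    [3, 5, 6, 7, 8, 9],
    [0, 2, 6, 8, 9],
    [1, 3, 7, 9],
    [0, 1, 3, 6, 9],
    [0, 4, 7, 9],
    [4, 6, 9],
    [0, 7, 9],
    [6, 9],
    [1, 3, 4, 5, 7, 9],
    [0, 1, 3, 4, 5, 6, 9],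
    [0, 1, 3, 4, 5, 7, 8, 9],
    [1, 4, 8, 9],
    [1, 7, 8, 9],
    [0, 1, 3, 5, 8, 9],
    [0, 3, 5, 8, 9],
    [7, 8, 9],
    [0, 1, 7, 9],
    [1, 6, 9],
    [1, 4],
    [0, 1, 3, 4, 5, 7],
    [3, 6, 7, 9],
    [2, 3, 9],
    [1, 3, 6, 7, 9],
    [1, 2, 3, 9],
    [2, 6, 7],
    [0, 3, 5, 6],
    [4, 5, 7],
    [0, 3, 4],
    [2, 5, 7],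
    [0, 2, 3],
    [2, 3, 7],
    [0, 2, 5],
    [0, 2, 3, 4, 5, 6],
    [4, 6, 7],
    [1, 3, 7],
    [0, 1, 5],
    [2, 3, 5, 7],
    [0, 2],
    [1, 3, 5, 6, 7, 8],
    [2, 3, 5, 8],
    [3, 4, 6, 7, 8],
    [1, 2, 3, 4, 8],
    [0, 1, 2, 4, 6, 8],
    [2, 4, 7, 8],
    [1, 2, 3, 4, 6, 7],
    [0, 1, 4, 5, 6],
    [0, 6],
    [2, 3, 5, 6, 7],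
    [0, 1, 2, 3, 4, 5, 6, 8],
    [2, 3, 4, 5, 7, 8],
    [2, 8],
    [1, 6, 7, 8],
    [0, 4, 5, 7, 8],
    [1, 4, 5, 6, 8],
    [0, 1, 4, 5, 8],
    [0, 2, 4, 5, 6, 7, 8],
    [0, 8],
    [0, 1, 2, 6, 7, 8],
    [0, 3, 4, 6],
    [2, 4, 5, 6, 7],
    [0, 1, 4, 6, 7, 8],
    [0, 2, 4, 8],
    [0, 1, 2, 3, 4, 5, 7, 8],
    [2, 3, 4, 5, 6, 8],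
    [0, 5, 6, 7, 8],
    [0, 1, 2, 5, 8],
    [0, 2, 3, 6],
    [5, 6, 7],
    [0, 1, 3, 5, 6, 7, 8, 9],
    [1, 2, 6, 8, 9],
    [3, 7, 9],
    [0, 3, 6, 9],
    [0, 1, 4, 5, 7, 8],
    [4, 5, 6, 8],
    [3, 5, 6, 8],
    [0, 1, 3, 5, 7, 8],
    [0, 4, 5, 6, 8],
    [1, 4, 5, 7, 8],
    [3, 4, 5, 6, 7],
    [0, 2, 4, 6],
    [1, 2, 4, 6, 7, 8, 9],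
    [0, 1, 3, 4, 5, 6, 8, 9],
    [3],
    [0, 5, 7],
    [0, 2, 3, 6, 7],
    [5, 6],
    [0, 1, 2, 3, 4, 6, 8],
    [2, 3, 4, 7, 8],
    [0, 1, 2, 5, 7, 8],
    [2, 5, 6, 8],
    [1, 5, 6, 7, 8],
    [2, 5, 8],
    [0, 1, 2, 3, 5, 6, 8],
    [2, 3, 5, 7, 8],
    [2, 4, 5, 6, 8, 9],
    [0, 3, 4, 6, 7, 8, 9],
    [0, 1, 2, 3, 4, 6, 8, 9],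
    [1, 4, 5, 6, 7, 8, 9],
    [0, 1, 2, 3, 5, 6, 7, 8, 9],
    [1, 6, 8, 9],
    [0, 1, 5, 7, 9],
    [1, 5, 6, 9],
    [0, 2, 3, 4, 6, 8],
    [1, 2, 3, 4, 7, 8],
    [2, 3, 4],
    [0, 2, 4, 5, 7],
    [1, 4, 6, 7, 8],
    [2, 4, 8],
    [4, 6, 7, 8],
    [1, 2, 4, 8],
    [0, 1, 2, 3, 4, 5, 6, 7],
    [1, 4, 6],
    [1, 4, 7, 9],
    [0, 1, 4, 6, 9],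
    [0, 1, 3, 4, 5, 6, 7],
    [1, 2, 4, 6],
    [3, 4, 6, 8],
    [0, 1, 3, 4, 7, 8],
    [2, 4, 6, 7, 8],
    [1, 4, 8],
    [0, 1, 2, 4, 7, 8],
    [2, 4, 6, 8],
    [0, 1, 2, 3, 6, 7],
    [1, 5, 6],
    [2, 5, 6, 7, 8],
    [1, 5, 8],
    [1, 3, 4, 5, 6, 7, 9],
    [1, 2, 3, 4, 5, 9],
    [2, 3, 4, 5, 9],
    [3, 4, 5, 6, 7, 9],
    [0, 4, 5, 8],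
    [0, 1, 2, 4, 5, 6, 7, 8],
    [0, 1, 8],
    [0, 2, 6, 7, 8],
    [0, 1, 3, 4, 6],
    [1, 2, 4, 5, 6, 7],
    [0, 4, 6, 7, 8],
    [0, 1, 2, 4, 8],
    [0, 2, 3, 4, 5, 7, 8],
    [1, 2, 3, 4, 5, 6, 8],
    [0, 1, 5, 6, 7, 8],
    [0, 2, 5, 8],
    [0, 1, 2, 3, 6],
    [1, 5, 6, 7],
    [1, 3, 5, 6, 8],
    [0, 3, 5, 7, 8],
    [0, 1, 4, 5, 6, 8],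
    [4, 5, 7, 8],
    [1, 3],
    [0, 1, 5, 7],
    [5, 6, 7, 8],
    [1, 2, 5, 8],
    [0, 1, 7, 8],
    [6, 8],
    [0, 6, 8],
    [1, 7, 8],
    [0, 2, 3, 7, 8],
    [1, 2, 3, 6, 8],
    [0, 3, 4, 5, 6, 7],
    [2, 4, 6],
    [0, 1, 6, 8],
    [7, 8],
    [0, 7, 8],
    [1, 6, 8],
    [0, 2, 3, 4, 5, 6, 7],
    [4, 6],
    [0, 2, 4, 7, 8],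
    [1, 2, 4, 6, 8],
    [1, 3, 4, 5],
    [0, 1, 4, 7],
    [2, 5, 6],
    [0, 3, 6, 7],
    [1, 2, 5, 6],
    [0, 1, 3, 6, 7],
    [1, 2, 5, 6, 7, 8],
    [5, 8],
    [0, 1, 2, 3, 7, 8],
    [2, 3, 6, 8],
    [3, 4, 5],
    [0, 4, 7]]

/-- The certificate for the prime 2. -/
def cert2 : SchurPath.Cert where
  m := 10
  rels := [([0, 0], []),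
    ([1, 0], [0, 1]),
    ([1, 1], []),
    ([2, 0], [0, 2]),
    ([2, 1], [1, 2]),
    ([2, 2], []),
    ([3, 0], [0, 3]),
    ([3, 1], [1, 3]),
    ([3, 2], [2, 3]),
    ([3, 3], []),
    ([4, 0], [0, 4]),
    ([4, 1], [1, 4]),
    ([4, 2], [2, 4]),
    ([4, 3], [3, 4]),
    ([4, 4], []),
    ([5, 0], [0, 5]),
    ([5, 1], [1, 5]),
    ([5, 2], [2, 5]),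
    ([5, 3], [3, 5]),
    ([5, 4], [4, 5]),
    ([5, 5], []),
    ([6, 0], [0, 6]),
    ([6, 1], [1, 6]),
    ([6, 2], [2, 6]),
    ([6, 3], [3, 6]),
    ([6, 4], [0, 4, 6]),
    ([6, 5], [2, 5, 6]),
    ([6, 6], [0, 2]),
    ([7, 0], [0, 7]),
    ([7, 1], [1, 7]),
    ([7, 2], [0, 2, 7]),
    ([7, 3], [1, 3, 7]),
    ([7, 4], [4, 7]),
    ([7, 5], [4, 5, 7]),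
    ([7, 6], [0, 1, 2, 4, 6, 7]),
    ([7, 7], [1, 4]),
    ([8, 0], [0, 8]),
    ([8, 1], [1, 8]),
    ([8, 2], [2, 8]),
    ([8, 3], [3, 8]),
    ([8, 4], [1, 2, 4, 8]),
    ([8, 5], [0, 2, 3, 5, 8]),
    ([8, 6], [1, 2, 3, 6, 8]),
    ([8, 7], [1, 5, 6, 7, 8]),
    ([8, 8], [0, 1, 3]),
    ([9, 0], [0, 9]),
    ([9, 1], [0, 1, 9]),
    ([9, 2], [0, 2, 9]),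
    ([9, 3], [0, 1, 2, 3, 9]),
    ([9, 4], [0, 1, 2, 4, 9]),
    ([9, 5], [1, 2, 3, 4, 5, 9]),
    ([9, 6], [1, 3, 4, 6, 9]),
    ([9, 7], [2, 4, 5, 6, 7, 9]),
    ([9, 8], [0, 2, 4, 8, 9]),
    ([9, 9], [3, 4]),
    ([10, 0], [0, 1, 3, 5, 10]),
    ([10, 1], [1, 10]),
    ([10, 2], [1, 2, 4, 5, 10]),
    ([10, 3], [3, 10]),
    ([10, 4], [4, 10]),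
    ([10, 5], [5, 10]),
    ([11, 2], [0, 2, 5, 6, 7, 8, 9, 11]),
    ([11, 3, 6], [0, 1, 6, 11]),
    ([11, 1, 3, 4, 5], [0, 4, 5, 11]),
    ([11, 1, 4, 7, 8, 9], [0, 5, 6, 7, 8, 9, 11]),
    ([12, 0], [0, 1, 3, 4, 5, 8, 12]),
    ([12, 2], [0, 4, 5, 6, 12]),
    ([12, 1, 4], [1, 4, 5, 6, 12]),
    ([12, 3, 5], [0, 1, 6, 8, 12]),
    ([12, 7, 8, 9], [0, 2, 4, 5, 6, 12]),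
    ([13, 1, 2], [0, 2, 3, 6, 9, 13]),
    ([13, 1, 4], [0, 2, 3, 4, 13]),
    ([13, 8, 9], [0, 1, 2, 13]),
    ([13, 1, 6, 7], [4, 5, 6, 8, 9, 13]),
    ([13, 3, 5, 6], [2, 5, 8, 13])]
  paths := [([6, 6, 6], [([], [6], 27, false),
      ([0], [], 23, true),
      ([], [2], 21, true),
      ([6], [], 27, true)]),
    ([7, 7, 7], [([], [7], 35, false),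
      ([1], [], 32, true),
      ([], [4], 29, true),
      ([7], [], 35, true)]),
    ([8, 8, 8], [([], [8], 44, false),
      ([0, 1], [], 39, true),
      ([0], [3], 37, true),
      ([], [1, 3], 36, true),
      ([8], [], 44, true)]),
    ([6, 6, 1], [([], [1], 27, false),
      ([0], [], 4, false),
      ([], [2], 1, true),
      ([1], [], 27, true),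
      ([], [6], 22, true),
      ([6], [], 22, true)]),
    ([6, 6, 3], [([], [3], 27, false),
      ([0], [], 8, true),
      ([], [2], 6, true),
      ([3], [], 27, true),
      ([], [6], 24, true),
      ([6], [], 24, true)]),
    ([6, 4, 4], [([], [4], 25, false),
      ([0, 4], [], 25, false),
      ([0], [4, 6], 10, false),
      ([], [4, 4, 6], 0, false),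
      ([], [6], 14, false),
      ([6], [], 14, true)]),
    ([6, 5, 5], [([], [5], 26, false),
      ([2, 5], [], 26, false),
      ([2], [5, 6], 17, false),
      ([], [5, 5, 6], 5, false),
      ([], [6], 20, false),
      ([6], [], 20, true)]),
    ([7, 7, 0], [([], [0], 35, false),
      ([1], [], 10, false),
      ([], [4], 1, false),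
      ([0], [], 35, true),
      ([], [7], 28, true),
      ([7], [], 28, true)]),
    ([7, 2, 2], [([], [2], 30, false),
      ([0, 2], [], 30, false),
      ([0], [2, 7], 3, false),
      ([], [2, 2, 7], 0, false),
      ([], [7], 5, false),
      ([7], [], 5, true)]),
    ([7, 3, 3], [([], [3], 31, false),
      ([1, 3], [], 31, false),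
      ([1], [3, 7], 7, false),
      ([], [3, 3, 7], 2, false),
      ([], [7], 9, false),
      ([7], [], 9, true)]),
    ([7, 5, 5], [([], [5], 33, false),
      ([4, 5], [], 33, false),
      ([4], [5, 7], 19, false),
      ([], [5, 5, 7], 14, false),
      ([], [7], 20, false),
      ([7], [], 20, true)]),
    ([9, 9, 0], [([], [0], 54, false),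
      ([3], [], 10, false),
      ([], [4], 6, false),
      ([0], [], 54, true),
      ([], [9], 45, true),
      ([9], [], 45, true)]),
    ([6, 6, 0], [([], [0], 27, false),
      ([0], [], 3, false),
      ([], [2], 0, false),
      ([], [2], 0, true),
      ([0], [], 27, true),
      ([], [6], 21, true),
      ([6], [], 21, true)]),
    ([7, 7, 1], [([], [1], 35, false),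
      ([1], [], 11, false),
      ([], [4], 2, false),
      ([], [4], 2, true),
      ([1], [], 35, true),
      ([], [7], 29, true),
      ([7], [], 29, true)]),
    ([6, 6, 4], [([], [4], 27, false),
      ([0], [], 12, true),
      ([], [2], 10, true),
      ([4], [], 27, true),
      ([], [4, 6, 6], 0, true),
      ([0], [6], 25, true),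
      ([], [4, 6], 21, true),
      ([6], [], 25, true)]),
    ([6, 6, 5], [([], [5], 27, false),
      ([0], [], 17, true),
      ([], [2], 15, true),
      ([5], [], 27, true),
      ([], [5, 6, 6], 5, true),
      ([2], [6], 26, true),
      ([], [5, 6], 23, true),
      ([6], [], 26, true)]),
    ([7, 7, 2], [([], [2], 35, false),
      ([1], [], 12, false),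
      ([], [4], 4, true),
      ([2], [], 35, true),
      ([], [2, 7, 7], 0, true),
      ([0], [7], 30, true),
      ([], [2, 7], 28, true),
      ([7], [], 30, true)]),
    ([7, 7, 3], [([], [3], 35, false),
      ([1], [], 13, false),
      ([], [4], 7, true),
      ([3], [], 35, true),
      ([], [3, 7, 7], 2, true),
      ([1], [7], 31, true),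
      ([], [3, 7], 29, true),
      ([7], [], 31, true)]),
    ([7, 7, 5], [([], [5], 35, false),
      ([1], [], 19, true),
      ([], [4], 16, true),
      ([5], [], 35, true),
      ([], [5, 7, 7], 14, true),
      ([4], [7], 33, true),
      ([], [5, 7], 32, true),
      ([7], [], 33, true)]),
    ([8, 8, 1], [([], [1], 44, false),
      ([0, 1], [], 7, false),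
      ([0], [3], 2, false),
      ([0], [3], 2, true),
      ([], [1, 3], 1, true),
      ([1], [], 44, true),
      ([], [8], 37, true),
      ([8], [], 37, true)]),
    ([9, 9, 1], [([], [1], 54, false),
      ([3], [], 11, false),
      ([], [4], 7, false),
      ([1], [], 54, true),
      ([], [1, 9, 9], 0, true),
      ([0], [9], 46, true),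
      ([], [1, 9], 45, true),
      ([9], [], 46, true)]),
    ([9, 9, 2], [([], [2], 54, false),
      ([3], [], 12, false),
      ([], [4], 8, false),
      ([2], [], 54, true),
      ([], [2, 9, 9], 0, true),
      ([0], [9], 47, true),
      ([], [2, 9], 45, true),
      ([9], [], 47, true)]),
    ([8, 4, 4], [([], [4], 40, false),
      ([1, 2, 4], [], 40, false),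
      ([1, 2], [2, 4, 8], 11, false),
      ([1], [4, 2, 4, 8], 4, false),
      ([], [2, 4, 2, 4, 8], 2, false),
      ([2], [4, 8], 12, false),
      ([], [4, 4, 8], 5, false),
      ([], [8], 14, false),
      ([8], [], 14, true)]),
    ([10, 3, 2], [([], [2], 58, false),
      ([3], [], 57, false),
      ([], [2, 4, 5, 10], 7, false),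
      ([1], [4, 5, 10], 8, false),
      ([1, 2], [5, 10], 13, true),
      ([1, 2, 4], [10], 18, true),
      ([1, 2, 4, 5], [], 58, true),
      ([], [3], 57, true),
      ([10], [], 8, true)]),
    ([10, 4, 0], [([], [0], 59, false),
      ([4], [], 55, false),
      ([], [1, 3, 5, 10], 10, false),
      ([0], [3, 5, 10], 11, false),
      ([0, 1], [5, 10], 13, false),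
      ([0, 1, 3], [10], 19, true),
      ([0, 1, 3, 5], [], 59, true),
      ([], [4], 55, true),
      ([10], [], 10, true)]),
    ([8, 7, 1], [([], [1], 43, false),
      ([1, 5, 6, 7], [], 37, false),
      ([1, 5, 6], [8], 29, false),
      ([1, 5], [7, 8], 22, false),
      ([1], [6, 7, 8], 16, false),
      ([], [5, 6, 7, 8], 2, false),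
      ([], [5, 6, 7, 8], 2, true),
      ([1], [], 43, true),
      ([], [7], 37, true),
      ([8], [], 29, true)]),
    ([10, 1, 0], [([], [0], 56, false),
      ([1], [], 55, false),
      ([], [1, 3, 5, 10], 1, false),
      ([0], [3, 5, 10], 2, false),
      ([0], [3, 5, 10], 2, true),
      ([0, 1], [5, 10], 7, true),
      ([0, 1, 3], [10], 16, true),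
      ([0, 1, 3, 5], [], 56, true),
      ([], [1], 55, true),
      ([10], [], 1, true)]),
    ([8, 8, 4], [([], [4], 44, false),
      ([0, 1], [], 13, true),
      ([0], [3], 11, true),
      ([], [1, 3], 10, true),
      ([4], [], 44, true),
      ([], [4, 8, 8], 5, true),
      ([], [2, 2, 4, 8, 8], 2, true),
      ([1], [2, 4, 8, 8], 4, true),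
      ([1, 2], [8], 40, true),
      ([1], [4, 8], 38, true),
      ([], [2, 4, 8], 37, true),
      ([8], [], 40, true)]),
    ([8, 5, 5], [([], [5], 41, false),
      ([0, 2, 3, 5], [], 41, false),
      ([0, 2, 3], [2, 3, 5, 8], 15, false),
      ([0, 2], [5, 2, 3, 5, 8], 6, false),
      ([0], [3, 5, 2, 3, 5, 8], 3, false),
      ([], [2, 3, 5, 2, 3, 5, 8], 0, false),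
      ([2, 3], [3, 5, 8], 17, false),
      ([2], [5, 3, 5, 8], 8, false),
      ([], [3, 5, 3, 5, 8], 5, false),
      ([3], [5, 8], 18, false),
      ([], [5, 5, 8], 9, false),
      ([], [8], 20, false),
      ([8], [], 20, true)]),
    ([8, 7, 2], [([], [2], 43, false),
      ([1, 5, 6, 7], [], 38, false),
      ([1, 5, 6], [8], 30, false),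
      ([1, 5], [2, 7, 8], 21, false),
      ([1], [6, 2, 7, 8], 15, false),
      ([], [5, 6, 2, 7, 8], 1, false),
      ([0, 1, 5], [7, 8], 23, false),
      ([0, 1], [6, 7, 8], 17, false),
      ([0], [5, 6, 7, 8], 4, true),
      ([0, 2], [], 43, true),
      ([0], [7], 38, true),
      ([], [2, 7], 36, true),
      ([8], [], 30, true)]),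
    ([9, 9, 9], [([], [9], 54, false),
      ([], [3, 4, 9], 5, true),
      ([2], [4, 9], 8, true),
      ([], [2, 3, 2, 4, 9], 2, true),
      ([1], [3, 2, 4, 9], 4, true),
      ([1, 2], [2, 4, 9], 7, true),
      ([], [1, 2, 3, 1, 2, 4, 9], 0, true),
      ([0], [2, 3, 1, 2, 4, 9], 1, true),
      ([0, 1], [3, 1, 2, 4, 9], 3, true),
      ([0, 1, 2], [1, 2, 4, 9], 6, true),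
      ([0, 1, 2, 3], [], 49, true),
      ([], [4], 48, true),
      ([9], [], 54, true)]),
    ([10, 0, 0], [([], [0], 55, false),
      ([0, 1, 3, 5], [], 55, false),
      ([0, 1, 3], [1, 3, 5, 10], 15, false),
      ([0, 1], [5, 1, 3, 5, 10], 6, false),
      ([0], [3, 5, 1, 3, 5, 10], 1, false),
      ([], [1, 3, 5, 1, 3, 5, 10], 0, false),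
      ([1, 3], [3, 5, 10], 16, false),
      ([1], [5, 3, 5, 10], 7, false),
      ([], [3, 5, 3, 5, 10], 2, false),
      ([3], [5, 10], 18, false),
      ([], [5, 5, 10], 9, false),
      ([], [10], 20, false),
      ([10], [], 0, true)]),
    ([8, 7, 3], [([], [3], 43, false),
      ([1, 5, 6, 7], [], 39, false),
      ([1, 5, 6], [8], 31, false),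
      ([1, 5], [3, 7, 8], 22, false),
      ([1], [6, 3, 7, 8], 16, false),
      ([], [5, 6, 3, 7, 8], 2, false),
      ([5], [7, 8], 24, false),
      ([], [6, 7, 8], 18, false),
      ([], [3, 5, 6, 7, 8], 2, true),
      ([1], [5, 6, 7, 8], 7, true),
      ([1, 3], [], 43, true),
      ([1], [7], 39, true),
      ([], [3, 7], 37, true),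
      ([8], [], 31, true)]),
    ([9, 9, 3], [([], [3], 54, false),
      ([3], [], 13, false),
      ([], [4], 9, false),
      ([], [4], 9, true),
      ([3], [], 54, true),
      ([], [3, 9, 9], 5, true),
      ([], [2, 2, 3, 9, 9], 2, true),
      ([1], [2, 3, 9, 9], 4, true),
      ([], [1, 2, 1, 2, 3, 9, 9], 0, true),
      ([0], [2, 1, 2, 3, 9, 9], 1, true),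
      ([0, 1], [1, 2, 3, 9, 9], 3, true),
      ([0, 1, 2], [9], 48, true),
      ([], [2, 9, 3, 9], 1, true),
      ([1], [3, 9], 47, true),
      ([], [1, 9, 2, 3, 9], 0, true),
      ([0], [2, 3, 9], 46, true),
      ([], [1, 2, 3, 9], 45, true),
      ([9], [], 48, true)]),
    ([9, 6, 6], [([], [6], 51, false),
      ([1, 3, 4, 6], [], 51, false),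
      ([1, 3, 4], [3, 4, 6, 9], 22, false),
      ([1, 3], [6, 3, 4, 6, 9], 11, false),
      ([1], [4, 6, 3, 4, 6, 9], 7, false),
      ([], [3, 4, 6, 3, 4, 6, 9], 2, false),
      ([3, 4], [4, 6, 9], 24, false),
      ([3], [6, 4, 6, 9], 13, false),
      ([], [4, 6, 4, 6, 9], 9, false),
      ([4], [6, 9], 25, false),
      ([], [4, 6, 6, 9], 10, false),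
      ([0], [6, 6, 9], 14, false),
      ([0], [9], 27, false),
      ([], [2, 9], 0, false),
      ([], [2, 9], 0, true),
      ([0], [], 47, true),
      ([], [2], 45, true),
      ([9], [], 27, true)]),
    ([12, 2, 2], [([], [2], 66, false),
      ([0, 4, 5, 6], [], 66, false),
      ([0, 4, 5], [4, 5, 6, 12], 21, false),
      ([0, 4], [6, 4, 5, 6, 12], 15, false),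
      ([0], [5, 6, 4, 5, 6, 12], 10, false),
      ([], [4, 5, 6, 4, 5, 6, 12], 0, false),
      ([4, 5], [5, 6, 12], 25, false),
      ([4], [4, 6, 5, 6, 12], 15, false),
      ([], [5, 4, 6, 5, 6, 12], 10, false),
      ([0, 4], [6, 5, 6, 12], 19, false),
      ([0], [5, 6, 5, 6, 12], 14, false),
      ([0, 5], [6, 12], 26, false),
      ([0], [5, 6, 6, 12], 17, false),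
      ([0, 2], [6, 6, 12], 20, false),
      ([0, 2], [12], 27, false),
      ([0], [2, 12], 3, false),
      ([], [2, 2, 12], 0, false),
      ([], [12], 5, false),
      ([12], [], 5, true)]),
    ([7, 7, 6], [([], [6], 35, false),
      ([], [1, 4, 6], 0, true),
      ([0], [4, 6], 1, true),
      ([0, 1], [], 25, true),
      ([0], [4], 22, true),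
      ([0, 6], [], 35, true),
      ([0], [6, 7, 7], 14, true),
      ([0], [4, 4, 6, 7, 7], 5, true),
      ([0, 2], [4, 6, 7, 7], 12, true),
      ([0], [2, 4, 2, 4, 6, 7, 7], 2, true),
      ([0, 1], [4, 2, 4, 6, 7, 7], 4, true),
      ([0, 1, 2], [2, 4, 6, 7, 7], 11, true),
      ([], [2, 4, 1, 2, 4, 6, 7, 7], 1, true),
      ([1], [4, 1, 2, 4, 6, 7, 7], 3, true),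
      ([1, 2], [1, 2, 4, 6, 7, 7], 10, true),
      ([1, 2, 4], [7], 34, true),
      ([1, 2], [6, 7], 32, true),
      ([], [1, 2, 7, 4, 6, 7], 0, true),
      ([0], [2, 7, 4, 6, 7], 1, true),
      ([0, 1], [4, 6, 7], 30, true),
      ([0], [2, 4, 6, 7], 29, true),
      ([], [1, 2, 4, 6, 7], 28, true),
      ([7], [], 34, true)]),
    ([9, 9, 8], [([], [8], 54, false),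
      ([], [3, 4, 8], 5, true),
      ([2], [4, 8], 8, true),
      ([], [2, 3, 2, 4, 8], 2, true),
      ([1], [3, 2, 4, 8], 4, true),
      ([1, 2], [2, 4, 8], 7, true),
      ([1, 2, 3], [], 40, true),
      ([1, 2], [4], 39, true),
      ([1, 2, 8], [], 54, true),
      ([1, 2], [8, 9, 9], 14, true),
      ([1], [4, 8, 9, 9], 12, true),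
      ([], [1, 4, 2, 4, 8, 9, 9], 0, true),
      ([0], [4, 2, 4, 8, 9, 9], 1, true),
      ([0, 1], [2, 4, 8, 9, 9], 10, true),
      ([0, 1, 4], [9], 53, true),
      ([0, 1], [4, 9, 8, 9], 5, true),
      ([0], [2, 4, 9, 8, 9], 4, true),
      ([], [1, 2, 4, 9, 8, 9], 3, true),
      ([2], [8, 9], 49, true),
      ([], [2, 9, 4, 8, 9], 0, true),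
      ([0], [4, 8, 9], 47, true),
      ([], [2, 4, 8, 9], 45, true),
      ([9], [], 53, true)]),
    ([13, 8, 9, 8, 9], [([], [8, 9], 72, false),
      ([0, 1, 2], [], 72, false),
      ([0, 1], [1, 2, 13], 3, false),
      ([0], [2, 1, 2, 13], 1, false),
      ([], [1, 2, 1, 2, 13], 0, false),
      ([1], [2, 13], 4, false),
      ([], [2, 2, 13], 2, false),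
      ([], [13], 5, false),
      ([13], [], 14, true),
      ([13], [4, 4], 9, true),
      ([13, 3], [4], 13, true),
      ([13, 3, 4], [], 54, true),
      ([13], [9, 9], 13, true),
      ([13], [4, 3, 9, 9], 2, true),
      ([13, 1], [3, 9, 9], 11, true),
      ([13], [1, 4, 1, 3, 9, 9], 0, true),
      ([13, 0], [4, 1, 3, 9, 9], 1, true),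
      ([13, 0, 1], [1, 3, 9, 9], 10, true),
      ([13, 0, 1, 4], [9, 9], 44, true),
      ([13, 0, 1], [4, 8, 8, 9, 9], 5, true),
      ([13, 0], [2, 4, 8, 8, 9, 9], 4, true),
      ([13, 0, 2], [8, 9, 9], 40, true),
      ([13, 0], [4, 8, 9, 9], 38, true),
      ([13], [2, 4, 8, 9, 9], 36, true),
      ([13, 8], [9], 53, true)]),
    ([12, 3, 5, 3, 5], [([], [3, 5], 68, false),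
      ([0, 1, 6, 8], [], 68, false),
      ([0, 1, 6], [1, 6, 8, 12], 36, false),
      ([0, 1], [8, 1, 6, 8, 12], 21, false),
      ([0], [6, 8, 1, 6, 8, 12], 1, false),
      ([], [1, 6, 8, 1, 6, 8, 12], 0, false),
      ([1, 6], [6, 8, 12], 37, false),
      ([1], [8, 6, 8, 12], 22, false),
      ([], [6, 8, 6, 8, 12], 2, false),
      ([6], [8, 12], 42, false),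
      ([], [2, 3, 6, 8, 8, 12], 22, false),
      ([1], [3, 6, 8, 8, 12], 23, false),
      ([1, 2], [6, 8, 8, 12], 24, false),
      ([1, 2, 3], [8, 8, 12], 27, false),
      ([1, 2], [2, 8, 8, 12], 6, false),
      ([1], [3, 2, 8, 8, 12], 3, false),
      ([], [2, 3, 2, 8, 8, 12], 1, false),
      ([0, 1, 2], [8, 8, 12], 8, false),
      ([0, 1], [3, 8, 8, 12], 5, false),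
      ([0, 1, 3], [12], 44, false),
      ([0, 1], [1, 3, 12], 6, false),
      ([0], [3, 1, 3, 12], 1, false),
      ([], [1, 3, 1, 3, 12], 0, false),
      ([1], [3, 12], 7, false),
      ([], [3, 3, 12], 2, false),
      ([], [12], 9, false),
      ([12], [], 20, true),
      ([12], [5, 5], 9, true),
      ([12, 3], [5], 18, true)]),
    ([8, 8, 7], [([], [7], 44, false),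
      ([0], [], 31, true),
      ([0], [7, 3], 2, true),
      ([0, 1], [3], 29, true),
      ([], [7, 1, 3], 1, true),
      ([1], [1, 3], 28, true),
      ([1, 7], [], 44, true),
      ([1], [7, 8, 8], 5, true),
      ([], [1, 2, 2, 7, 8, 8], 0, true),
      ([0], [2, 2, 7, 8, 8], 1, true),
      ([0, 1], [2, 7, 8, 8], 3, true),
      ([0, 1, 2], [7, 8, 8], 27, true),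
      ([0, 1, 2], [6, 6, 7, 8, 8], 20, true),
      ([0, 1], [5, 6, 6, 7, 8, 8], 17, true),
      ([0, 1, 5], [6, 7, 8, 8], 26, true),
      ([0], [6, 5, 6, 7, 8, 8], 16, true),
      ([0, 5], [5, 6, 7, 8, 8], 22, true),
      ([0, 5, 6], [8], 43, true),
      ([0], [5, 6, 8, 7, 8], 9, true),
      ([0, 3], [6, 8, 7, 8], 18, true),
      ([0], [3, 5, 3, 6, 8, 7, 8], 5, true),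
      ([0, 2], [5, 3, 6, 8, 7, 8], 8, true),
      ([0, 2, 3], [3, 6, 8, 7, 8], 17, true),
      ([0], [2, 3, 5, 2, 3, 6, 8, 7, 8], 2, true),
      ([0, 1], [3, 5, 2, 3, 6, 8, 7, 8], 4, true),
      ([0, 1, 2], [5, 2, 3, 6, 8, 7, 8], 7, true),
      ([0, 1, 2, 3], [2, 3, 6, 8, 7, 8], 16, true),
      ([0, 1, 2, 3, 5], [7, 8], 42, true),
      ([], [2, 3, 5, 8, 6, 7, 8], 1, true),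
      ([1], [6, 7, 8], 41, true),
      ([], [5, 6, 7, 8], 37, true),
      ([8], [], 43, true)]),
    ([8, 7, 7], [([], [7], 43, false),
      ([1, 5, 6, 7], [], 43, false),
      ([1, 5, 6], [5, 6, 7, 8], 29, false),
      ([1, 5], [7, 5, 6, 7, 8], 22, false),
      ([1], [6, 7, 5, 6, 7, 8], 16, false),
      ([], [5, 6, 7, 5, 6, 7, 8], 2, false),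
      ([5, 6], [6, 7, 8], 33, false),
      ([5], [5, 7, 6, 7, 8], 25, false),
      ([], [4, 6, 5, 7, 6, 7, 8], 15, false),
      ([0], [6, 5, 7, 6, 7, 8], 19, false),
      ([0, 4, 5], [7, 6, 7, 8], 26, false),
      ([0, 4], [5, 6, 7, 6, 7, 8], 17, false),
      ([0], [5, 5, 6, 7, 6, 7, 8], 12, false),
      ([0, 2, 4], [6, 7, 6, 7, 8], 20, false),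
      ([0, 2, 4, 6], [7, 8], 34, false),
      ([0, 2, 4], [1, 2, 4, 6, 7, 7, 8], 21, false),
      ([0, 2], [6, 1, 2, 4, 6, 7, 7, 8], 10, false),
      ([0], [4, 6, 1, 2, 4, 6, 7, 7, 8], 3, false),
      ([], [2, 4, 6, 1, 2, 4, 6, 7, 7, 8], 0, false),
      ([2, 4], [2, 4, 6, 7, 7, 8], 22, false),
      ([2], [6, 2, 4, 6, 7, 7, 8], 11, false),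
      ([], [4, 6, 2, 4, 6, 7, 7, 8], 4, false),
      ([1, 2, 4], [4, 6, 7, 7, 8], 23, false),
      ([1, 2], [6, 4, 6, 7, 7, 8], 12, false),
      ([1], [4, 6, 4, 6, 7, 7, 8], 5, false),
      ([1, 4], [6, 7, 7, 8], 25, false),
      ([1], [4, 6, 6, 7, 7, 8], 10, false),
      ([], [4, 4, 6, 6, 7, 7, 8], 1, false),
      ([0, 1], [6, 6, 7, 7, 8], 14, false),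
      ([0, 1], [7, 7, 8], 27, false),
      ([0], [2, 7, 7, 8], 1, false),
      ([], [1, 2, 7, 7, 8], 0, false),
      ([1, 2], [8], 35, false),
      ([1], [4, 8], 4, false),
      ([], [2, 4, 8], 2, false),
      ([], [2, 4, 8], 2, true),
      ([1], [], 40, true),
      ([], [4], 37, true),
      ([8], [], 35, true)]),
    ([12, 0, 0], [([], [0], 65, false),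
      ([0, 1, 3, 4, 5, 8], [], 65, false),
      ([0, 1, 3, 4, 5], [1, 3, 4, 5, 8, 12], 36, false),
      ([0, 1, 3, 4], [8, 1, 3, 4, 5, 8, 12], 15, false),
      ([0, 1, 3], [5, 8, 1, 3, 4, 5, 8, 12], 10, false),
      ([0, 1], [4, 5, 8, 1, 3, 4, 5, 8, 12], 6, false),
      ([0], [3, 4, 5, 8, 1, 3, 4, 5, 8, 12], 1, false),
      ([], [1, 3, 4, 5, 8, 1, 3, 4, 5, 8, 12], 0, false),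
      ([1, 3, 4, 5], [3, 4, 5, 8, 12], 37, false),
      ([1, 3, 4], [8, 3, 4, 5, 8, 12], 16, false),
      ([1, 3], [5, 8, 3, 4, 5, 8, 12], 11, false),
      ([1], [4, 5, 8, 3, 4, 5, 8, 12], 7, false),
      ([], [3, 4, 5, 8, 3, 4, 5, 8, 12], 2, false),
      ([3, 4, 5], [4, 5, 8, 12], 39, false),
      ([3, 4], [8, 4, 5, 8, 12], 18, false),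
      ([3], [5, 8, 4, 5, 8, 12], 13, false),
      ([], [4, 5, 8, 4, 5, 8, 12], 9, false),
      ([4, 5], [5, 8, 12], 40, false),
      ([4], [2, 4, 8, 5, 8, 12], 16, false),
      ([], [5, 2, 4, 8, 5, 8, 12], 11, false),
      ([1, 4], [4, 8, 5, 8, 12], 17, false),
      ([1], [5, 4, 8, 5, 8, 12], 12, false),
      ([1, 2, 4], [8, 5, 8, 12], 19, false),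
      ([1, 2], [5, 8, 5, 8, 12], 14, false),
      ([1, 2, 5], [8, 12], 41, false),
      ([1, 2], [2, 3, 5, 8, 8, 12], 15, false),
      ([1], [5, 2, 3, 5, 8, 8, 12], 3, false),
      ([], [2, 5, 2, 3, 5, 8, 8, 12], 1, false),
      ([0, 1, 2], [3, 5, 8, 8, 12], 17, false),
      ([0, 1], [5, 3, 5, 8, 8, 12], 5, false),
      ([0, 1], [5, 8, 8, 12], 18, false),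
      ([0, 1, 3], [8, 8, 12], 20, false),
      ([0, 1, 3], [12], 44, false),
      ([0, 1], [1, 3, 12], 6, false),
      ([0], [3, 1, 3, 12], 1, false),
      ([], [1, 3, 1, 3, 12], 0, false),
      ([1], [3, 12], 7, false),
      ([], [3, 3, 12], 2, false),
      ([], [12], 9, false),
      ([12], [], 0, true)]),
    ([9, 9, 7], [([], [7], 54, false),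
      ([3], [], 32, true),
      ([], [3, 7, 4], 2, true),
      ([1], [4], 31, true),
      ([1, 7], [], 54, true),
      ([1], [7, 9, 9], 5, true),
      ([], [1, 2, 2, 7, 9, 9], 0, true),
      ([0], [2, 2, 7, 9, 9], 1, true),
      ([0, 1], [2, 7, 9, 9], 3, true),
      ([0, 1, 2], [7, 9, 9], 27, true),
      ([0, 1, 2], [6, 6, 7, 9, 9], 20, true),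
      ([0, 1], [5, 6, 6, 7, 9, 9], 17, true),
      ([0, 1, 5], [6, 7, 9, 9], 26, true),
      ([0, 1], [5, 6, 5, 6, 7, 9, 9], 14, true),
      ([0, 1, 4], [6, 5, 6, 7, 9, 9], 19, true),
      ([], [4, 5, 4, 6, 5, 6, 7, 9, 9], 1, true),
      ([1], [5, 4, 6, 5, 6, 7, 9, 9], 10, true),
      ([1, 4], [4, 6, 5, 6, 7, 9, 9], 15, true),
      ([1, 4, 5], [5, 6, 7, 9, 9], 25, true),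
      ([1], [4, 5, 6, 4, 5, 6, 7, 9, 9], 5, true),
      ([1, 2], [5, 6, 4, 5, 6, 7, 9, 9], 12, true),
      ([1, 2, 4], [6, 4, 5, 6, 7, 9, 9], 17, true),
      ([1, 2, 4, 5], [4, 5, 6, 7, 9, 9], 23, true),
      ([1, 2, 4, 5, 6], [9], 52, true),
      ([1, 2], [6, 9, 7, 9], 19, true),
      ([1, 2], [5, 4, 6, 9, 7, 9], 9, true),
      ([1, 2, 3], [4, 6, 9, 7, 9], 18, true),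
      ([], [3, 5, 3, 4, 6, 9, 7, 9], 4, true),
      ([2], [5, 3, 4, 6, 9, 7, 9], 7, true),
      ([2, 3], [3, 4, 6, 9, 7, 9], 16, true),
      ([2, 3, 5], [7, 9], 51, true),
      ([2, 3], [5, 9, 6, 7, 9], 14, true),
      ([2], [4, 5, 9, 6, 7, 9], 13, true),
      ([], [3, 4, 5, 9, 6, 7, 9], 12, true),
      ([], [4, 2, 3, 4, 5, 9, 6, 7, 9], 2, true),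
      ([1], [2, 3, 4, 5, 9, 6, 7, 9], 11, true),
      ([1, 4], [6, 7, 9], 50, true),
      ([1], [4, 9, 5, 6, 7, 9], 5, true),
      ([], [2, 4, 9, 5, 6, 7, 9], 4, true),
      ([], [2, 1, 2, 4, 9, 5, 6, 7, 9], 0, true),
      ([0], [1, 2, 4, 9, 5, 6, 7, 9], 3, true),
      ([0, 2], [5, 6, 7, 9], 49, true),
      ([], [4, 5, 6, 7, 9], 47, true),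
      ([9], [], 52, true)]),
    ([13, 1, 2, 1, 2], [([], [1, 2], 70, false),
      ([0, 2, 3, 6, 9], [], 70, false),
      ([0, 2, 3, 6], [2, 3, 6, 9, 13], 45, false),
      ([0, 2, 3], [9, 2, 3, 6, 9, 13], 21, false),
      ([0, 2], [6, 9, 2, 3, 6, 9, 13], 6, false),
      ([0], [3, 6, 9, 2, 3, 6, 9, 13], 3, false),
      ([], [2, 3, 6, 9, 2, 3, 6, 9, 13], 0, false),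
      ([2, 3, 6], [3, 6, 9, 13], 47, false),
      ([2, 3], [2, 9, 3, 6, 9, 13], 21, false),
      ([2], [6, 2, 9, 3, 6, 9, 13], 6, false),
      ([], [3, 6, 2, 9, 3, 6, 9, 13], 3, false),
      ([0, 2, 3], [9, 3, 6, 9, 13], 23, false),
      ([0, 2], [6, 9, 3, 6, 9, 13], 8, false),
      ([0], [3, 6, 9, 3, 6, 9, 13], 5, false),
      ([0, 3, 6], [6, 9, 13], 48, false),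
      ([0, 3], [1, 2, 3, 9, 6, 9, 13], 21, false),
      ([0], [6, 1, 2, 3, 9, 6, 9, 13], 6, false),
      ([], [3, 6, 1, 2, 3, 9, 6, 9, 13], 0, false),
      ([3], [2, 3, 9, 6, 9, 13], 22, false),
      ([], [6, 2, 3, 9, 6, 9, 13], 7, false),
      ([1, 3], [3, 9, 6, 9, 13], 23, false),
      ([1], [6, 3, 9, 6, 9, 13], 8, false),
      ([1, 2, 3], [9, 6, 9, 13], 24, false),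
      ([1, 2], [6, 9, 6, 9, 13], 9, false),
      ([1, 2, 6], [9, 13], 51, false),
      ([1, 2], [3, 4, 6, 9, 9, 13], 22, false),
      ([1], [6, 3, 4, 6, 9, 9, 13], 4, false),
      ([], [2, 6, 3, 4, 6, 9, 9, 13], 2, false),
      ([2], [4, 6, 9, 9, 13], 24, false),
      ([2, 3], [6, 9, 9, 13], 25, false),
      ([2], [4, 6, 6, 9, 9, 13], 6, false),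
      ([], [3, 4, 6, 6, 9, 9, 13], 3, false),
      ([0, 2, 3, 4], [9, 9, 13], 27, false),
      ([0, 2, 3], [2, 9, 9, 13], 10, false),
      ([0, 2], [4, 2, 9, 9, 13], 6, false),
      ([0], [3, 4, 2, 9, 9, 13], 3, false),
      ([], [2, 3, 4, 2, 9, 9, 13], 0, false),
      ([2, 3], [9, 9, 13], 12, false),
      ([2], [4, 9, 9, 13], 8, false),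
      ([], [3, 4, 9, 9, 13], 5, false),
      ([3, 4], [13], 54, false),
      ([3], [4, 13], 13, false),
      ([], [4, 4, 13], 9, false),
      ([], [13], 14, false),
      ([13], [], 5, true),
      ([13], [2, 2], 2, true),
      ([13, 1], [2], 4, true)]),
    ([12, 1, 4, 3, 5, 1, 4], [([], [3, 5, 1, 4], 67, false),
      ([1, 4, 5, 6], [1, 4], 68, false),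
      ([1, 4, 5, 6, 0, 1, 6, 8], [], 67, false),
      ([1, 4, 5], [1, 6, 8, 1, 4, 5, 6, 12], 21, false),
      ([1, 4], [6, 1, 6, 8, 1, 4, 5, 6, 12], 15, false),
      ([1], [5, 6, 1, 6, 8, 1, 4, 5, 6, 12], 10, false),
      ([], [4, 5, 6, 1, 6, 8, 1, 4, 5, 6, 12], 1, false),
      ([0, 1, 4, 5], [6, 8, 1, 4, 5, 6, 12], 22, false),
      ([0, 1, 4], [6, 6, 8, 1, 4, 5, 6, 12], 16, false),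
      ([0, 1], [5, 6, 6, 8, 1, 4, 5, 6, 12], 11, false),
      ([0], [4, 5, 6, 6, 8, 1, 4, 5, 6, 12], 2, false),
      ([0, 4, 5], [8, 1, 4, 5, 6, 12], 27, false),
      ([0, 4], [2, 8, 1, 4, 5, 6, 12], 15, false),
      ([0], [5, 2, 8, 1, 4, 5, 6, 12], 10, false),
      ([], [4, 5, 2, 8, 1, 4, 5, 6, 12], 0, false),
      ([4], [8, 1, 4, 5, 6, 12], 17, false),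
      ([], [5, 8, 1, 4, 5, 6, 12], 12, false),
      ([2, 4, 5], [4, 5, 6, 12], 37, false),
      ([2, 4], [8, 4, 5, 6, 12], 16, false),
      ([2], [5, 8, 4, 5, 6, 12], 11, false),
      ([], [4, 5, 8, 4, 5, 6, 12], 4, false),
      ([1, 2, 4, 5], [5, 6, 12], 40, false),
      ([1, 2, 4], [2, 4, 8, 5, 6, 12], 16, false),
      ([1, 2], [5, 2, 4, 8, 5, 6, 12], 11, false),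
      ([1], [4, 5, 2, 4, 8, 5, 6, 12], 4, false),
      ([], [2, 4, 5, 2, 4, 8, 5, 6, 12], 2, false),
      ([2, 4], [4, 8, 5, 6, 12], 17, false),
      ([2], [5, 4, 8, 5, 6, 12], 12, false),
      ([], [4, 5, 4, 8, 5, 6, 12], 5, false),
      ([4], [8, 5, 6, 12], 19, false),
      ([], [5, 8, 5, 6, 12], 14, false),
      ([5], [6, 12], 41, false),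
      ([], [2, 3, 5, 8, 6, 12], 15, false),
      ([0], [3, 5, 8, 6, 12], 17, false),
      ([0, 2], [5, 8, 6, 12], 18, false),
      ([0, 2, 3], [8, 6, 12], 20, false),
      ([0, 2, 3], [12], 42, false),
      ([0, 2], [2, 3, 6, 8, 12], 7, false),
      ([0], [3, 2, 3, 6, 8, 12], 4, false),
      ([0, 1, 2], [3, 6, 8, 12], 8, false),
      ([0, 1], [3, 3, 6, 8, 12], 5, false),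
      ([0, 1], [6, 8, 12], 9, false),
      ([], [], 68, true),
      ([12, 3], [5], 14, true),
      ([12, 3, 4], [], 19, true),
      ([12], [3, 4, 5, 4], 2, true),
      ([12, 1], [4, 5, 4], 7, true),
      ([12, 1, 3], [5, 4], 11, true),
      ([12, 1, 3, 4], [4], 16, true),
      ([12, 1], [5, 1, 4], 13, true)]),
    ([13, 1, 6, 7, 8, 9], path2_46_0 ++ path2_46_1),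
    ([12, 7, 8, 9, 3, 5], path2_47_0 ++ path2_47_1 ++ path2_47_2),
    ([12, 7, 8, 9, 7, 8, 9], path2_48_0 ++ path2_48_1 ++ path2_48_2)]
  rows := [[0, 0, 0, 0, 0, 0, 0, 0, 0, 0, 0, 0, 0, 0, 0, 0, 0, 0, 0, 0, 0, 1, 0, 1, 0, 0, 0, 0, 0, 0, 0, 0, 0, 0, 0, 0, 0, 0, 0, 0, 0, 0, 0, 0, 0, 0, 0, 0, 0, 0, 0, 0, 0, 0, 0, 0, 0, 0, 0, 0, 0, 0, 0, 0, 0, 0, 0, 0, 0, 0, 0, 0, 0, 0, 0],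
    [0, 0, 0, 0, 0, 0, 0, 0, 0, 0, 0, 0, 0, 0, 0, 0, 0, 0, 0, 0, 0, 0, 0, 0, 0, 0, 0, 0, 0, 1, 0, 0, 1, 0, 0, 0, 0, 0, 0, 0, 0, 0, 0, 0, 0, 0, 0, 0, 0, 0, 0, 0, 0, 0, 0, 0, 0, 0, 0, 0, 0, 0, 0, 0, 0, 0, 0, 0, 0, 0, 0, 0, 0, 0, 0],
    [0, 0, 0, 0, 0, 0, 0, 0, 0, 0, 0, 0, 0, 0, 0, 0, 0, 0, 0, 0, 0, 0, 0, 0, 0, 0, 0, 0, 0, 0, 0, 0, 0, 0, 0, 0, 1, 1, 0, 1, 0, 0, 0, 0, 0, 0, 0, 0, 0, 0, 0, 0, 0, 0, 0, 0, 0, 0, 0, 0, 0, 0, 0, 0, 0, 0, 0, 0, 0, 0, 0, 0, 0, 0, 0],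
    [0, 1, 0, 0, 1, 0, 0, 0, 0, 0, 0, 0, 0, 0, 0, 0, 0, 0, 0, 0, 0, 0, 0, 0, 0, 0, 0, 0, 0, 0, 0, 0, 0, 0, 0, 0, 0, 0, 0, 0, 0, 0, 0, 0, 0, 0, 0, 0, 0, 0, 0, 0, 0, 0, 0, 0, 0, 0, 0, 0, 0, 0, 0, 0, 0, 0, 0, 0, 0, 0, 0, 0, 0, 0, 0],
    [0, 0, 0, 0, 0, 0, 1, 0, 1, 0, 0, 0, 0, 0, 0, 0, 0, 0, 0, 0, 0, 0, 0, 0, 0, 0, 0, 0, 0, 0, 0, 0, 0, 0, 0, 0, 0, 0, 0, 0, 0, 0, 0, 0, 0, 0, 0, 0, 0, 0, 0, 0, 0, 0, 0, 0, 0, 0, 0, 0, 0, 0, 0, 0, 0, 0, 0, 0, 0, 0, 0, 0, 0, 0, 0],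
    [1, 0, 0, 0, 0, 0, 0, 0, 0, 0, 1, 0, 0, 0, 0, 0, 0, 0, 0, 0, 0, 0, 0, 0, 0, 0, 0, 0, 0, 0, 0, 0, 0, 0, 0, 0, 0, 0, 0, 0, 0, 0, 0, 0, 0, 0, 0, 0, 0, 0, 0, 0, 0, 0, 0, 0, 0, 0, 0, 0, 0, 0, 0, 0, 0, 0, 0, 0, 0, 0, 0, 0, 0, 0, 0],
    [0, 0, 0, 0, 0, 1, 0, 0, 0, 0, 0, 0, 0, 0, 0, 0, 0, 1, 0, 0, 0, 0, 0, 0, 0, 0, 0, 0, 0, 0, 0, 0, 0, 0, 0, 0, 0, 0, 0, 0, 0, 0, 0, 0, 0, 0, 0, 0, 0, 0, 0, 0, 0, 0, 0, 0, 0, 0, 0, 0, 0, 0, 0, 0, 0, 0, 0, 0, 0, 0, 0, 0, 0, 0, 0],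
    [0, 1, 0, 0, 0, 0, 0, 0, 0, 0, 1, 0, 0, 0, 0, 0, 0, 0, 0, 0, 0, 0, 0, 0, 0, 0, 0, 0, 0, 0, 0, 0, 0, 0, 0, 0, 0, 0, 0, 0, 0, 0, 0, 0, 0, 0, 0, 0, 0, 0, 0, 0, 0, 0, 0, 0, 0, 0, 0, 0, 0, 0, 0, 0, 0, 0, 0, 0, 0, 0, 0, 0, 0, 0, 0],
    [1, 0, 0, 1, 0, 0, 0, 0, 0, 0, 0, 0, 0, 0, 0, 0, 0, 0, 0, 0, 0, 0, 0, 0, 0, 0, 0, 0, 0, 0, 0, 0, 0, 0, 0, 0, 0, 0, 0, 0, 0, 0, 0, 0, 0, 0, 0, 0, 0, 0, 0, 0, 0, 0, 0, 0, 0, 0, 0, 0, 0, 0, 0, 0, 0, 0, 0, 0, 0, 0, 0, 0, 0, 0, 0],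
    [0, 0, 1, 0, 0, 0, 0, 1, 0, 0, 0, 0, 0, 0, 0, 0, 0, 0, 0, 0, 0, 0, 0, 0, 0, 0, 0, 0, 0, 0, 0, 0, 0, 0, 0, 0, 0, 0, 0, 0, 0, 0, 0, 0, 0, 0, 0, 0, 0, 0, 0, 0, 0, 0, 0, 0, 0, 0, 0, 0, 0, 0, 0, 0, 0, 0, 0, 0, 0, 0, 0, 0, 0, 0, 0],
    [0, 0, 0, 0, 0, 0, 0, 0, 0, 0, 0, 0, 0, 0, 1, 0, 0, 0, 0, 1, 0, 0, 0, 0, 0, 0, 0, 0, 0, 0, 0, 0, 0, 0, 0, 0, 0, 0, 0, 0, 0, 0, 0, 0, 0, 0, 0, 0, 0, 0, 0, 0, 0, 0, 0, 0, 0, 0, 0, 0, 0, 0, 0, 0, 0, 0, 0, 0, 0, 0, 0, 0, 0, 0, 0],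
    [0, 0, 0, 0, 0, 0, 1, 0, 0, 0, 1, 0, 0, 0, 0, 0, 0, 0, 0, 0, 0, 0, 0, 0, 0, 0, 0, 0, 0, 0, 0, 0, 0, 0, 0, 0, 0, 0, 0, 0, 0, 0, 0, 0, 0, 0, 0, 0, 0, 0, 0, 0, 0, 0, 0, 0, 0, 0, 0, 0, 0, 0, 0, 0, 0, 0, 0, 0, 0, 0, 0, 0, 0, 0, 0],
    [0, 0, 0, 1, 0, 0, 0, 0, 0, 0, 0, 0, 0, 0, 0, 0, 0, 0, 0, 0, 0, 0, 0, 0, 0, 0, 0, 0, 0, 0, 0, 0, 0, 0, 0, 0, 0, 0, 0, 0, 0, 0, 0, 0, 0, 0, 0, 0, 0, 0, 0, 0, 0, 0, 0, 0, 0, 0, 0, 0, 0, 0, 0, 0, 0, 0, 0, 0, 0, 0, 0, 0, 0, 0, 0],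
    [0, 0, 0, 0, 0, 0, 0, 0, 0, 0, 0, 1, 0, 0, 0, 0, 0, 0, 0, 0, 0, 0, 0, 0, 0, 0, 0, 0, 0, 0, 0, 0, 0, 0, 0, 0, 0, 0, 0, 0, 0, 0, 0, 0, 0, 0, 0, 0, 0, 0, 0, 0, 0, 0, 0, 0, 0, 0, 0, 0, 0, 0, 0, 0, 0, 0, 0, 0, 0, 0, 0, 0, 0, 0, 0],
    [1, 0, 0, 0, 0, 0, 0, 0, 0, 0, 1, 0, 1, 0, 0, 0, 0, 0, 0, 0, 0, 1, 0, 0, 0, 0, 0, 0, 0, 0, 0, 0, 0, 0, 0, 0, 0, 0, 0, 0, 0, 0, 0, 0, 0, 0, 0, 0, 0, 0, 0, 0, 0, 0, 0, 0, 0, 0, 0, 0, 0, 0, 0, 0, 0, 0, 0, 0, 0, 0, 0, 0, 0, 0, 0],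
    [0, 0, 0, 0, 0, 1, 0, 0, 0, 0, 0, 0, 0, 0, 0, 1, 0, 1, 0, 0, 0, 0, 0, 1, 0, 0, 0, 0, 0, 0, 0, 0, 0, 0, 0, 0, 0, 0, 0, 0, 0, 0, 0, 0, 0, 0, 0, 0, 0, 0, 0, 0, 0, 0, 0, 0, 0, 0, 0, 0, 0, 0, 0, 0, 0, 0, 0, 0, 0, 0, 0, 0, 0, 0, 0],
    [1, 0, 0, 0, 1, 0, 0, 0, 0, 0, 0, 0, 1, 0, 0, 0, 0, 0, 0, 0, 0, 0, 0, 0, 0, 0, 0, 0, 1, 0, 0, 0, 0, 0, 0, 0, 0, 0, 0, 0, 0, 0, 0, 0, 0, 0, 0, 0, 0, 0, 0, 0, 0, 0, 0, 0, 0, 0, 0, 0, 0, 0, 0, 0, 0, 0, 0, 0, 0, 0, 0, 0, 0, 0, 0],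
    [0, 0, 1, 0, 0, 0, 0, 1, 0, 0, 0, 0, 0, 1, 0, 0, 0, 0, 0, 0, 0, 0, 0, 0, 0, 0, 0, 0, 0, 1, 0, 0, 0, 0, 0, 0, 0, 0, 0, 0, 0, 0, 0, 0, 0, 0, 0, 0, 0, 0, 0, 0, 0, 0, 0, 0, 0, 0, 0, 0, 0, 0, 0, 0, 0, 0, 0, 0, 0, 0, 0, 0, 0, 0, 0],
    [0, 0, 0, 0, 0, 0, 0, 0, 0, 0, 0, 0, 0, 0, 1, 0, 1, 0, 0, 1, 0, 0, 0, 0, 0, 0, 0, 0, 0, 0, 0, 0, 1, 0, 0, 0, 0, 0, 0, 0, 0, 0, 0, 0, 0, 0, 0, 0, 0, 0, 0, 0, 0, 0, 0, 0, 0, 0, 0, 0, 0, 0, 0, 0, 0, 0, 0, 0, 0, 0, 0, 0, 0, 0, 0],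
    [0, 1, 0, 0, 0, 0, 0, 1, 0, 0, 0, 0, 0, 0, 0, 0, 0, 0, 0, 0, 0, 0, 0, 0, 0, 0, 0, 0, 0, 0, 0, 0, 0, 0, 0, 0, 0, 0, 0, 0, 0, 0, 0, 0, 0, 0, 0, 0, 0, 0, 0, 0, 0, 0, 0, 0, 0, 0, 0, 0, 0, 0, 0, 0, 0, 0, 0, 0, 0, 0, 0, 0, 0, 0, 0],
    [1, 0, 0, 0, 0, 0, 0, 1, 0, 0, 0, 1, 0, 0, 0, 0, 0, 0, 0, 0, 0, 0, 0, 0, 0, 0, 0, 0, 0, 0, 0, 0, 0, 0, 0, 0, 0, 0, 0, 0, 0, 0, 0, 0, 0, 1, 0, 0, 0, 0, 0, 0, 0, 0, 0, 0, 0, 0, 0, 0, 0, 0, 0, 0, 0, 0, 0, 0, 0, 0, 0, 0, 0, 0, 0],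
    [1, 0, 0, 0, 0, 0, 0, 0, 1, 0, 0, 0, 1, 0, 0, 0, 0, 0, 0, 0, 0, 0, 0, 0, 0, 0, 0, 0, 0, 0, 0, 0, 0, 0, 0, 0, 0, 0, 0, 0, 0, 0, 0, 0, 0, 1, 0, 0, 0, 0, 0, 0, 0, 0, 0, 0, 0, 0, 0, 0, 0, 0, 0, 0, 0, 0, 0, 0, 0, 0, 0, 0, 0, 0, 0],
    [0, 0, 1, 0, 1, 1, 0, 0, 0, 0, 0, 1, 1, 0, 0, 0, 0, 0, 0, 0, 0, 0, 0, 0, 0, 0, 0, 0, 0, 0, 0, 0, 0, 0, 0, 0, 0, 0, 0, 0, 0, 0, 0, 0, 0, 0, 0, 0, 0, 0, 0, 0, 0, 0, 0, 0, 0, 0, 0, 0, 0, 0, 0, 0, 0, 0, 0, 0, 0, 0, 0, 0, 0, 0, 0],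
    [0, 0, 0, 0, 0, 0, 0, 1, 0, 0, 0, 0, 0, 1, 0, 0, 0, 0, 1, 0, 0, 0, 0, 0, 0, 0, 0, 0, 0, 0, 0, 0, 0, 0, 0, 0, 0, 0, 0, 0, 0, 0, 0, 0, 0, 0, 0, 0, 0, 0, 0, 0, 0, 0, 0, 0, 0, 0, 0, 0, 0, 0, 0, 0, 0, 0, 0, 0, 0, 0, 0, 0, 0, 0, 0],
    [0, 0, 0, 0, 0, 0, 0, 0, 0, 0, 0, 1, 0, 1, 0, 0, 0, 0, 0, 1, 0, 0, 0, 0, 0, 0, 0, 0, 0, 0, 0, 0, 0, 0, 0, 0, 0, 0, 0, 0, 0, 0, 0, 0, 0, 0, 0, 0, 0, 0, 0, 0, 0, 0, 0, 0, 0, 0, 0, 0, 0, 0, 0, 0, 0, 0, 0, 0, 0, 0, 0, 0, 0, 0, 0],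
    [0, 0, 0, 0, 0, 0, 0, 0, 0, 0, 0, 0, 0, 0, 0, 0, 1, 0, 0, 0, 0, 0, 1, 0, 0, 0, 0, 0, 0, 0, 0, 0, 0, 0, 0, 0, 0, 0, 0, 0, 0, 0, 0, 0, 0, 0, 0, 0, 0, 0, 0, 0, 0, 0, 0, 0, 0, 0, 0, 0, 0, 0, 0, 0, 0, 0, 0, 0, 0, 0, 0, 0, 0, 0, 0],
    [0, 0, 0, 0, 0, 0, 0, 1, 0, 0, 0, 0, 0, 0, 0, 0, 1, 0, 0, 0, 0, 0, 0, 0, 0, 0, 0, 0, 0, 0, 0, 0, 0, 0, 0, 0, 0, 0, 0, 0, 0, 0, 0, 0, 0, 0, 0, 0, 0, 0, 0, 0, 0, 0, 0, 0, 0, 0, 0, 0, 0, 0, 0, 0, 0, 0, 0, 0, 0, 0, 0, 0, 0, 0, 0],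
    [0, 0, 1, 0, 1, 1, 0, 0, 0, 0, 1, 1, 0, 1, 0, 0, 0, 0, 0, 0, 0, 0, 0, 0, 0, 0, 0, 0, 0, 0, 0, 0, 0, 0, 0, 0, 0, 1, 1, 0, 0, 0, 0, 0, 0, 0, 0, 0, 0, 0, 0, 0, 0, 0, 0, 0, 0, 0, 0, 0, 0, 0, 0, 0, 0, 0, 0, 0, 0, 0, 0, 0, 0, 0, 0],
    [1, 0, 0, 1, 0, 1, 1, 0, 1, 1, 0, 0, 0, 0, 0, 1, 0, 1, 1, 0, 0, 0, 0, 0, 0, 0, 0, 0, 0, 0, 0, 0, 0, 0, 0, 0, 0, 0, 0, 0, 0, 0, 0, 0, 0, 0, 0, 0, 0, 0, 0, 0, 0, 0, 0, 0, 0, 0, 0, 0, 0, 0, 0, 0, 0, 0, 0, 0, 0, 0, 0, 0, 0, 0, 0],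
    [0, 1, 0, 0, 1, 0, 0, 0, 0, 0, 0, 0, 0, 0, 0, 1, 0, 1, 0, 0, 0, 1, 0, 1, 0, 0, 0, 0, 0, 0, 0, 0, 0, 0, 0, 0, 1, 0, 0, 0, 0, 0, 0, 0, 0, 0, 0, 0, 0, 0, 0, 0, 0, 0, 0, 0, 0, 0, 0, 0, 0, 0, 0, 0, 0, 0, 0, 0, 0, 0, 0, 0, 0, 0, 0],
    [1, 1, 1, 1, 1, 1, 1, 1, 1, 0, 0, 0, 0, 0, 0, 0, 0, 0, 0, 0, 0, 0, 0, 0, 0, 0, 0, 0, 0, 0, 0, 0, 0, 0, 0, 0, 0, 0, 0, 0, 0, 0, 0, 0, 0, 0, 0, 0, 1, 1, 0, 0, 0, 0, 0, 0, 0, 0, 0, 0, 0, 0, 0, 0, 0, 0, 0, 0, 0, 0, 0, 0, 0, 0, 0],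
    [0, 1, 1, 0, 0, 0, 1, 1, 0, 1, 0, 0, 0, 0, 0, 1, 1, 0, 1, 0, 1, 0, 0, 0, 0, 0, 0, 0, 0, 0, 0, 0, 0, 0, 0, 0, 0, 0, 0, 0, 0, 0, 0, 0, 0, 0, 0, 0, 0, 0, 0, 0, 0, 0, 0, 0, 0, 0, 0, 0, 0, 0, 0, 0, 0, 0, 0, 0, 0, 0, 0, 0, 0, 0, 0],
    [0, 0, 0, 0, 0, 0, 0, 1, 0, 0, 0, 0, 0, 0, 0, 0, 1, 0, 1, 0, 0, 0, 1, 0, 1, 0, 0, 0, 0, 0, 0, 0, 0, 0, 0, 0, 0, 1, 0, 0, 0, 0, 0, 0, 0, 0, 0, 0, 0, 0, 0, 0, 0, 0, 0, 0, 0, 0, 0, 0, 0, 0, 0, 0, 0, 0, 0, 0, 0, 0, 0, 0, 0, 0, 0],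
    [0, 0, 1, 1, 1, 1, 0, 0, 0, 0, 0, 0, 0, 1, 0, 0, 0, 0, 0, 0, 0, 0, 0, 0, 0, 0, 0, 0, 0, 0, 0, 0, 0, 0, 0, 0, 0, 0, 0, 0, 0, 0, 0, 0, 0, 1, 1, 1, 0, 0, 0, 0, 0, 0, 0, 0, 0, 0, 0, 0, 0, 0, 0, 0, 0, 0, 0, 0, 0, 0, 0, 0, 0, 0, 0],
    [0, 0, 1, 0, 0, 0, 0, 1, 0, 1, 1, 1, 0, 1, 1, 0, 0, 0, 0, 0, 0, 0, 1, 0, 1, 1, 0, 0, 0, 0, 0, 0, 0, 0, 0, 0, 0, 0, 0, 0, 0, 0, 0, 0, 0, 1, 0, 1, 0, 0, 0, 0, 0, 0, 0, 0, 0, 0, 0, 0, 0, 0, 0, 0, 0, 0, 0, 0, 0, 0, 0, 0, 0, 0, 0],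
    [0, 0, 0, 1, 0, 0, 0, 0, 0, 0, 0, 0, 0, 0, 1, 0, 0, 1, 0, 1, 1, 1, 0, 0, 0, 1, 1, 1, 0, 0, 0, 0, 0, 0, 0, 0, 0, 0, 0, 0, 0, 0, 0, 0, 0, 0, 0, 0, 0, 0, 0, 0, 0, 0, 0, 0, 0, 0, 0, 0, 0, 0, 0, 0, 0, 0, 0, 0, 0, 0, 0, 0, 0, 0, 0],
    [0, 1, 1, 1, 1, 1, 0, 0, 0, 0, 1, 1, 1, 0, 1, 0, 0, 0, 0, 0, 0, 0, 1, 0, 0, 1, 0, 0, 1, 1, 1, 0, 1, 0, 0, 0, 0, 0, 0, 0, 0, 0, 0, 0, 0, 0, 0, 0, 0, 0, 0, 0, 0, 0, 0, 0, 0, 0, 0, 0, 0, 0, 0, 0, 0, 0, 0, 0, 0, 0, 0, 0, 0, 0, 0],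
    [0, 1, 1, 1, 0, 0, 0, 1, 1, 0, 1, 0, 1, 0, 1, 0, 0, 0, 0, 0, 0, 0, 0, 0, 0, 0, 0, 0, 0, 0, 0, 0, 0, 0, 0, 0, 0, 0, 0, 1, 1, 0, 0, 0, 0, 1, 0, 1, 0, 1, 0, 0, 0, 0, 0, 0, 0, 0, 0, 0, 0, 0, 0, 0, 0, 0, 0, 0, 0, 0, 0, 0, 0, 0, 0],
    [0, 0, 0, 1, 0, 0, 0, 0, 0, 1, 1, 1, 0, 0, 1, 0, 0, 0, 0, 0, 0, 0, 0, 0, 0, 0, 0, 0, 0, 0, 0, 0, 0, 0, 0, 0, 1, 0, 1, 0, 1, 0, 0, 0, 1, 0, 0, 0, 0, 0, 0, 0, 0, 1, 1, 0, 0, 0, 0, 0, 0, 0, 0, 0, 0, 0, 0, 0, 0, 0, 0, 0, 0, 0, 0],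
    [0, 1, 0, 1, 0, 1, 0, 1, 1, 0, 0, 0, 0, 0, 0, 0, 0, 0, 1, 0, 1, 1, 0, 1, 1, 0, 0, 1, 0, 0, 0, 0, 0, 0, 0, 0, 1, 1, 0, 0, 0, 0, 1, 0, 1, 0, 0, 0, 0, 0, 0, 0, 0, 0, 0, 0, 0, 0, 0, 0, 0, 0, 0, 0, 0, 0, 0, 0, 0, 0, 0, 0, 0, 0, 0],
    [1, 1, 0, 1, 1, 0, 0, 1, 1, 1, 0, 0, 0, 0, 0, 0, 0, 0, 1, 0, 1, 0, 1, 0, 0, 0, 1, 1, 1, 1, 0, 1, 0, 0, 0, 0, 0, 1, 0, 0, 0, 1, 1, 0, 0, 0, 0, 0, 0, 0, 0, 0, 0, 0, 0, 0, 0, 0, 0, 0, 0, 0, 0, 0, 0, 0, 0, 0, 0, 0, 0, 0, 0, 0, 0],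
    [0, 0, 1, 1, 0, 1, 0, 0, 0, 0, 0, 1, 0, 0, 1, 1, 1, 1, 0, 1, 1, 1, 0, 1, 0, 0, 1, 1, 0, 1, 0, 0, 0, 1, 1, 0, 0, 1, 0, 0, 1, 0, 0, 0, 0, 0, 0, 0, 0, 0, 0, 0, 0, 0, 0, 0, 0, 0, 0, 0, 0, 0, 0, 0, 0, 0, 0, 0, 0, 0, 0, 0, 0, 0, 0],
    [1, 1, 0, 1, 0, 1, 0, 0, 0, 0, 1, 0, 1, 1, 1, 0, 0, 0, 0, 1, 1, 0, 0, 0, 0, 0, 0, 0, 0, 0, 0, 0, 0, 0, 0, 0, 1, 1, 0, 1, 1, 1, 0, 0, 1, 0, 0, 0, 0, 0, 0, 0, 0, 0, 0, 0, 0, 0, 0, 0, 0, 0, 0, 0, 0, 0, 0, 0, 0, 0, 0, 0, 0, 0, 0],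
    [0, 0, 0, 0, 0, 1, 0, 1, 0, 1, 1, 1, 0, 1, 0, 1, 1, 0, 1, 0, 1, 0, 0, 1, 0, 1, 1, 1, 0, 0, 0, 1, 1, 0, 0, 0, 0, 0, 0, 0, 0, 0, 0, 0, 0, 0, 0, 1, 0, 1, 1, 1, 0, 0, 0, 0, 0, 0, 0, 0, 0, 0, 0, 0, 0, 0, 0, 0, 0, 0, 0, 0, 0, 0, 0],
    [1, 0, 0, 0, 0, 1, 1, 1, 1, 0, 1, 0, 1, 1, 1, 0, 0, 0, 0, 0, 0, 1, 0, 0, 0, 1, 0, 1, 0, 0, 0, 0, 0, 0, 0, 0, 0, 0, 0, 0, 0, 0, 0, 0, 0, 1, 0, 1, 1, 0, 0, 1, 0, 0, 1, 0, 0, 0, 0, 0, 0, 0, 0, 0, 0, 0, 0, 0, 0, 0, 0, 0, 0, 0, 0],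
    [1, 1, 1, 0, 1, 0, 0, 0, 1, 1, 0, 0, 0, 1, 0, 1, 0, 1, 1, 0, 1, 1, 1, 0, 0, 0, 0, 1, 0, 0, 0, 0, 0, 0, 0, 0, 0, 1, 0, 0, 1, 1, 1, 0, 0, 0, 0, 0, 0, 0, 0, 0, 0, 0, 0, 0, 0, 0, 0, 0, 0, 0, 0, 0, 0, 0, 0, 0, 0, 0, 0, 0, 0, 0, 0],
    [1, 1, 1, 1, 0, 0, 0, 1, 0, 0, 0, 1, 0, 1, 1, 0, 1, 1, 1, 0, 1, 0, 1, 1, 0, 1, 1, 1, 0, 0, 0, 0, 0, 0, 0, 0, 0, 1, 0, 1, 0, 1, 0, 1, 0, 1, 0, 1, 0, 0, 0, 1, 1, 0, 0, 0, 0, 0, 0, 0, 0, 0, 0, 0, 0, 0, 0, 0, 0, 0, 0, 0, 0, 0, 0],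
    [0, 0, 0, 0, 0, 0, 1, 1, 1, 0, 0, 1, 0, 1, 1, 1, 0, 1, 1, 0, 0, 1, 1, 0, 0, 1, 1, 0, 0, 1, 0, 1, 1, 1, 0, 0, 0, 0, 1, 0, 0, 0, 1, 0, 0, 0, 0, 0, 1, 0, 1, 0, 0, 0, 0, 0, 0, 0, 0, 0, 0, 0, 0, 0, 0, 0, 0, 0, 0, 0, 0, 0, 0, 0, 0],
    [0, 1, 1, 1, 1, 1, 1, 0, 1, 0, 1, 0, 1, 1, 1, 1, 0, 1, 1, 1, 0, 0, 0, 0, 0, 1, 0, 0, 1, 1, 0, 0, 1, 0, 0, 1, 1, 0, 0, 0, 0, 1, 1, 1, 1, 0, 0, 0, 0, 0, 0, 0, 1, 1, 1, 0, 0, 0, 0, 0, 0, 0, 0, 0, 0, 0, 0, 0, 0, 0, 0, 0, 0, 0, 0]]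
  mu := [[0, 0, 0, 0, 0, 0, 0, 0, 0, 0, 0, 0, 0, 0, 0, 0, 0, 0, 0, 0, 0, 0, 0, 0, 0, 0, 0, 0, 0, 0, 0, 0, 0, 0, 0, 0, 0, 0, 0, 0, 0, 0, 0, 0, 0, 0, 0, 0, 0, 1, 1, 0, 0, 0, 1, 0, 0, 0, 0, 0, 0, 0, 0, 0, 0, 0, 0, 0, 0, 0, 0, 0, 0, 0, 0],
    [0, 0, 0, 0, 0, 0, 0, 0, 0, 0, 0, 0, 0, 0, 0, 0, 0, 0, 0, 0, 0, 0, 0, 0, 0, 0, 0, 0, 0, 0, 0, 0, 0, 0, 0, 0, 0, 0, 0, 0, 0, 0, 0, 0, 0, 0, 0, 0, 0, 0, 0, 1, 0, 0, 1, 0, 0, 0, 0, 0, 0, 0, 0, 0, 0, 0, 0, 0, 0, 0, 0, 0, 0, 0, 0],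
    [0, 0, 0, 0, 0, 0, 0, 0, 0, 0, 0, 0, 0, 0, 0, 0, 0, 0, 0, 0, 0, 0, 0, 0, 0, 0, 0, 0, 0, 0, 0, 0, 0, 0, 0, 0, 0, 0, 0, 0, 0, 0, 0, 0, 0, 0, 0, 0, 0, 0, 1, 1, 0, 0, 0, 0, 0, 0, 0, 0, 0, 0, 0, 0, 0, 0, 0, 0, 0, 0, 0, 0, 0, 0, 0],
    [0, 0, 0, 0, 0, 0, 0, 0, 0, 0, 0, 0, 0, 0, 0, 0, 0, 0, 0, 0, 0, 0, 0, 0, 0, 0, 0, 0, 0, 0, 0, 0, 0, 0, 0, 0, 0, 0, 0, 0, 0, 0, 0, 0, 0, 0, 0, 0, 0, 1, 0, 1, 0, 1, 0, 0, 0, 0, 0, 0, 0, 0, 0, 0, 0, 0, 0, 0, 0, 0, 0, 0, 0, 0, 0],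
    [0, 0, 0, 0, 0, 0, 0, 0, 0, 0, 0, 0, 0, 0, 0, 0, 0, 0, 0, 0, 0, 0, 0, 0, 0, 0, 0, 0, 0, 0, 0, 0, 0, 0, 0, 0, 0, 0, 0, 0, 0, 0, 0, 0, 0, 0, 0, 0, 0, 1, 0, 1, 0, 1, 1, 0, 0, 0, 0, 0, 0, 0, 0, 0, 0, 0, 0, 0, 0, 0, 0, 0, 0, 0, 0],
    [0, 0, 0, 0, 0, 0, 0, 0, 0, 0, 0, 0, 0, 0, 0, 0, 0, 0, 0, 0, 0, 0, 0, 0, 0, 0, 0, 0, 0, 0, 0, 0, 0, 0, 0, 0, 0, 0, 0, 0, 0, 0, 0, 0, 0, 0, 0, 0, 0, 1, 1, 0, 1, 1, 1, 0, 0, 0, 0, 0, 0, 0, 0, 0, 0, 0, 0, 0, 0, 0, 0, 0, 0, 0, 0],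
    [0, 0, 0, 0, 0, 0, 0, 0, 0, 0, 0, 0, 0, 0, 0, 0, 0, 0, 0, 0, 0, 0, 0, 0, 0, 0, 0, 0, 0, 0, 0, 0, 0, 0, 0, 0, 0, 0, 0, 0, 0, 0, 0, 0, 0, 0, 0, 0, 0, 0, 0, 0, 0, 0, 0, 0, 0, 0, 0, 0, 0, 0, 0, 0, 0, 0, 0, 0, 0, 0, 0, 0, 0, 0, 0],
    [0, 0, 0, 0, 0, 0, 0, 0, 0, 0, 0, 0, 0, 0, 0, 0, 0, 0, 0, 0, 0, 0, 0, 0, 0, 0, 0, 0, 0, 0, 0, 0, 0, 0, 0, 0, 0, 0, 0, 0, 0, 0, 0, 0, 0, 0, 0, 0, 0, 0, 0, 0, 0, 0, 0, 0, 0, 0, 0, 0, 0, 0, 0, 0, 0, 0, 0, 0, 0, 0, 0, 0, 0, 0, 0],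
    [0, 0, 0, 0, 0, 0, 0, 0, 0, 0, 0, 0, 0, 0, 0, 0, 0, 0, 0, 0, 0, 0, 0, 0, 0, 0, 0, 0, 0, 0, 0, 0, 0, 0, 0, 0, 0, 0, 0, 0, 0, 0, 0, 0, 0, 0, 0, 0, 0, 0, 0, 0, 0, 0, 0, 0, 0, 0, 0, 0, 0, 0, 0, 0, 0, 0, 0, 0, 0, 0, 0, 0, 0, 0, 0],
    [0, 0, 0, 0, 0, 0, 0, 0, 0, 0, 0, 0, 0, 0, 0, 0, 0, 0, 0, 0, 0, 0, 0, 0, 0, 0, 0, 0, 0, 0, 0, 0, 0, 0, 0, 0, 0, 0, 0, 0, 0, 0, 0, 0, 0, 0, 0, 0, 0, 0, 0, 0, 0, 0, 0, 0, 0, 0, 0, 0, 0, 0, 0, 0, 0, 0, 0, 0, 0, 0, 0, 0, 0, 0, 0]]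
  comb := [[0, 0, 0, 0, 0, 0, 0, 0, 1, 0, 0, 0, 1, 0, 0, 0, 0, 0, 0, 0, 0, 0, 0, 0, 0, 0, 0, 0, 0, 0, 0, 0, 0, 0, 0, 0, 0, 0, 0, 0, 0, 0, 0, 0, 0, 0, 0, 0, 0],
    [0, 0, 0, 0, 0, 1, 0, 1, 1, 0, 0, 0, 1, 0, 0, 0, 0, 0, 0, 0, 0, 0, 0, 0, 0, 0, 0, 0, 0, 0, 0, 0, 0, 0, 0, 0, 0, 0, 0, 0, 0, 0, 0, 0, 0, 0, 0, 0, 0],
    [0, 0, 0, 0, 0, 1, 0, 1, 1, 1, 0, 0, 1, 0, 0, 0, 0, 0, 0, 1, 0, 0, 0, 0, 0, 0, 0, 0, 0, 0, 0, 0, 0, 0, 0, 0, 0, 0, 0, 0, 0, 0, 0, 0, 0, 0, 0, 0, 0],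
    [0, 0, 0, 0, 0, 0, 0, 0, 0, 0, 0, 0, 1, 0, 0, 0, 0, 0, 0, 0, 0, 0, 0, 0, 0, 0, 0, 0, 0, 0, 0, 0, 0, 0, 0, 0, 0, 0, 0, 0, 0, 0, 0, 0, 0, 0, 0, 0, 0],
    [0, 0, 0, 1, 0, 1, 0, 1, 1, 0, 0, 0, 1, 0, 0, 0, 0, 0, 0, 0, 0, 0, 0, 0, 0, 0, 0, 0, 0, 0, 0, 0, 0, 0, 0, 0, 0, 0, 0, 0, 0, 0, 0, 0, 0, 0, 0, 0, 0],
    [0, 0, 0, 1, 1, 0, 0, 1, 0, 1, 0, 1, 0, 0, 0, 0, 0, 0, 0, 0, 1, 1, 1, 0, 0, 0, 0, 0, 0, 0, 0, 0, 0, 0, 0, 0, 0, 0, 0, 0, 0, 0, 0, 0, 0, 0, 0, 0, 0],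
    [0, 0, 0, 0, 0, 1, 0, 0, 1, 0, 0, 1, 1, 0, 0, 0, 0, 0, 0, 0, 0, 0, 0, 0, 0, 0, 0, 0, 0, 0, 0, 0, 0, 0, 0, 0, 0, 0, 0, 0, 0, 0, 0, 0, 0, 0, 0, 0, 0],
    [0, 0, 0, 0, 0, 1, 0, 1, 1, 0, 0, 0, 1, 0, 0, 0, 0, 0, 0, 1, 0, 0, 0, 0, 0, 0, 0, 0, 0, 0, 0, 0, 0, 0, 0, 0, 0, 0, 0, 0, 0, 0, 0, 0, 0, 0, 0, 0, 0],
    [0, 0, 0, 0, 1, 1, 0, 0, 1, 0, 0, 1, 1, 0, 0, 0, 0, 0, 0, 0, 0, 0, 0, 0, 0, 0, 0, 0, 0, 0, 0, 0, 0, 0, 0, 0, 0, 0, 0, 0, 0, 0, 0, 0, 0, 0, 0, 0, 0],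
    [1, 1, 0, 0, 0, 1, 0, 1, 1, 1, 1, 1, 0, 1, 1, 1, 0, 1, 1, 1, 1, 1, 0, 1, 0, 0, 1, 0, 1, 0, 0, 0, 0, 0, 0, 0, 0, 0, 0, 0, 0, 0, 0, 0, 0, 0, 0, 0, 0],
    [0, 0, 0, 0, 0, 1, 0, 0, 1, 0, 0, 0, 1, 0, 0, 0, 0, 0, 0, 0, 0, 0, 0, 0, 0, 0, 0, 0, 0, 0, 0, 0, 0, 0, 0, 0, 0, 0, 0, 0, 0, 0, 0, 0, 0, 0, 0, 0, 0],
    [0, 0, 0, 0, 0, 0, 0, 0, 0, 0, 0, 0, 0, 1, 0, 0, 0, 0, 0, 0, 0, 0, 0, 0, 0, 0, 0, 0, 0, 0, 0, 0, 0, 0, 0, 0, 0, 0, 0, 0, 0, 0, 0, 0, 0, 0, 0, 0, 0],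
    [0, 0, 0, 0, 1, 0, 0, 1, 0, 0, 0, 1, 0, 1, 0, 0, 0, 0, 0, 1, 1, 1, 0, 0, 0, 0, 0, 0, 0, 0, 0, 0, 0, 0, 0, 0, 0, 0, 0, 0, 0, 0, 0, 0, 0, 0, 0, 0, 0],
    [0, 1, 0, 0, 0, 1, 0, 1, 1, 1, 1, 0, 1, 0, 0, 0, 0, 1, 1, 1, 0, 0, 0, 0, 0, 0, 1, 0, 0, 0, 0, 0, 0, 0, 0, 0, 0, 0, 0, 0, 0, 0, 0, 0, 0, 0, 0, 0, 0],
    [0, 1, 0, 0, 0, 1, 0, 1, 1, 1, 0, 0, 1, 1, 0, 0, 0, 1, 1, 1, 0, 0, 0, 0, 1, 0, 1, 0, 0, 0, 0, 0, 0, 0, 0, 0, 0, 0, 0, 0, 0, 0, 0, 0, 0, 0, 0, 0, 0],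
    [1, 0, 0, 0, 1, 1, 1, 1, 0, 0, 0, 1, 0, 1, 1, 1, 0, 0, 0, 1, 1, 1, 0, 0, 0, 0, 0, 0, 0, 0, 0, 0, 0, 0, 0, 0, 0, 0, 0, 0, 0, 0, 0, 0, 0, 0, 0, 0, 0],
    [0, 0, 0, 0, 0, 1, 0, 1, 1, 0, 0, 0, 1, 0, 0, 0, 0, 0, 0, 1, 0, 0, 0, 0, 0, 0, 1, 0, 0, 0, 0, 0, 0, 0, 0, 0, 0, 0, 0, 0, 0, 0, 0, 0, 0, 0, 0, 0, 0],
    [0, 0, 0, 1, 1, 0, 1, 1, 0, 1, 0, 1, 0, 0, 0, 0, 0, 0, 0, 0, 1, 1, 1, 0, 0, 0, 0, 0, 0, 0, 0, 0, 0, 0, 0, 0, 0, 0, 0, 0, 0, 0, 0, 0, 0, 0, 0, 0, 0],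
    [0, 1, 0, 0, 0, 0, 0, 0, 0, 1, 1, 0, 0, 0, 0, 0, 0, 1, 1, 0, 0, 0, 0, 1, 0, 0, 1, 0, 0, 0, 0, 0, 0, 0, 0, 0, 0, 0, 0, 0, 0, 0, 0, 0, 0, 0, 0, 0, 0],
    [0, 1, 0, 0, 0, 1, 0, 1, 1, 1, 1, 0, 1, 1, 0, 0, 0, 1, 1, 1, 0, 0, 0, 0, 1, 0, 1, 0, 0, 0, 0, 0, 0, 0, 0, 0, 0, 0, 0, 0, 0, 0, 0, 0, 0, 0, 0, 0, 0],
    [0, 0, 0, 0, 1, 1, 1, 0, 0, 1, 0, 1, 1, 0, 0, 0, 0, 0, 0, 1, 0, 0, 0, 0, 0, 0, 1, 0, 1, 0, 0, 1, 0, 0, 0, 0, 0, 0, 0, 0, 0, 0, 0, 0, 0, 0, 0, 0, 0],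
    [0, 0, 0, 0, 1, 1, 0, 1, 0, 0, 0, 1, 0, 1, 1, 0, 0, 0, 0, 1, 1, 1, 0, 0, 0, 0, 0, 0, 0, 0, 0, 0, 0, 0, 0, 0, 0, 0, 0, 0, 0, 0, 0, 0, 0, 0, 0, 0, 0],
    [0, 0, 0, 0, 0, 1, 0, 1, 1, 0, 0, 0, 1, 0, 0, 0, 0, 0, 0, 1, 0, 0, 0, 0, 0, 1, 1, 0, 0, 0, 0, 0, 0, 0, 0, 0, 0, 0, 0, 0, 0, 0, 0, 0, 0, 0, 0, 0, 0],
    [1, 0, 0, 0, 1, 1, 0, 1, 0, 0, 0, 1, 0, 1, 1, 0, 0, 0, 0, 1, 1, 1, 0, 0, 0, 0, 0, 0, 0, 0, 0, 0, 0, 0, 0, 0, 0, 0, 0, 0, 0, 0, 0, 0, 0, 0, 0, 0, 0],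
    [1, 1, 1, 0, 1, 1, 1, 0, 1, 1, 0, 0, 1, 1, 0, 1, 0, 1, 1, 1, 1, 1, 0, 1, 0, 1, 1, 0, 0, 1, 0, 1, 0, 0, 0, 0, 0, 0, 0, 1, 0, 0, 1, 0, 0, 1, 0, 0, 0],
    [1, 0, 1, 0, 0, 1, 0, 1, 0, 1, 0, 0, 0, 1, 0, 1, 1, 1, 1, 1, 1, 0, 1, 0, 1, 0, 0, 0, 1, 1, 1, 1, 1, 0, 1, 0, 0, 1, 0, 0, 1, 0, 0, 1, 1, 1, 0, 0, 0],
    [1, 0, 0, 0, 0, 0, 1, 0, 0, 1, 0, 0, 0, 1, 1, 1, 1, 1, 1, 1, 1, 0, 0, 0, 1, 0, 0, 0, 1, 0, 0, 1, 1, 0, 0, 1, 0, 1, 0, 1, 1, 0, 1, 1, 0, 0, 0, 0, 0],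
    [0, 0, 1, 1, 1, 1, 1, 1, 0, 0, 1, 1, 0, 1, 0, 0, 0, 0, 0, 0, 0, 0, 0, 0, 0, 0, 1, 0, 1, 1, 1, 1, 0, 0, 1, 0, 0, 0, 0, 1, 0, 0, 1, 0, 1, 1, 0, 0, 0],
    [0, 0, 0, 1, 1, 1, 0, 0, 0, 0, 0, 1, 0, 1, 0, 0, 1, 0, 0, 1, 1, 1, 0, 0, 0, 0, 0, 0, 0, 0, 0, 0, 0, 0, 0, 0, 0, 0, 0, 0, 0, 0, 0, 0, 0, 0, 0, 0, 0],
    [0, 1, 0, 0, 0, 1, 0, 1, 1, 0, 1, 0, 1, 0, 0, 0, 0, 0, 1, 1, 0, 0, 0, 0, 0, 0, 1, 0, 0, 0, 0, 0, 0, 0, 0, 0, 0, 0, 0, 0, 0, 0, 0, 0, 0, 0, 0, 0, 0],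
    [1, 0, 1, 1, 1, 0, 0, 0, 0, 0, 0, 1, 1, 1, 0, 1, 0, 0, 0, 0, 0, 1, 0, 0, 0, 1, 0, 0, 1, 1, 1, 1, 1, 0, 1, 0, 1, 1, 0, 0, 1, 0, 0, 1, 1, 1, 0, 0, 0],
    [0, 1, 0, 0, 0, 1, 1, 0, 0, 1, 1, 1, 1, 1, 1, 1, 1, 0, 1, 1, 0, 0, 1, 0, 0, 0, 0, 0, 1, 0, 1, 0, 1, 0, 0, 1, 0, 1, 0, 1, 1, 0, 1, 0, 1, 0, 0, 0, 0],
    [0, 0, 0, 0, 0, 1, 0, 1, 1, 0, 1, 0, 1, 0, 0, 0, 0, 0, 1, 1, 0, 0, 0, 0, 0, 0, 1, 0, 0, 0, 0, 0, 0, 0, 0, 0, 0, 0, 0, 0, 0, 0, 0, 0, 0, 0, 0, 0, 0],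
    [1, 0, 0, 1, 0, 1, 0, 1, 0, 0, 0, 1, 0, 0, 1, 0, 0, 1, 0, 1, 1, 0, 1, 0, 1, 0, 0, 0, 0, 0, 1, 1, 0, 0, 0, 0, 0, 1, 1, 0, 0, 0, 1, 1, 0, 1, 0, 1, 0],
    [1, 0, 0, 0, 0, 1, 0, 0, 1, 0, 1, 1, 1, 0, 1, 0, 0, 0, 0, 0, 1, 0, 1, 0, 1, 0, 0, 0, 1, 0, 1, 0, 0, 0, 1, 1, 0, 0, 1, 1, 0, 1, 0, 1, 0, 0, 0, 1, 0],
    [1, 0, 1, 0, 1, 1, 1, 0, 1, 1, 1, 0, 1, 1, 1, 0, 1, 1, 1, 0, 0, 0, 0, 0, 0, 0, 0, 0, 1, 1, 1, 1, 1, 0, 0, 1, 0, 0, 0, 1, 0, 0, 0, 0, 1, 0, 1, 0, 1],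
    [0, 0, 0, 0, 0, 1, 0, 0, 0, 1, 0, 0, 0, 1, 1, 1, 0, 0, 0, 1, 0, 0, 1, 0, 0, 0, 0, 0, 0, 1, 0, 0, 0, 0, 0, 0, 0, 0, 0, 0, 0, 0, 0, 0, 0, 0, 0, 0, 0],
    [1, 0, 1, 0, 1, 0, 1, 1, 0, 0, 1, 0, 0, 1, 0, 1, 0, 0, 0, 0, 1, 1, 0, 0, 0, 0, 0, 0, 0, 1, 0, 1, 1, 0, 0, 0, 0, 0, 0, 1, 0, 0, 1, 0, 0, 1, 0, 0, 0],
    [1, 1, 1, 0, 0, 0, 1, 1, 0, 1, 0, 1, 0, 0, 0, 1, 0, 1, 1, 0, 0, 0, 1, 0, 0, 0, 1, 1, 0, 1, 0, 1, 1, 0, 0, 0, 0, 0, 0, 1, 0, 0, 1, 0, 0, 1, 0, 0, 0],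
    [1, 0, 0, 0, 1, 1, 1, 1, 0, 1, 1, 0, 0, 0, 1, 0, 0, 0, 0, 1, 1, 1, 1, 0, 0, 0, 0, 0, 0, 0, 0, 1, 1, 0, 0, 0, 0, 0, 0, 1, 0, 0, 1, 0, 0, 1, 0, 0, 0],
    [0, 1, 0, 0, 0, 0, 0, 1, 0, 1, 1, 1, 0, 1, 0, 1, 1, 0, 0, 1, 1, 0, 0, 0, 1, 0, 0, 0, 0, 0, 1, 1, 0, 0, 0, 0, 0, 0, 0, 0, 1, 0, 0, 1, 1, 1, 0, 0, 0],
    [0, 0, 0, 1, 1, 0, 0, 1, 1, 1, 1, 1, 1, 1, 0, 1, 0, 0, 0, 0, 1, 1, 1, 1, 1, 0, 1, 1, 0, 0, 0, 0, 1, 0, 0, 0, 0, 0, 1, 1, 0, 0, 0, 0, 0, 1, 0, 0, 0],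
    [1, 0, 0, 0, 0, 1, 1, 1, 1, 0, 1, 1, 1, 1, 1, 1, 1, 1, 1, 0, 1, 0, 0, 1, 0, 1, 1, 1, 1, 0, 0, 0, 0, 0, 1, 0, 0, 0, 1, 1, 1, 0, 0, 1, 0, 1, 0, 0, 0],
    [0, 1, 1, 1, 0, 1, 1, 1, 1, 0, 0, 0, 0, 1, 0, 1, 1, 0, 0, 1, 0, 1, 1, 0, 0, 1, 1, 1, 0, 1, 1, 0, 0, 0, 0, 1, 0, 1, 1, 0, 1, 0, 1, 1, 1, 1, 1, 0, 0],
    [0, 0, 1, 0, 0, 0, 1, 0, 1, 1, 0, 1, 1, 1, 0, 0, 1, 1, 1, 0, 0, 1, 0, 1, 0, 0, 1, 1, 1, 0, 1, 0, 1, 0, 0, 0, 0, 0, 1, 1, 1, 0, 1, 1, 1, 0, 0, 0, 0],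
    [0, 0, 0, 0, 0, 1, 0, 1, 0, 0, 0, 0, 0, 1, 0, 0, 0, 0, 0, 1, 1, 0, 0, 0, 0, 0, 0, 0, 0, 0, 0, 0, 0, 0, 0, 0, 0, 0, 0, 0, 0, 0, 0, 0, 0, 0, 0, 0, 0],
    [1, 1, 0, 0, 0, 0, 1, 1, 1, 1, 1, 0, 1, 1, 1, 1, 1, 0, 0, 0, 0, 1, 0, 0, 0, 0, 0, 0, 0, 0, 1, 0, 1, 1, 0, 0, 0, 1, 0, 1, 1, 0, 1, 1, 1, 0, 0, 0, 0],
    [1, 0, 0, 0, 1, 0, 1, 0, 0, 0, 0, 1, 1, 0, 1, 1, 1, 1, 1, 1, 0, 0, 1, 0, 0, 0, 1, 0, 0, 0, 1, 0, 1, 0, 0, 0, 0, 1, 0, 1, 1, 0, 1, 1, 1, 0, 0, 0, 0],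
    [0, 0, 0, 0, 0, 0, 0, 1, 1, 0, 0, 1, 0, 0, 0, 0, 0, 0, 0, 0, 1, 1, 1, 0, 0, 0, 0, 0, 0, 0, 1, 0, 0, 0, 0, 0, 0, 0, 0, 0, 0, 0, 0, 0, 0, 0, 0, 0, 0],
    [0, 0, 0, 0, 0, 0, 0, 0, 0, 0, 0, 0, 0, 0, 0, 0, 0, 0, 0, 0, 0, 0, 0, 0, 0, 0, 0, 0, 0, 0, 0, 0, 0, 0, 0, 0, 0, 0, 0, 0, 0, 0, 0, 0, 0, 0, 0, 0, 0],
    [0, 0, 0, 0, 0, 0, 0, 0, 0, 0, 0, 0, 0, 0, 0, 0, 0, 0, 0, 0, 0, 0, 0, 0, 0, 0, 0, 0, 0, 0, 0, 0, 0, 0, 0, 0, 0, 0, 0, 0, 0, 0, 0, 0, 0, 0, 0, 0, 0],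
    [0, 0, 0, 0, 0, 0, 0, 0, 0, 0, 0, 0, 0, 0, 0, 0, 0, 0, 0, 0, 0, 0, 0, 0, 0, 0, 0, 0, 0, 0, 0, 0, 0, 0, 0, 0, 0, 0, 0, 0, 0, 0, 0, 0, 0, 0, 0, 0, 0],
    [0, 0, 0, 0, 0, 0, 0, 0, 0, 0, 0, 0, 0, 0, 0, 0, 0, 0, 0, 0, 0, 0, 0, 0, 0, 0, 0, 0, 0, 0, 0, 0, 0, 0, 0, 0, 0, 0, 0, 0, 0, 0, 0, 0, 0, 0, 0, 0, 0],
    [0, 0, 0, 0, 0, 0, 0, 0, 0, 0, 0, 0, 0, 0, 0, 0, 0, 0, 0, 0, 0, 0, 0, 0, 0, 0, 0, 0, 0, 0, 0, 0, 0, 0, 0, 0, 0, 0, 0, 0, 0, 0, 0, 0, 0, 0, 0, 0, 0],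
    [0, 0, 0, 0, 0, 0, 0, 0, 0, 0, 0, 0, 0, 0, 0, 0, 0, 0, 0, 0, 0, 0, 0, 0, 0, 0, 0, 0, 0, 0, 0, 0, 0, 0, 0, 0, 0, 0, 0, 0, 0, 0, 0, 0, 0, 0, 0, 0, 0]]

/-- Words of the letters for the prime 3. -/
def letters3 : List (List ℕ) :=
  [[1, 2, 1, 3, 2, 4, 3, 2, 1, 3, 2, 3, 2, 3, 1, 2, 3, 4, 2, 3, 1, 2, 3],
    [0, 1, 2, 0],
    [2, 3, 4, 2, 3, 1, 2, 3, 0, 1, 2, 3, 1, 2],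
    [2, 3, 2, 3, 2, 1, 6, 3, 2, 3, 2, 3, 6, 3, 2, 3, 5, 3, 1, 0],
    [4, 2, 3, 1, 2, 3, 4, 2, 3, 1, 0]]

/-- Words of the elements of the Sylow 3-subgroup, by increasing keys. -/
def elts3 : List (List ℕ) :=
  [[1, 1],
    [0, 1, 1],
    [0, 0, 1, 1],
    [0, 1, 2, 2],
    [1, 2, 2],
    [0, 0, 1, 2, 2],
    [2],
    [0, 0, 2],
    [0, 2],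
    [],
    [0],
    [0, 0],
    [0, 1, 1, 2, 2],
    [1, 1, 2, 2],
    [0, 0, 1, 1, 2, 2],
    [1, 2],
    [0, 0, 1, 2],
    [0, 1, 2],
    [1],
    [0, 1],
    [0, 0, 1],
    [1, 1, 2],
    [0, 0, 1, 1, 2],
    [0, 1, 1, 2],
    [0, 2, 2],
    [0, 0, 2, 2],
    [2, 2]]

/-- The certificate for the prime 3. -/
def cert3 : SchurPath.Cert where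
  m := 3
  rels := [([0, 0, 0], []),
    ([1, 0], [0, 1]),
    ([1, 1, 1], []),
    ([2, 0], [0, 2]),
    ([2, 1], [0, 1, 2]),
    ([2, 2, 2], []),
    ([3, 0], [0, 0, 2, 3]),
    ([4, 0], [0, 4]),
    ([4, 1], [0, 0, 1, 2, 2, 4]),
    ([4, 2], [1, 1, 2, 2, 4])]
  paths := [([2, 2, 2, 1], [([], [1], 5, false),
      ([], [1], 0, true),
      ([0, 0, 0, 1], [], 5, true),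
      ([0, 0], [2, 2], 4, true),
      ([0], [1, 2, 2], 3, true),
      ([], [0, 1, 2, 2], 3, true),
      ([2, 0], [2], 4, true),
      ([2], [1, 2], 3, true),
      ([2, 2], [], 4, true)]),
    ([4, 2, 0], [([], [0], 9, false),
      ([1, 1, 2, 2], [], 7, false),
      ([1, 1, 2], [4], 3, false),
      ([1, 1], [2, 4], 3, false),
      ([1], [2, 2, 4], 1, false),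
      ([], [1, 2, 2, 4], 1, false),
      ([0], [], 9, true),
      ([], [2], 7, true),
      ([4], [], 3, true)]),
    ([3, 0, 0, 0], [([], [0, 0], 6, false),
      ([0, 0, 2], [0], 6, false),
      ([0, 0, 2, 0, 0, 2], [], 6, false),
      ([0, 0], [0, 2, 0, 0, 2, 3], 3, false),
      ([0, 0, 0, 2, 0], [0, 2, 3], 3, false),
      ([0, 0, 0, 2, 0, 0], [2, 3], 3, false),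
      ([0, 0, 0, 2], [2, 2, 3], 0, false),
      ([0, 0, 0], [3], 5, false),
      ([], [3], 0, false),
      ([3], [], 0, true)]),
    ([4, 1, 0], [([], [0], 8, false),
      ([0, 0, 1, 2, 2], [], 7, false),
      ([0, 0, 1, 2], [4], 3, false),
      ([0, 0, 1], [2, 4], 3, false),
      ([0, 0], [2, 2, 4], 1, false),
      ([], [1, 2, 2, 4], 0, false),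
      ([], [1, 2, 2, 4], 0, true),
      ([0], [], 8, true),
      ([], [1], 7, true),
      ([4], [], 1, true)]),
    ([4, 2, 2, 2], [([], [2, 2], 9, false),
      ([1, 1, 2, 2], [2], 9, false),
      ([1, 1, 2, 2, 1, 1, 2, 2], [], 9, false),
      ([1, 1, 2], [1, 2, 2, 1, 1, 2, 2, 4], 4, false),
      ([1, 1, 2, 0, 1, 2, 1, 2], [1, 2, 2, 4], 4, false),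
      ([1, 1, 2, 0, 1, 2, 1, 2, 0, 1], [2, 2, 4], 4, false),
      ([1, 1, 2, 0, 1, 2, 1, 2, 0, 1, 0, 1], [4], 5, false),
      ([1, 1, 2, 0, 1, 2, 1, 2, 0], [1, 4], 1, false),
      ([1, 1, 2, 0, 1, 2, 1], [0, 1, 1, 4], 3, false),
      ([1, 1, 2, 0, 1, 2, 1, 0], [1, 1, 4], 3, false),
      ([1, 1, 2, 0, 1, 2, 1, 0, 0], [1, 4], 4, false),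
      ([1, 1, 2, 0, 1, 2, 1, 0, 0, 0, 1], [4], 4, false),
      ([1, 1, 2, 0, 1, 2, 1, 0, 0, 0], [1, 2, 4], 1, false),
      ([1, 1, 2, 0, 1, 2, 1, 0], [1, 1, 2, 4], 0, false),
      ([1, 1, 2, 0, 1, 2], [1, 1, 2, 4], 1, false),
      ([1, 1, 2, 0, 1, 2, 0], [2, 4], 2, false),
      ([1, 1, 2, 0, 1], [2, 4], 3, false),
      ([1, 1, 2, 0], [2, 2, 4], 1, false),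
      ([1, 1], [0, 1, 2, 2, 4], 3, false),
      ([1, 1, 0], [1, 2, 2, 4], 3, false),
      ([1, 1, 0, 0], [2, 2, 4], 4, false),
      ([1, 1, 0, 0, 0, 1], [4], 5, false),
      ([1, 1], [1, 4], 0, false),
      ([], [4], 2, false),
      ([4], [], 5, true)])]
  rows := [[2, 0, 0, 0, 0, 0, 0, 0, 0, 0],
    [0, 2, 0, 1, 0, 0, 0, 0, 0, 0],
    [1, 0, 0, 0, 0, 1, 0, 0, 0, 0],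
    [0, 0, 0, 2, 0, 0, 0, 0, 0, 0],
    [2, 1, 2, 2, 0, 1, 0, 0, 0, 0]]
  mu := [[0, 0, 0, 0, 1, 0, 0, 0, 0, 0],
    [0, 0, 0, 0, 0, 0, 0, 0, 0, 0],
    [0, 0, 0, 0, 0, 0, 0, 0, 0, 0]]
  comb := [[2, 0, 0, 0, 0],
    [0, 2, 0, 2, 0],
    [2, 2, 1, 0, 2],
    [0, 0, 0, 2, 0],
    [0, 0, 0, 0, 0],
    [1, 0, 1, 0, 0]]

/-- Words of the letters for the prime 5. -/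
def letters5 : List (List ℕ) :=
  [[1, 2, 1, 3, 2, 1, 3, 6, 3, 5, 2, 3, 4, 1, 2, 3, 5, 4, 2, 3, 2, 3],
    [2, 1, 6, 3, 2, 3, 6, 3, 2, 3, 5, 4, 3, 1, 2],
    [0, 4, 5, 3, 2, 6, 5, 3, 2, 3, 6, 1, 2, 3, 5, 2, 3, 4, 1],
    [1, 3, 5, 3, 6, 3, 2, 3, 1, 2, 3, 4, 0, 1, 2, 3, 5, 3, 6, 3],
    [3, 4, 3, 2, 1, 3, 2, 6, 3, 2, 4, 3, 6, 5, 1, 2, 3, 6, 4, 3, 2, 3, 4]]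

/-- Words of the elements of the Sylow 5-subgroup, by increasing keys. -/
def elts5 : List (List ℕ) :=
  [[],
    [1, 1, 1, 1],
    [1, 1, 1],
    [1],
    [0, 0, 1, 1, 1, 1],
    [0, 0, 0, 0, 1, 1, 1, 1],
    [0, 0, 1, 1, 1],
    [1, 1],
    [0, 0, 0, 1, 1, 1],
    [0, 0, 0, 1, 1, 1, 1],
    [0, 0, 0, 0],
    [0, 0, 0, 0, 1],
    [0, 0],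
    [0, 0, 0, 0, 1, 1],
    [0],
    [0, 1],
    [0, 0, 1],
    [0, 0, 0, 0, 1, 1, 1],
    [0, 0, 0, 1],
    [0, 0, 1, 1],
    [0, 1, 1, 1, 1],
    [0, 1, 1],
    [0, 0, 0, 1, 1],
    [0, 1, 1, 1],
    [0, 0, 0]]

/-- The certificate for the prime 5. -/
def cert5 : SchurPath.Cert where
  m := 2
  rels := [([0, 0, 0, 0, 0], []),
    ([1, 0], [0, 1]),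
    ([1, 1, 1, 1, 1], []),
    ([2, 0, 0, 0, 0, 1], [0, 1, 1, 2]),
    ([3, 0, 0, 0, 0, 1], [0, 0, 0, 0, 1, 1, 1, 1, 3]),
    ([4, 0], [0, 0, 1, 1, 1, 1, 4]),
    ([4, 1], [0, 0, 0, 0, 4])]
  paths := [([4, 1, 1, 1, 1, 1], [([], [1, 1, 1, 1], 6, false),
      ([0, 0, 0, 0], [1, 1, 1], 6, false),
      ([0, 0, 0, 0, 0, 0, 0, 0], [1, 1], 6, false),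
      ([0, 0, 0, 0, 0, 0, 0, 0, 0, 0, 0, 0], [1], 6, false),
      ([0, 0, 0, 0, 0, 0, 0, 0, 0, 0, 0, 0, 0, 0, 0, 0], [], 6, false),
      ([], [0, 0, 0, 0, 0, 0, 0, 0, 0, 0, 0, 0, 0, 0, 0, 4], 0, false),
      ([0, 0, 0, 0, 0, 0, 0, 0, 0, 0], [4], 0, false),
      ([0, 0, 0, 0, 0], [4], 0, false),
      ([], [4], 0, false),
      ([4], [], 2, true)]),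
    ([4, 1, 0], [([], [0], 6, false),
      ([0, 0, 0, 0], [], 5, false),
      ([], [0, 1, 1, 1, 1, 4], 0, false),
      ([0], [1, 1, 1, 1, 4], 0, true),
      ([0, 0, 0, 0, 0], [1, 1, 1, 4], 1, true),
      ([0, 0, 0, 0], [0, 1, 1, 1, 4], 1, true),
      ([0, 0, 0], [0, 0, 1, 1, 1, 4], 1, true),
      ([0, 0], [0, 0, 0, 1, 1, 1, 4], 1, true),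
      ([0, 0, 1, 0, 0, 0], [1, 1, 4], 1, true),
      ([0, 0, 1, 0, 0], [0, 1, 1, 4], 1, true),
      ([0, 0, 1, 0], [0, 0, 1, 1, 4], 1, true),
      ([0, 0, 1], [0, 0, 0, 1, 1, 4], 1, true),
      ([0, 0, 1, 1, 0, 0, 0], [1, 4], 1, true),
      ([0, 0, 1, 1, 0, 0], [0, 1, 4], 1, true),
      ([0, 0, 1, 1, 0], [0, 0, 1, 4], 1, true),
      ([0, 0, 1, 1], [0, 0, 0, 1, 4], 1, true),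
      ([0, 0, 1, 1, 1, 0, 0, 0], [4], 1, true),
      ([0, 0, 1, 1, 1, 0, 0], [0, 4], 1, true),
      ([0, 0, 1, 1, 1, 0], [0, 0, 4], 1, true),
      ([0, 0, 1, 1, 1], [0, 0, 0, 4], 1, true),
      ([0, 0, 1, 1, 1, 1], [], 6, true),
      ([], [1], 5, true),
      ([4], [], 1, true)]),
    ([2, 0, 0, 0, 0, 1, 0, 0, 0, 0, 1, 0, 0, 0, 0, 1, 0, 0, 0, 0, 1, 0, 0, 0, 0, 1], [([], [0, 0, 0, 0, 1, 0, 0, 0, 0, 1, 0, 0, 0, 0, 1, 0, 0, 0, 0, 1], 3, false),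
      ([0, 1, 1], [0, 0, 0, 0, 1, 0, 0, 0, 0, 1, 0, 0, 0, 0, 1], 3, false),
      ([0, 1, 1, 0, 1, 1], [0, 0, 0, 0, 1, 0, 0, 0, 0, 1], 3, false),
      ([0, 1, 1, 0, 1, 1, 0, 1, 1], [0, 0, 0, 0, 1], 3, false),
      ([0, 1, 1, 0, 1, 1, 0, 1, 1, 0, 1, 1], [], 3, false),
      ([0, 1], [1, 1, 0, 1, 1, 0, 1, 1, 0, 1, 1, 2], 1, false),
      ([0, 1, 0, 1, 1, 1, 0, 1, 1, 0, 1], [1, 1, 2], 1, false),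
      ([0, 1, 0, 1, 1, 1, 0, 1, 1, 0], [1, 1, 1, 2], 1, false),
      ([0, 1, 0, 1, 1, 1, 0, 1], [0, 1, 1, 1, 1, 2], 1, false),
      ([0, 1, 0, 1, 1, 1, 0, 1, 0], [1, 1, 1, 1, 2], 1, false),
      ([0, 1, 0, 1, 1, 1, 0, 1, 0, 0], [2], 2, false),
      ([0, 1, 0, 1, 1, 1, 0], [0, 2], 1, false),
      ([0, 1, 0, 1, 1, 1, 0, 0], [2], 1, false),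
      ([0, 1, 0, 1, 1], [0, 0, 1, 2], 1, false),
      ([0, 1, 0, 1, 1, 0], [0, 1, 2], 1, false),
      ([0, 1, 0, 1, 1, 0, 0], [1, 2], 1, false),
      ([0, 1, 0, 1], [0, 0, 1, 1, 2], 1, false),
      ([0, 1, 0, 1, 0], [0, 1, 1, 2], 1, false),
      ([0, 1, 0, 1, 0, 0], [1, 1, 2], 1, false),
      ([0, 1, 0], [0, 0, 1, 1, 1, 2], 1, false),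
      ([0, 1, 0, 0], [0, 1, 1, 1, 2], 1, false),
      ([0, 1, 0, 0, 0], [1, 1, 1, 2], 1, false),
      ([0], [0, 0, 0, 1, 1, 1, 1, 2], 1, false),
      ([0, 0], [0, 0, 1, 1, 1, 1, 2], 1, false),
      ([0, 0, 0], [0, 1, 1, 1, 1, 2], 1, false),
      ([0, 0, 0, 0], [1, 1, 1, 1, 2], 1, false),
      ([0, 0, 0, 0, 0], [2], 2, false),
      ([], [2], 0, false),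
      ([2], [], 0, true),
      ([2, 0, 0, 0, 0, 0], [], 2, true),
      ([2, 0, 0, 0, 0, 0, 1], [1, 1, 1, 1], 0, true),
      ([2, 0, 0, 0, 0, 0, 1, 0, 0, 0, 0], [1, 1, 1], 1, true),
      ([2, 0, 0, 0, 0, 0, 1, 0, 0, 0], [0, 1, 1, 1], 1, true),
      ([2, 0, 0, 0, 0, 0, 1, 0, 0, 0, 1, 0, 0], [1, 1, 1], 0, true),
      ([2, 0, 0, 0, 0, 0, 1, 0, 0, 0, 1, 0, 0, 0, 0, 0, 0], [1, 1], 1, true),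
      ([2, 0, 0, 0, 0, 0, 1, 0, 0, 0, 1, 0, 0, 0, 0, 0], [0, 1, 1], 1, true),
      ([2, 0, 0, 0, 0, 0, 1, 0, 0, 0, 1, 0, 0, 0, 0], [0, 0, 1, 1], 1, true),
      ([2, 0, 0, 0, 0, 0, 1, 0, 0, 0, 1, 0, 0, 0, 0, 1, 0, 0, 0], [1, 1], 0, true),
      ([2, 0, 0, 0, 0, 0, 1, 0, 0, 0, 1, 0, 0, 0, 0, 1, 0, 0, 0, 0, 0, 0, 0], [1], 1, true),
      ([2, 0, 0, 0, 0, 0, 1, 0, 0, 0, 1, 0, 0, 0, 0, 1, 0, 0, 0, 0, 0, 0], [0, 1], 1, true),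
      ([2, 0, 0, 0, 0, 0, 1, 0, 0, 0, 1, 0, 0, 0, 0, 1, 0, 0, 0, 0, 0], [0, 0, 1], 1, true),
      ([2, 0, 0, 0, 0, 0, 1, 0, 0, 0, 1, 0, 0, 0, 0, 1, 0, 0, 0, 0], [0, 0, 0, 1], 1, true),
      ([2, 0, 0, 0, 0], [0, 0, 0, 1, 0, 0, 0, 0, 1, 0, 0, 0, 0, 1, 0, 0, 0, 0, 1], 1, true)])]
  rows := [[4, 0, 4, 0, 0, 0, 0],
    [0, 3, 0, 0, 0, 0, 0],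
    [2, 0, 1, 0, 0, 0, 0]]
  mu := [[0, 0, 0, 0, 0, 0, 0],
    [0, 0, 0, 0, 0, 0, 0]]
  comb := [[1, 0, 1],
    [0, 2, 0],
    [3, 0, 4]]

/-- Part of a closed path for the prime 7. -/
def path7_3_0 : List SchurPath.Step :=
  [([], [1, 1, 1, 1, 1, 1], 7, false),
    ([0, 0, 0, 0, 0, 0, 2, 2, 2, 2], [1, 1, 1, 1, 1], 7, false),
    ([0, 0, 0, 0, 0, 0, 2, 2, 2, 2, 0, 0, 0, 0, 0, 0, 2, 2, 2, 2], [1, 1, 1, 1], 7, false),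
    ([0, 0, 0, 0, 0, 0, 2, 2, 2, 2, 0, 0, 0, 0, 0, 0, 2, 2, 2, 2, 0, 0, 0, 0, 0, 0, 2, 2, 2, 2], [1, 1, 1], 7, false),
    ([0, 0, 0, 0, 0, 0, 2, 2, 2, 2, 0, 0, 0, 0, 0, 0, 2, 2, 2, 2, 0, 0, 0, 0, 0, 0, 2, 2, 2, 2, 0, 0, 0, 0, 0, 0, 2, 2, 2, 2], [1, 1], 7, false),
    ([0, 0, 0, 0, 0, 0, 2, 2, 2, 2, 0, 0, 0, 0, 0, 0, 2, 2, 2, 2, 0, 0, 0, 0, 0, 0, 2, 2, 2, 2, 0, 0, 0, 0, 0, 0, 2, 2, 2, 2, 0, 0, 0, 0, 0, 0, 2, 2, 2, 2], [1], 7, false),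
    ([0, 0, 0, 0, 0, 0, 2, 2, 2, 2, 0, 0, 0, 0, 0, 0, 2, 2, 2, 2, 0, 0, 0, 0, 0, 0, 2, 2, 2, 2, 0, 0, 0, 0, 0, 0, 2, 2, 2, 2, 0, 0, 0, 0, 0, 0, 2, 2, 2, 2, 0, 0, 0, 0, 0, 0, 2, 2, 2, 2], [], 7, false),
    ([0, 0, 0, 0, 0, 0, 2, 2, 2], [0, 0, 0, 0, 0, 2, 2, 2, 2, 0, 0, 0, 0, 0, 0, 2, 2, 2, 2, 0, 0, 0, 0, 0, 0, 2, 2, 2, 2, 0, 0, 0, 0, 0, 0, 2, 2, 2, 2, 0, 0, 0, 0, 0, 0, 2, 2, 2, 2, 0, 0, 0, 0, 0, 0, 2, 2, 2, 2, 3], 3, false),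
    ([0, 0, 0, 0, 0, 0, 2, 2, 2, 0, 2, 0, 0, 0, 0, 0, 2, 2, 2, 2, 0, 0, 0, 0, 0, 0, 2, 2, 2, 2, 0, 0, 0, 0, 0, 0, 2, 2, 2, 2, 0, 0, 0, 0, 0, 0, 2, 2, 2, 2, 0, 0, 0, 0, 0, 0, 2, 2, 2], [0, 0, 0, 0, 0, 2, 2, 2, 2, 3], 3, false),
    ([0, 0, 0, 0, 0, 0, 2, 2, 2, 0, 2, 0, 0, 0, 0, 0, 2, 2, 2, 2, 0, 0, 0, 0, 0, 0, 2, 2, 2, 2, 0, 0, 0, 0, 0, 0, 2, 2, 2, 2, 0, 0, 0, 0, 0, 0, 2, 2, 2, 2, 0, 0, 0, 0, 0, 0, 2, 2, 2, 0], [0, 0, 0, 0, 2, 2, 2, 2, 3], 3, false),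
    ([0, 0, 0, 0, 0, 0, 2, 2, 2, 0, 2, 0, 0, 0, 0, 0, 2, 2, 2, 2, 0, 0, 0, 0, 0, 0, 2, 2, 2, 2, 0, 0, 0, 0, 0, 0, 2, 2, 2, 2, 0, 0, 0, 0, 0, 0, 2, 2, 2, 2, 0, 0, 0, 0, 0, 0, 2, 2, 2, 0, 0], [0, 0, 0, 2, 2, 2, 2, 3], 3, false),
    ([0, 0, 0, 0, 0, 0, 2, 2, 2, 0, 2, 0, 0, 0, 0, 0, 2, 2, 2, 2, 0, 0, 0, 0, 0, 0, 2, 2, 2, 2, 0, 0, 0, 0, 0, 0, 2, 2, 2, 2, 0, 0, 0, 0, 0, 0, 2, 2, 2, 2, 0, 0, 0, 0, 0, 0, 2, 2, 2, 0, 0, 0], [0, 0, 2, 2, 2, 2, 3], 3, false),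
    ([0, 0, 0, 0, 0, 0, 2, 2, 2, 0, 2, 0, 0, 0, 0, 0, 2, 2, 2, 2, 0, 0, 0, 0, 0, 0, 2, 2, 2, 2, 0, 0, 0, 0, 0, 0, 2, 2, 2, 2, 0, 0, 0, 0, 0, 0, 2, 2, 2, 2, 0, 0, 0, 0, 0, 0, 2, 2, 2, 0, 0, 0, 0], [0, 2, 2, 2, 2, 3], 3, false),
    ([0, 0, 0, 0, 0, 0, 2, 2, 2, 0, 2, 0, 0, 0, 0, 0, 2, 2, 2, 2, 0, 0, 0, 0, 0, 0, 2, 2, 2, 2, 0, 0, 0, 0, 0, 0, 2, 2, 2, 2, 0, 0, 0, 0, 0, 0, 2, 2, 2, 2, 0, 0, 0, 0, 0, 0, 2, 2, 2, 0, 0, 0, 0, 0], [2, 2, 2, 2, 3], 3, false),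
    ([0, 0, 0, 0, 0, 0, 2, 2, 2, 0, 2, 0, 0, 0, 0, 0, 2, 2, 2, 2, 0, 0, 0, 0, 0, 0, 2, 2, 2, 2, 0, 0, 0, 0, 0, 0, 2, 2, 2, 2, 0, 0, 0, 0, 0, 0, 2, 2, 2, 2, 0, 0, 0, 0, 0, 0, 2, 2], [0, 0, 0, 0, 0, 2, 2, 2, 2, 2, 3], 3, false),
    ([0, 0, 0, 0, 0, 0, 2, 2, 2, 0, 2, 0, 0, 0, 0, 0, 2, 2, 2, 2, 0, 0, 0, 0, 0, 0, 2, 2, 2, 2, 0, 0, 0, 0, 0, 0, 2, 2, 2, 2, 0, 0, 0, 0, 0, 0, 2, 2, 2, 2, 0, 0, 0, 0, 0, 0, 2, 2, 0], [0, 0, 0, 0, 2, 2, 2, 2, 2, 3], 3, false),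
    ([0, 0, 0, 0, 0, 0, 2, 2, 2, 0, 2, 0, 0, 0, 0, 0, 2, 2, 2, 2, 0, 0, 0, 0, 0, 0, 2, 2, 2, 2, 0, 0, 0, 0, 0, 0, 2, 2, 2, 2, 0, 0, 0, 0, 0, 0, 2, 2, 2, 2, 0, 0, 0, 0, 0, 0, 2, 2, 0, 0], [0, 0, 0, 2, 2, 2, 2, 2, 3], 3, false),
    ([0, 0, 0, 0, 0, 0, 2, 2, 2, 0, 2, 0, 0, 0, 0, 0, 2, 2, 2, 2, 0, 0, 0, 0, 0, 0, 2, 2, 2, 2, 0, 0, 0, 0, 0, 0, 2, 2, 2, 2, 0, 0, 0, 0, 0, 0, 2, 2, 2, 2, 0, 0, 0, 0, 0, 0, 2, 2, 0, 0, 0], [0, 0, 2, 2, 2, 2, 2, 3], 3, false),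
    ([0, 0, 0, 0, 0, 0, 2, 2, 2, 0, 2, 0, 0, 0, 0, 0, 2, 2, 2, 2, 0, 0, 0, 0, 0, 0, 2, 2, 2, 2, 0, 0, 0, 0, 0, 0, 2, 2, 2, 2, 0, 0, 0, 0, 0, 0, 2, 2, 2, 2, 0, 0, 0, 0, 0, 0, 2, 2, 0, 0, 0, 0], [0, 2, 2, 2, 2, 2, 3], 3, false),
    ([0, 0, 0, 0, 0, 0, 2, 2, 2, 0, 2, 0, 0, 0, 0, 0, 2, 2, 2, 2, 0, 0, 0, 0, 0, 0, 2, 2, 2, 2, 0, 0, 0, 0, 0, 0, 2, 2, 2, 2, 0, 0, 0, 0, 0, 0, 2, 2, 2, 2, 0, 0, 0, 0, 0, 0, 2, 2, 0, 0, 0, 0, 0], [2, 2, 2, 2, 2, 3], 3, false),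
    ([0, 0, 0, 0, 0, 0, 2, 2, 2, 0, 2, 0, 0, 0, 0, 0, 2, 2, 2, 2, 0, 0, 0, 0, 0, 0, 2, 2, 2, 2, 0, 0, 0, 0, 0, 0, 2, 2, 2, 2, 0, 0, 0, 0, 0, 0, 2, 2, 2, 2, 0, 0, 0, 0, 0, 0, 2], [0, 0, 0, 0, 0, 2, 2, 2, 2, 2, 2, 3], 3, false),
    ([0, 0, 0, 0, 0, 0, 2, 2, 2, 0, 2, 0, 0, 0, 0, 0, 2, 2, 2, 2, 0, 0, 0, 0, 0, 0, 2, 2, 2, 2, 0, 0, 0, 0, 0, 0, 2, 2, 2, 2, 0, 0, 0, 0, 0, 0, 2, 2, 2, 2, 0, 0, 0, 0, 0, 0, 2, 0], [0, 0, 0, 0, 2, 2, 2, 2, 2, 2, 3], 3, false),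
    ([0, 0, 0, 0, 0, 0, 2, 2, 2, 0, 2, 0, 0, 0, 0, 0, 2, 2, 2, 2, 0, 0, 0, 0, 0, 0, 2, 2, 2, 2, 0, 0, 0, 0, 0, 0, 2, 2, 2, 2, 0, 0, 0, 0, 0, 0, 2, 2, 2, 2, 0, 0, 0, 0, 0, 0, 2, 0, 0], [0, 0, 0, 2, 2, 2, 2, 2, 2, 3], 3, false),
    ([0, 0, 0, 0, 0, 0, 2, 2, 2, 0, 2, 0, 0, 0, 0, 0, 2, 2, 2, 2, 0, 0, 0, 0, 0, 0, 2, 2, 2, 2, 0, 0, 0, 0, 0, 0, 2, 2, 2, 2, 0, 0, 0, 0, 0, 0, 2, 2, 2, 2, 0, 0, 0, 0, 0, 0, 2, 0, 0, 0], [0, 0, 2, 2, 2, 2, 2, 2, 3], 3, false),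
    ([0, 0, 0, 0, 0, 0, 2, 2, 2, 0, 2, 0, 0, 0, 0, 0, 2, 2, 2, 2, 0, 0, 0, 0, 0, 0, 2, 2, 2, 2, 0, 0, 0, 0, 0, 0, 2, 2, 2, 2, 0, 0, 0, 0, 0, 0, 2, 2, 2, 2, 0, 0, 0, 0, 0, 0, 2, 0, 0, 0, 0], [0, 2, 2, 2, 2, 2, 2, 3], 3, false),
    ([0, 0, 0, 0, 0, 0, 2, 2, 2, 0, 2, 0, 0, 0, 0, 0, 2, 2, 2, 2, 0, 0, 0, 0, 0, 0, 2, 2, 2, 2, 0, 0, 0, 0, 0, 0, 2, 2, 2, 2, 0, 0, 0, 0, 0, 0, 2, 2, 2, 2, 0, 0, 0, 0, 0, 0, 2, 0, 0, 0, 0, 0], [2, 2, 2, 2, 2, 2, 3], 3, false),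
    ([0, 0, 0, 0, 0, 0, 2, 2, 2, 0, 2, 0, 0, 0, 0, 0, 2, 2, 2, 2, 0, 0, 0, 0, 0, 0, 2, 2, 2, 2, 0, 0, 0, 0, 0, 0, 2, 2, 2, 2, 0, 0, 0, 0, 0, 0, 2, 2, 2, 2, 0, 0, 0, 0, 0, 0, 2, 0, 0, 0, 0, 0, 0], [3], 5, false),
    ([0, 0, 0, 0, 0, 0, 2, 2, 2, 0, 2, 0, 0, 0, 0, 0, 2, 2, 2, 2, 0, 0, 0, 0, 0, 0, 2, 2, 2, 2, 0, 0, 0, 0, 0, 0, 2, 2, 2, 2, 0, 0, 0, 0, 0, 0, 2, 2, 2, 2, 0, 0, 0, 0, 0, 0], [0, 0, 0, 0, 0, 3], 3, false),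
    ([0, 0, 0, 0, 0, 0, 2, 2, 2, 0, 2, 0, 0, 0, 0, 0, 2, 2, 2, 2, 0, 0, 0, 0, 0, 0, 2, 2, 2, 2, 0, 0, 0, 0, 0, 0, 2, 2, 2, 2, 0, 0, 0, 0, 0, 0, 2, 2, 2, 2, 0, 0, 0, 0, 0, 0, 0], [0, 0, 0, 0, 3], 3, false),
    ([0, 0, 0, 0, 0, 0, 2, 2, 2, 0, 2, 0, 0, 0, 0, 0, 2, 2, 2, 2, 0, 0, 0, 0, 0, 0, 2, 2, 2, 2, 0, 0, 0, 0, 0, 0, 2, 2, 2, 2, 0, 0, 0, 0, 0, 0, 2, 2, 2, 2, 0, 0, 0, 0, 0, 0, 0, 0], [0, 0, 0, 3], 3, false),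
    ([0, 0, 0, 0, 0, 0, 2, 2, 2, 0, 2, 0, 0, 0, 0, 0, 2, 2, 2, 2, 0, 0, 0, 0, 0, 0, 2, 2, 2, 2, 0, 0, 0, 0, 0, 0, 2, 2, 2, 2, 0, 0, 0, 0, 0, 0, 2, 2, 2, 2, 0, 0, 0, 0, 0, 0, 0, 0, 0], [0, 0, 3], 3, false),
    ([0, 0, 0, 0, 0, 0, 2, 2, 2, 0, 2, 0, 0, 0, 0, 0, 2, 2, 2, 2, 0, 0, 0, 0, 0, 0, 2, 2, 2, 2, 0, 0, 0, 0, 0, 0, 2, 2, 2, 2, 0, 0, 0, 0, 0, 0, 2, 2, 2, 2, 0, 0, 0, 0, 0, 0, 0, 0, 0, 0], [0, 3], 3, false),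
    ([0, 0, 0, 0, 0, 0, 2, 2, 2, 0, 2, 0, 0, 0, 0, 0, 2, 2, 2, 2, 0, 0, 0, 0, 0, 0, 2, 2, 2, 2, 0, 0, 0, 0, 0, 0, 2, 2, 2, 2, 0, 0, 0, 0, 0, 0, 2, 2, 2, 2, 0, 0, 0, 0, 0, 0, 0, 0, 0, 0, 0], [3], 3, false),
    ([0, 0, 0, 0, 0, 0, 2, 2, 2, 0, 2, 0, 0, 0, 0, 0, 2, 2, 2, 2, 0, 0, 0, 0, 0, 0, 2, 2, 2, 2, 0, 0, 0, 0, 0, 0, 2, 2, 2, 2, 0, 0, 0, 0, 0, 0, 2, 2, 2, 2, 0, 0, 0, 0, 0], [2, 3], 0, false),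
    ([0, 0, 0, 0, 0, 0, 2, 2, 2, 0, 2, 0, 0, 0, 0, 0, 2, 2, 2, 2, 0, 0, 0, 0, 0, 0, 2, 2, 2, 2, 0, 0, 0, 0, 0, 0, 2, 2, 2, 2, 0, 0, 0, 0, 0, 0, 2, 2, 2], [0, 0, 0, 0, 2, 3], 3, false),
    ([0, 0, 0, 0, 0, 0, 2, 2, 2, 0, 2, 0, 0, 0, 0, 0, 2, 2, 2, 2, 0, 0, 0, 0, 0, 0, 2, 2, 2, 2, 0, 0, 0, 0, 0, 0, 2, 2, 2, 2, 0, 0, 0, 0, 0, 0, 2, 2, 2, 0], [0, 0, 0, 2, 3], 3, false),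
    ([0, 0, 0, 0, 0, 0, 2, 2, 2, 0, 2, 0, 0, 0, 0, 0, 2, 2, 2, 2, 0, 0, 0, 0, 0, 0, 2, 2, 2, 2, 0, 0, 0, 0, 0, 0, 2, 2, 2, 2, 0, 0, 0, 0, 0, 0, 2, 2, 2, 0, 0], [0, 0, 2, 3], 3, false),
    ([0, 0, 0, 0, 0, 0, 2, 2, 2, 0, 2, 0, 0, 0, 0, 0, 2, 2, 2, 2, 0, 0, 0, 0, 0, 0, 2, 2, 2, 2, 0, 0, 0, 0, 0, 0, 2, 2, 2, 2, 0, 0, 0, 0, 0, 0, 2, 2, 2, 0, 0, 0], [0, 2, 3], 3, false),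
    ([0, 0, 0, 0, 0, 0, 2, 2, 2, 0, 2, 0, 0, 0, 0, 0, 2, 2, 2, 2, 0, 0, 0, 0, 0, 0, 2, 2, 2, 2, 0, 0, 0, 0, 0, 0, 2, 2, 2, 2, 0, 0, 0, 0, 0, 0, 2, 2, 2, 0, 0, 0, 0], [2, 3], 3, false),
    ([0, 0, 0, 0, 0, 0, 2, 2, 2, 0, 2, 0, 0, 0, 0, 0, 2, 2, 2, 2, 0, 0, 0, 0, 0, 0, 2, 2, 2, 2, 0, 0, 0, 0, 0, 0, 2, 2, 2, 2, 0, 0, 0, 0, 0, 0, 2, 2], [0, 0, 0, 0, 2, 2, 3], 3, false),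
    ([0, 0, 0, 0, 0, 0, 2, 2, 2, 0, 2, 0, 0, 0, 0, 0, 2, 2, 2, 2, 0, 0, 0, 0, 0, 0, 2, 2, 2, 2, 0, 0, 0, 0, 0, 0, 2, 2, 2, 2, 0, 0, 0, 0, 0, 0, 2, 2, 0], [0, 0, 0, 2, 2, 3], 3, false),
    ([0, 0, 0, 0, 0, 0, 2, 2, 2, 0, 2, 0, 0, 0, 0, 0, 2, 2, 2, 2, 0, 0, 0, 0, 0, 0, 2, 2, 2, 2, 0, 0, 0, 0, 0, 0, 2, 2, 2, 2, 0, 0, 0, 0, 0, 0, 2, 2, 0, 0], [0, 0, 2, 2, 3], 3, false),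
    ([0, 0, 0, 0, 0, 0, 2, 2, 2, 0, 2, 0, 0, 0, 0, 0, 2, 2, 2, 2, 0, 0, 0, 0, 0, 0, 2, 2, 2, 2, 0, 0, 0, 0, 0, 0, 2, 2, 2, 2, 0, 0, 0, 0, 0, 0, 2, 2, 0, 0, 0], [0, 2, 2, 3], 3, false),
    ([0, 0, 0, 0, 0, 0, 2, 2, 2, 0, 2, 0, 0, 0, 0, 0, 2, 2, 2, 2, 0, 0, 0, 0, 0, 0, 2, 2, 2, 2, 0, 0, 0, 0, 0, 0, 2, 2, 2, 2, 0, 0, 0, 0, 0, 0, 2, 2, 0, 0, 0, 0], [2, 2, 3], 3, false),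
    ([0, 0, 0, 0, 0, 0, 2, 2, 2, 0, 2, 0, 0, 0, 0, 0, 2, 2, 2, 2, 0, 0, 0, 0, 0, 0, 2, 2, 2, 2, 0, 0, 0, 0, 0, 0, 2, 2, 2, 2, 0, 0, 0, 0, 0, 0, 2], [0, 0, 0, 0, 2, 2, 2, 3], 3, false),
    ([0, 0, 0, 0, 0, 0, 2, 2, 2, 0, 2, 0, 0, 0, 0, 0, 2, 2, 2, 2, 0, 0, 0, 0, 0, 0, 2, 2, 2, 2, 0, 0, 0, 0, 0, 0, 2, 2, 2, 2, 0, 0, 0, 0, 0, 0, 2, 0], [0, 0, 0, 2, 2, 2, 3], 3, false),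
    ([0, 0, 0, 0, 0, 0, 2, 2, 2, 0, 2, 0, 0, 0, 0, 0, 2, 2, 2, 2, 0, 0, 0, 0, 0, 0, 2, 2, 2, 2, 0, 0, 0, 0, 0, 0, 2, 2, 2, 2, 0, 0, 0, 0, 0, 0, 2, 0, 0], [0, 0, 2, 2, 2, 3], 3, false),
    ([0, 0, 0, 0, 0, 0, 2, 2, 2, 0, 2, 0, 0, 0, 0, 0, 2, 2, 2, 2, 0, 0, 0, 0, 0, 0, 2, 2, 2, 2, 0, 0, 0, 0, 0, 0, 2, 2, 2, 2, 0, 0, 0, 0, 0, 0, 2, 0, 0, 0], [0, 2, 2, 2, 3], 3, false),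
    ([0, 0, 0, 0, 0, 0, 2, 2, 2, 0, 2, 0, 0, 0, 0, 0, 2, 2, 2, 2, 0, 0, 0, 0, 0, 0, 2, 2, 2, 2, 0, 0, 0, 0, 0, 0, 2, 2, 2, 2, 0, 0, 0, 0, 0, 0, 2, 0, 0, 0, 0], [2, 2, 2, 3], 3, false),
    ([0, 0, 0, 0, 0, 0, 2, 2, 2, 0, 2, 0, 0, 0, 0, 0, 2, 2, 2, 2, 0, 0, 0, 0, 0, 0, 2, 2, 2, 2, 0, 0, 0, 0, 0, 0, 2, 2, 2, 2, 0, 0, 0, 0, 0, 0], [0, 0, 0, 0, 2, 2, 2, 2, 3], 3, false),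
    ([0, 0, 0, 0, 0, 0, 2, 2, 2, 0, 2, 0, 0, 0, 0, 0, 2, 2, 2, 2, 0, 0, 0, 0, 0, 0, 2, 2, 2, 2, 0, 0, 0, 0, 0, 0, 2, 2, 2, 2, 0, 0, 0, 0, 0, 0, 0], [0, 0, 0, 2, 2, 2, 2, 3], 3, false),
    ([0, 0, 0, 0, 0, 0, 2, 2, 2, 0, 2, 0, 0, 0, 0, 0, 2, 2, 2, 2, 0, 0, 0, 0, 0, 0, 2, 2, 2, 2, 0, 0, 0, 0, 0, 0, 2, 2, 2, 2, 0, 0, 0, 0, 0, 0, 0, 0], [0, 0, 2, 2, 2, 2, 3], 3, false),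
    ([0, 0, 0, 0, 0, 0, 2, 2, 2, 0, 2, 0, 0, 0, 0, 0, 2, 2, 2, 2, 0, 0, 0, 0, 0, 0, 2, 2, 2, 2, 0, 0, 0, 0, 0, 0, 2, 2, 2, 2, 0, 0, 0, 0, 0, 0, 0, 0, 0], [0, 2, 2, 2, 2, 3], 3, false),
    ([0, 0, 0, 0, 0, 0, 2, 2, 2, 0, 2, 0, 0, 0, 0, 0, 2, 2, 2, 2, 0, 0, 0, 0, 0, 0, 2, 2, 2, 2, 0, 0, 0, 0, 0, 0, 2, 2, 2, 2, 0, 0, 0, 0, 0, 0, 0, 0, 0, 0], [2, 2, 2, 2, 3], 3, false),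
    ([0, 0, 0, 0, 0, 0, 2, 2, 2, 0, 2, 0, 0, 0, 0, 0, 2, 2, 2, 2, 0, 0, 0, 0, 0, 0, 2, 2, 2, 2, 0, 0, 0, 0, 0, 0, 2, 2, 2, 2, 0, 0, 0, 0], [2, 2, 2, 2, 2, 3], 0, false),
    ([0, 0, 0, 0, 0, 0, 2, 2, 2, 0, 2, 0, 0, 0, 0, 0, 2, 2, 2, 2, 0, 0, 0, 0, 0, 0, 2, 2, 2, 2, 0, 0, 0, 0, 0, 0, 2, 2, 2], [0, 0, 0, 2, 2, 2, 2, 2, 3], 3, false),
    ([0, 0, 0, 0, 0, 0, 2, 2, 2, 0, 2, 0, 0, 0, 0, 0, 2, 2, 2, 2, 0, 0, 0, 0, 0, 0, 2, 2, 2, 2, 0, 0, 0, 0, 0, 0, 2, 2, 2, 0], [0, 0, 2, 2, 2, 2, 2, 3], 3, false),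
    ([0, 0, 0, 0, 0, 0, 2, 2, 2, 0, 2, 0, 0, 0, 0, 0, 2, 2, 2, 2, 0, 0, 0, 0, 0, 0, 2, 2, 2, 2, 0, 0, 0, 0, 0, 0, 2, 2, 2, 0, 0], [0, 2, 2, 2, 2, 2, 3], 3, false),
    ([0, 0, 0, 0, 0, 0, 2, 2, 2, 0, 2, 0, 0, 0, 0, 0, 2, 2, 2, 2, 0, 0, 0, 0, 0, 0, 2, 2, 2, 2, 0, 0, 0, 0, 0, 0, 2, 2, 2, 0, 0, 0], [2, 2, 2, 2, 2, 3], 3, false),
    ([0, 0, 0, 0, 0, 0, 2, 2, 2, 0, 2, 0, 0, 0, 0, 0, 2, 2, 2, 2, 0, 0, 0, 0, 0, 0, 2, 2, 2, 2, 0, 0, 0, 0, 0, 0, 2, 2], [0, 0, 0, 2, 2, 2, 2, 2, 2, 3], 3, false)]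

/-- Part of a closed path for the prime 7. -/
def path7_3_1 : List SchurPath.Step :=
  [([0, 0, 0, 0, 0, 0, 2, 2, 2, 0, 2, 0, 0, 0, 0, 0, 2, 2, 2, 2, 0, 0, 0, 0, 0, 0, 2, 2, 2, 2, 0, 0, 0, 0, 0, 0, 2, 2, 0], [0, 0, 2, 2, 2, 2, 2, 2, 3], 3, false),
    ([0, 0, 0, 0, 0, 0, 2, 2, 2, 0, 2, 0, 0, 0, 0, 0, 2, 2, 2, 2, 0, 0, 0, 0, 0, 0, 2, 2, 2, 2, 0, 0, 0, 0, 0, 0, 2, 2, 0, 0], [0, 2, 2, 2, 2, 2, 2, 3], 3, false),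
    ([0, 0, 0, 0, 0, 0, 2, 2, 2, 0, 2, 0, 0, 0, 0, 0, 2, 2, 2, 2, 0, 0, 0, 0, 0, 0, 2, 2, 2, 2, 0, 0, 0, 0, 0, 0, 2, 2, 0, 0, 0], [2, 2, 2, 2, 2, 2, 3], 3, false),
    ([0, 0, 0, 0, 0, 0, 2, 2, 2, 0, 2, 0, 0, 0, 0, 0, 2, 2, 2, 2, 0, 0, 0, 0, 0, 0, 2, 2, 2, 2, 0, 0, 0, 0, 0, 0, 2, 2, 0, 0, 0, 0], [3], 5, false),
    ([0, 0, 0, 0, 0, 0, 2, 2, 2, 0, 2, 0, 0, 0, 0, 0, 2, 2, 2, 2, 0, 0, 0, 0, 0, 0, 2, 2, 2, 2, 0, 0, 0, 0, 0, 0, 2], [0, 0, 0, 3], 3, false),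
    ([0, 0, 0, 0, 0, 0, 2, 2, 2, 0, 2, 0, 0, 0, 0, 0, 2, 2, 2, 2, 0, 0, 0, 0, 0, 0, 2, 2, 2, 2, 0, 0, 0, 0, 0, 0, 2, 0], [0, 0, 3], 3, false),
    ([0, 0, 0, 0, 0, 0, 2, 2, 2, 0, 2, 0, 0, 0, 0, 0, 2, 2, 2, 2, 0, 0, 0, 0, 0, 0, 2, 2, 2, 2, 0, 0, 0, 0, 0, 0, 2, 0, 0], [0, 3], 3, false),
    ([0, 0, 0, 0, 0, 0, 2, 2, 2, 0, 2, 0, 0, 0, 0, 0, 2, 2, 2, 2, 0, 0, 0, 0, 0, 0, 2, 2, 2, 2, 0, 0, 0, 0, 0, 0, 2, 0, 0, 0], [3], 3, false),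
    ([0, 0, 0, 0, 0, 0, 2, 2, 2, 0, 2, 0, 0, 0, 0, 0, 2, 2, 2, 2, 0, 0, 0, 0, 0, 0, 2, 2, 2, 2, 0, 0, 0, 0, 0, 0], [0, 0, 0, 2, 3], 3, false),
    ([0, 0, 0, 0, 0, 0, 2, 2, 2, 0, 2, 0, 0, 0, 0, 0, 2, 2, 2, 2, 0, 0, 0, 0, 0, 0, 2, 2, 2, 2, 0, 0, 0, 0, 0, 0, 0], [0, 0, 2, 3], 3, false),
    ([0, 0, 0, 0, 0, 0, 2, 2, 2, 0, 2, 0, 0, 0, 0, 0, 2, 2, 2, 2, 0, 0, 0, 0, 0, 0, 2, 2, 2, 2, 0, 0, 0, 0, 0, 0, 0, 0], [0, 2, 3], 3, false),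
    ([0, 0, 0, 0, 0, 0, 2, 2, 2, 0, 2, 0, 0, 0, 0, 0, 2, 2, 2, 2, 0, 0, 0, 0, 0, 0, 2, 2, 2, 2, 0, 0, 0, 0, 0, 0, 0, 0, 0], [2, 3], 3, false),
    ([0, 0, 0, 0, 0, 0, 2, 2, 2, 0, 2, 0, 0, 0, 0, 0, 2, 2, 2, 2, 0, 0, 0, 0, 0, 0, 2, 2, 2, 2, 0, 0, 0], [2, 2, 3], 0, false),
    ([0, 0, 0, 0, 0, 0, 2, 2, 2, 0, 2, 0, 0, 0, 0, 0, 2, 2, 2, 2, 0, 0, 0, 0, 0, 0, 2, 2, 2], [0, 0, 2, 2, 3], 3, false),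
    ([0, 0, 0, 0, 0, 0, 2, 2, 2, 0, 2, 0, 0, 0, 0, 0, 2, 2, 2, 2, 0, 0, 0, 0, 0, 0, 2, 2, 2, 0], [0, 2, 2, 3], 3, false),
    ([0, 0, 0, 0, 0, 0, 2, 2, 2, 0, 2, 0, 0, 0, 0, 0, 2, 2, 2, 2, 0, 0, 0, 0, 0, 0, 2, 2, 2, 0, 0], [2, 2, 3], 3, false),
    ([0, 0, 0, 0, 0, 0, 2, 2, 2, 0, 2, 0, 0, 0, 0, 0, 2, 2, 2, 2, 0, 0, 0, 0, 0, 0, 2, 2], [0, 0, 2, 2, 2, 3], 3, false),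
    ([0, 0, 0, 0, 0, 0, 2, 2, 2, 0, 2, 0, 0, 0, 0, 0, 2, 2, 2, 2, 0, 0, 0, 0, 0, 0, 2, 2, 0], [0, 2, 2, 2, 3], 3, false),
    ([0, 0, 0, 0, 0, 0, 2, 2, 2, 0, 2, 0, 0, 0, 0, 0, 2, 2, 2, 2, 0, 0, 0, 0, 0, 0, 2, 2, 0, 0], [2, 2, 2, 3], 3, false),
    ([0, 0, 0, 0, 0, 0, 2, 2, 2, 0, 2, 0, 0, 0, 0, 0, 2, 2, 2, 2, 0, 0, 0, 0, 0, 0, 2], [0, 0, 2, 2, 2, 2, 3], 3, false),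
    ([0, 0, 0, 0, 0, 0, 2, 2, 2, 0, 2, 0, 0, 0, 0, 0, 2, 2, 2, 2, 0, 0, 0, 0, 0, 0, 2, 0], [0, 2, 2, 2, 2, 3], 3, false),
    ([0, 0, 0, 0, 0, 0, 2, 2, 2, 0, 2, 0, 0, 0, 0, 0, 2, 2, 2, 2, 0, 0, 0, 0, 0, 0, 2, 0, 0], [2, 2, 2, 2, 3], 3, false),
    ([0, 0, 0, 0, 0, 0, 2, 2, 2, 0, 2, 0, 0, 0, 0, 0, 2, 2, 2, 2, 0, 0, 0, 0, 0, 0], [0, 0, 2, 2, 2, 2, 2, 3], 3, false),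
    ([0, 0, 0, 0, 0, 0, 2, 2, 2, 0, 2, 0, 0, 0, 0, 0, 2, 2, 2, 2, 0, 0, 0, 0, 0, 0, 0], [0, 2, 2, 2, 2, 2, 3], 3, false),
    ([0, 0, 0, 0, 0, 0, 2, 2, 2, 0, 2, 0, 0, 0, 0, 0, 2, 2, 2, 2, 0, 0, 0, 0, 0, 0, 0, 0], [2, 2, 2, 2, 2, 3], 3, false),
    ([0, 0, 0, 0, 0, 0, 2, 2, 2, 0, 2, 0, 0, 0, 0, 0, 2, 2, 2, 2, 0, 0], [2, 2, 2, 2, 2, 2, 3], 0, false),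
    ([0, 0, 0, 0, 0, 0, 2, 2, 2, 0, 2, 0, 0, 0, 0, 0, 2, 2, 2], [0, 2, 2, 2, 2, 2, 2, 3], 3, false),
    ([0, 0, 0, 0, 0, 0, 2, 2, 2, 0, 2, 0, 0, 0, 0, 0, 2, 2, 2, 0], [2, 2, 2, 2, 2, 2, 3], 3, false),
    ([0, 0, 0, 0, 0, 0, 2, 2, 2, 0, 2, 0, 0, 0, 0, 0, 2, 2, 2, 0, 0], [3], 5, false),
    ([0, 0, 0, 0, 0, 0, 2, 2, 2, 0, 2, 0, 0, 0, 0, 0, 2, 2], [0, 3], 3, false),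
    ([0, 0, 0, 0, 0, 0, 2, 2, 2, 0, 2, 0, 0, 0, 0, 0, 2, 2, 0], [3], 3, false),
    ([0, 0, 0, 0, 0, 0, 2, 2, 2, 0, 2, 0, 0, 0, 0, 0, 2], [0, 2, 3], 3, false),
    ([0, 0, 0, 0, 0, 0, 2, 2, 2, 0, 2, 0, 0, 0, 0, 0, 2, 0], [2, 3], 3, false),
    ([0, 0, 0, 0, 0, 0, 2, 2, 2, 0, 2, 0, 0, 0, 0, 0], [0, 2, 2, 3], 3, false),
    ([0, 0, 0, 0, 0, 0, 2, 2, 2, 0, 2, 0, 0, 0, 0, 0, 0], [2, 2, 3], 3, false),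
    ([0, 0, 0, 0, 0, 0, 2, 2, 2, 0, 2], [2, 2, 2, 3], 0, false),
    ([0, 0, 0, 0, 0, 0, 2, 2], [2, 2, 2, 2, 3], 3, false),
    ([0, 0, 0, 0, 0, 0, 2], [2, 2, 2, 2, 2, 3], 3, false),
    ([0, 0, 0, 0, 0, 0], [2, 2, 2, 2, 2, 2, 3], 3, false),
    ([0, 0, 0, 0, 0, 0, 0], [3], 5, false),
    ([], [3], 0, false),
    ([3], [], 2, true)]

/-- Part of a closed path for the prime 7. -/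
def path7_4_0 : List SchurPath.Step :=
  [([], [2, 2, 2, 2, 2, 2], 8, false),
    ([0, 0, 0, 0, 0, 1, 1, 1, 1, 1, 2, 2, 2, 2, 2, 2], [2, 2, 2, 2, 2], 8, false),
    ([0, 0, 0, 0, 0, 1, 1, 1, 1, 1, 2, 2, 2, 2, 2, 2, 0, 0, 0, 0, 0, 1, 1, 1, 1, 1, 2, 2, 2, 2, 2, 2], [2, 2, 2, 2], 8, false),
    ([0, 0, 0, 0, 0, 1, 1, 1, 1, 1, 2, 2, 2, 2, 2, 2, 0, 0, 0, 0, 0, 1, 1, 1, 1, 1, 2, 2, 2, 2, 2, 2, 0, 0, 0, 0, 0, 1, 1, 1, 1, 1, 2, 2, 2, 2, 2, 2], [2, 2, 2], 8, false),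
    ([0, 0, 0, 0, 0, 1, 1, 1, 1, 1, 2, 2, 2, 2, 2, 2, 0, 0, 0, 0, 0, 1, 1, 1, 1, 1, 2, 2, 2, 2, 2, 2, 0, 0, 0, 0, 0, 1, 1, 1, 1, 1, 2, 2, 2, 2, 2, 2, 0, 0, 0, 0, 0, 1, 1, 1, 1, 1, 2, 2, 2, 2, 2, 2], [2, 2], 8, false),
    ([0, 0, 0, 0, 0, 1, 1, 1, 1, 1, 2, 2, 2, 2, 2, 2, 0, 0, 0, 0, 0, 1, 1, 1, 1, 1, 2, 2, 2, 2, 2, 2, 0, 0, 0, 0, 0, 1, 1, 1, 1, 1, 2, 2, 2, 2, 2, 2, 0, 0, 0, 0, 0, 1, 1, 1, 1, 1, 2, 2, 2, 2, 2, 2, 0, 0, 0, 0, 0, 1, 1, 1, 1, 1, 2, 2, 2, 2, 2, 2], [2], 8, false),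
    ([0, 0, 0, 0, 0, 1, 1, 1, 1, 1, 2, 2, 2, 2, 2, 2, 0, 0, 0, 0, 0, 1, 1, 1, 1, 1, 2, 2, 2, 2, 2, 2, 0, 0, 0, 0, 0, 1, 1, 1, 1, 1, 2, 2, 2, 2, 2, 2, 0, 0, 0, 0, 0, 1, 1, 1, 1, 1, 2, 2, 2, 2, 2, 2, 0, 0, 0, 0, 0, 1, 1, 1, 1, 1, 2, 2, 2, 2, 2, 2, 0, 0, 0, 0, 0, 1, 1, 1, 1, 1, 2, 2, 2, 2, 2, 2], [], 8, false),
    ([0, 0, 0, 0, 0, 1, 1, 1, 1, 1, 2, 2, 2, 2, 2], [0, 0, 0, 0, 1, 1, 1, 1, 1, 2, 2, 2, 2, 2, 2, 0, 0, 0, 0, 0, 1, 1, 1, 1, 1, 2, 2, 2, 2, 2, 2, 0, 0, 0, 0, 0, 1, 1, 1, 1, 1, 2, 2, 2, 2, 2, 2, 0, 0, 0, 0, 0, 1, 1, 1, 1, 1, 2, 2, 2, 2, 2, 2, 0, 0, 0, 0, 0, 1, 1, 1, 1, 1, 2, 2, 2, 2, 2, 2, 0, 0, 0, 0, 0, 1, 1, 1, 1, 1, 2, 2, 2, 2, 2, 2, 3], 3, false),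
    ([0, 0, 0, 0, 0, 1, 1, 1, 1, 1, 2, 2, 2, 2, 2, 0, 2, 0, 0, 0, 0, 1, 1, 1, 1, 1, 2, 2, 2, 2, 2, 2, 0, 0, 0, 0, 0, 1, 1, 1, 1, 1, 2, 2, 2, 2, 2, 2, 0, 0, 0, 0, 0, 1, 1, 1, 1, 1, 2, 2, 2, 2, 2, 2, 0, 0, 0, 0, 0, 1, 1, 1, 1, 1, 2, 2, 2, 2, 2, 2, 0, 0, 0, 0, 0, 1, 1, 1, 1, 1, 2, 2, 2, 2, 2], [0, 0, 0, 0, 1, 1, 1, 1, 1, 2, 2, 2, 2, 2, 2, 3], 3, false),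
    ([0, 0, 0, 0, 0, 1, 1, 1, 1, 1, 2, 2, 2, 2, 2, 0, 2, 0, 0, 0, 0, 1, 1, 1, 1, 1, 2, 2, 2, 2, 2, 2, 0, 0, 0, 0, 0, 1, 1, 1, 1, 1, 2, 2, 2, 2, 2, 2, 0, 0, 0, 0, 0, 1, 1, 1, 1, 1, 2, 2, 2, 2, 2, 2, 0, 0, 0, 0, 0, 1, 1, 1, 1, 1, 2, 2, 2, 2, 2, 2, 0, 0, 0, 0, 0, 1, 1, 1, 1, 1, 2, 2, 2, 2, 2, 0], [0, 0, 0, 1, 1, 1, 1, 1, 2, 2, 2, 2, 2, 2, 3], 3, false),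
    ([0, 0, 0, 0, 0, 1, 1, 1, 1, 1, 2, 2, 2, 2, 2, 0, 2, 0, 0, 0, 0, 1, 1, 1, 1, 1, 2, 2, 2, 2, 2, 2, 0, 0, 0, 0, 0, 1, 1, 1, 1, 1, 2, 2, 2, 2, 2, 2, 0, 0, 0, 0, 0, 1, 1, 1, 1, 1, 2, 2, 2, 2, 2, 2, 0, 0, 0, 0, 0, 1, 1, 1, 1, 1, 2, 2, 2, 2, 2, 2, 0, 0, 0, 0, 0, 1, 1, 1, 1, 1, 2, 2, 2, 2, 2, 0, 0], [0, 0, 1, 1, 1, 1, 1, 2, 2, 2, 2, 2, 2, 3], 3, false),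
    ([0, 0, 0, 0, 0, 1, 1, 1, 1, 1, 2, 2, 2, 2, 2, 0, 2, 0, 0, 0, 0, 1, 1, 1, 1, 1, 2, 2, 2, 2, 2, 2, 0, 0, 0, 0, 0, 1, 1, 1, 1, 1, 2, 2, 2, 2, 2, 2, 0, 0, 0, 0, 0, 1, 1, 1, 1, 1, 2, 2, 2, 2, 2, 2, 0, 0, 0, 0, 0, 1, 1, 1, 1, 1, 2, 2, 2, 2, 2, 2, 0, 0, 0, 0, 0, 1, 1, 1, 1, 1, 2, 2, 2, 2, 2, 0, 0, 0], [0, 1, 1, 1, 1, 1, 2, 2, 2, 2, 2, 2, 3], 3, false),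
    ([0, 0, 0, 0, 0, 1, 1, 1, 1, 1, 2, 2, 2, 2, 2, 0, 2, 0, 0, 0, 0, 1, 1, 1, 1, 1, 2, 2, 2, 2, 2, 2, 0, 0, 0, 0, 0, 1, 1, 1, 1, 1, 2, 2, 2, 2, 2, 2, 0, 0, 0, 0, 0, 1, 1, 1, 1, 1, 2, 2, 2, 2, 2, 2, 0, 0, 0, 0, 0, 1, 1, 1, 1, 1, 2, 2, 2, 2, 2, 2, 0, 0, 0, 0, 0, 1, 1, 1, 1, 1, 2, 2, 2, 2, 2, 0, 0, 0, 0], [1, 1, 1, 1, 1, 2, 2, 2, 2, 2, 2, 3], 3, false),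
    ([0, 0, 0, 0, 0, 1, 1, 1, 1, 1, 2, 2, 2, 2, 2, 0, 2, 0, 0, 0, 0, 1, 1, 1, 1, 1, 2, 2, 2, 2, 2, 2, 0, 0, 0, 0, 0, 1, 1, 1, 1, 1, 2, 2, 2, 2, 2, 2, 0, 0, 0, 0, 0, 1, 1, 1, 1, 1, 2, 2, 2, 2, 2, 2, 0, 0, 0, 0, 0, 1, 1, 1, 1, 1, 2, 2, 2, 2, 2, 2, 0, 0, 0, 0, 0, 1, 1, 1, 1, 1, 2, 2, 2, 2, 2, 0, 0, 0, 0, 0], [1, 1, 1, 1, 2, 2, 2, 2, 2, 2, 3], 4, false),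
    ([0, 0, 0, 0, 0, 1, 1, 1, 1, 1, 2, 2, 2, 2, 2, 0, 2, 0, 0, 0, 0, 1, 1, 1, 1, 1, 2, 2, 2, 2, 2, 2, 0, 0, 0, 0, 0, 1, 1, 1, 1, 1, 2, 2, 2, 2, 2, 2, 0, 0, 0, 0, 0, 1, 1, 1, 1, 1, 2, 2, 2, 2, 2, 2, 0, 0, 0, 0, 0, 1, 1, 1, 1, 1, 2, 2, 2, 2, 2, 2, 0, 0, 0, 0, 0, 1, 1, 1, 1, 1, 2, 2, 2, 2, 2, 0, 0, 0, 0, 0, 0, 0, 0, 0, 1], [1, 1, 1, 2, 2, 2, 2, 2, 2, 3], 4, false),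
    ([0, 0, 0, 0, 0, 1, 1, 1, 1, 1, 2, 2, 2, 2, 2, 0, 2, 0, 0, 0, 0, 1, 1, 1, 1, 1, 2, 2, 2, 2, 2, 2, 0, 0, 0, 0, 0, 1, 1, 1, 1, 1, 2, 2, 2, 2, 2, 2, 0, 0, 0, 0, 0, 1, 1, 1, 1, 1, 2, 2, 2, 2, 2, 2, 0, 0, 0, 0, 0, 1, 1, 1, 1, 1, 2, 2, 2, 2, 2, 2, 0, 0, 0, 0, 0, 1, 1, 1, 1, 1, 2, 2, 2, 2, 2, 0, 0, 0, 0, 0, 0, 0, 0, 0, 1, 0, 0, 0, 0, 1], [1, 1, 2, 2, 2, 2, 2, 2, 3], 4, false),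
    ([0, 0, 0, 0, 0, 1, 1, 1, 1, 1, 2, 2, 2, 2, 2, 0, 2, 0, 0, 0, 0, 1, 1, 1, 1, 1, 2, 2, 2, 2, 2, 2, 0, 0, 0, 0, 0, 1, 1, 1, 1, 1, 2, 2, 2, 2, 2, 2, 0, 0, 0, 0, 0, 1, 1, 1, 1, 1, 2, 2, 2, 2, 2, 2, 0, 0, 0, 0, 0, 1, 1, 1, 1, 1, 2, 2, 2, 2, 2, 2, 0, 0, 0, 0, 0, 1, 1, 1, 1, 1, 2, 2, 2, 2, 2, 0, 0, 0, 0, 0, 0, 0, 0, 0, 1, 0, 0, 0, 0, 1, 0, 0, 0, 0, 1], [1, 2, 2, 2, 2, 2, 2, 3], 4, false),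
    ([0, 0, 0, 0, 0, 1, 1, 1, 1, 1, 2, 2, 2, 2, 2, 0, 2, 0, 0, 0, 0, 1, 1, 1, 1, 1, 2, 2, 2, 2, 2, 2, 0, 0, 0, 0, 0, 1, 1, 1, 1, 1, 2, 2, 2, 2, 2, 2, 0, 0, 0, 0, 0, 1, 1, 1, 1, 1, 2, 2, 2, 2, 2, 2, 0, 0, 0, 0, 0, 1, 1, 1, 1, 1, 2, 2, 2, 2, 2, 2, 0, 0, 0, 0, 0, 1, 1, 1, 1, 1, 2, 2, 2, 2, 2, 0, 0, 0, 0, 0, 0, 0, 0, 0, 1, 0, 0, 0, 0, 1, 0, 0, 0, 0, 1, 0, 0, 0, 0, 1], [2, 2, 2, 2, 2, 2, 3], 4, false),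
    ([0, 0, 0, 0, 0, 1, 1, 1, 1, 1, 2, 2, 2, 2, 2, 0, 2, 0, 0, 0, 0, 1, 1, 1, 1, 1, 2, 2, 2, 2, 2, 2, 0, 0, 0, 0, 0, 1, 1, 1, 1, 1, 2, 2, 2, 2, 2, 2, 0, 0, 0, 0, 0, 1, 1, 1, 1, 1, 2, 2, 2, 2, 2, 2, 0, 0, 0, 0, 0, 1, 1, 1, 1, 1, 2, 2, 2, 2, 2, 2, 0, 0, 0, 0, 0, 1, 1, 1, 1, 1, 2, 2, 2, 2, 2, 0, 0, 0, 0, 0, 0, 0, 0, 0, 1, 0, 0, 0, 0, 1, 0, 0, 0, 0, 1, 0, 0, 0, 0, 1, 0, 0, 0, 0, 1], [3], 5, false),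
    ([0, 0, 0, 0, 0, 1, 1, 1, 1, 1, 2, 2, 2, 2, 2, 0, 2, 0, 0, 0, 0, 1, 1, 1, 1, 1, 2, 2, 2, 2, 2, 2, 0, 0, 0, 0, 0, 1, 1, 1, 1, 1, 2, 2, 2, 2, 2, 2, 0, 0, 0, 0, 0, 1, 1, 1, 1, 1, 2, 2, 2, 2, 2, 2, 0, 0, 0, 0, 0, 1, 1, 1, 1, 1, 2, 2, 2, 2, 2, 2, 0, 0, 0, 0, 0, 1, 1, 1, 1, 1, 2, 2, 2, 2, 2, 0, 0, 0, 0, 0, 0, 0, 0, 0, 1, 0, 0, 0, 0, 1, 0, 0, 0, 0, 1, 0, 0, 0, 0], [0, 0, 0, 1, 3], 1, false),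
    ([0, 0, 0, 0, 0, 1, 1, 1, 1, 1, 2, 2, 2, 2, 2, 0, 2, 0, 0, 0, 0, 1, 1, 1, 1, 1, 2, 2, 2, 2, 2, 2, 0, 0, 0, 0, 0, 1, 1, 1, 1, 1, 2, 2, 2, 2, 2, 2, 0, 0, 0, 0, 0, 1, 1, 1, 1, 1, 2, 2, 2, 2, 2, 2, 0, 0, 0, 0, 0, 1, 1, 1, 1, 1, 2, 2, 2, 2, 2, 2, 0, 0, 0, 0, 0, 1, 1, 1, 1, 1, 2, 2, 2, 2, 2, 0, 0, 0, 0, 0, 0, 0, 0, 0, 1, 0, 0, 0, 0, 1, 0, 0, 0, 0, 1, 0, 0, 0, 0, 0], [0, 0, 1, 3], 1, false),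
    ([0, 0, 0, 0, 0, 1, 1, 1, 1, 1, 2, 2, 2, 2, 2, 0, 2, 0, 0, 0, 0, 1, 1, 1, 1, 1, 2, 2, 2, 2, 2, 2, 0, 0, 0, 0, 0, 1, 1, 1, 1, 1, 2, 2, 2, 2, 2, 2, 0, 0, 0, 0, 0, 1, 1, 1, 1, 1, 2, 2, 2, 2, 2, 2, 0, 0, 0, 0, 0, 1, 1, 1, 1, 1, 2, 2, 2, 2, 2, 2, 0, 0, 0, 0, 0, 1, 1, 1, 1, 1, 2, 2, 2, 2, 2, 0, 0, 0, 0, 0, 0, 0, 0, 0, 1, 0, 0, 0, 0, 1, 0, 0, 0, 0, 1, 0, 0, 0, 0, 0, 0], [0, 1, 3], 1, false),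
    ([0, 0, 0, 0, 0, 1, 1, 1, 1, 1, 2, 2, 2, 2, 2, 0, 2, 0, 0, 0, 0, 1, 1, 1, 1, 1, 2, 2, 2, 2, 2, 2, 0, 0, 0, 0, 0, 1, 1, 1, 1, 1, 2, 2, 2, 2, 2, 2, 0, 0, 0, 0, 0, 1, 1, 1, 1, 1, 2, 2, 2, 2, 2, 2, 0, 0, 0, 0, 0, 1, 1, 1, 1, 1, 2, 2, 2, 2, 2, 2, 0, 0, 0, 0, 0, 1, 1, 1, 1, 1, 2, 2, 2, 2, 2, 0, 0, 0, 0, 0, 0, 0, 0, 0, 1, 0, 0, 0, 0, 1, 0, 0, 0, 0, 1, 0, 0, 0, 0, 0, 0, 0], [1, 3], 1, false),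
    ([0, 0, 0, 0, 0, 1, 1, 1, 1, 1, 2, 2, 2, 2, 2, 0, 2, 0, 0, 0, 0, 1, 1, 1, 1, 1, 2, 2, 2, 2, 2, 2, 0, 0, 0, 0, 0, 1, 1, 1, 1, 1, 2, 2, 2, 2, 2, 2, 0, 0, 0, 0, 0, 1, 1, 1, 1, 1, 2, 2, 2, 2, 2, 2, 0, 0, 0, 0, 0, 1, 1, 1, 1, 1, 2, 2, 2, 2, 2, 2, 0, 0, 0, 0, 0, 1, 1, 1, 1, 1, 2, 2, 2, 2, 2, 0, 0, 0, 0, 0, 0, 0, 0, 0, 1, 0, 0, 0, 0, 1, 0, 0, 0, 0, 1, 0], [1, 1, 3], 0, false),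
    ([0, 0, 0, 0, 0, 1, 1, 1, 1, 1, 2, 2, 2, 2, 2, 0, 2, 0, 0, 0, 0, 1, 1, 1, 1, 1, 2, 2, 2, 2, 2, 2, 0, 0, 0, 0, 0, 1, 1, 1, 1, 1, 2, 2, 2, 2, 2, 2, 0, 0, 0, 0, 0, 1, 1, 1, 1, 1, 2, 2, 2, 2, 2, 2, 0, 0, 0, 0, 0, 1, 1, 1, 1, 1, 2, 2, 2, 2, 2, 2, 0, 0, 0, 0, 0, 1, 1, 1, 1, 1, 2, 2, 2, 2, 2, 0, 0, 0, 0, 0, 0, 0, 0, 0, 1, 0, 0, 0, 0, 1, 0, 0, 0, 0], [1, 1, 3], 1, false),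
    ([0, 0, 0, 0, 0, 1, 1, 1, 1, 1, 2, 2, 2, 2, 2, 0, 2, 0, 0, 0, 0, 1, 1, 1, 1, 1, 2, 2, 2, 2, 2, 2, 0, 0, 0, 0, 0, 1, 1, 1, 1, 1, 2, 2, 2, 2, 2, 2, 0, 0, 0, 0, 0, 1, 1, 1, 1, 1, 2, 2, 2, 2, 2, 2, 0, 0, 0, 0, 0, 1, 1, 1, 1, 1, 2, 2, 2, 2, 2, 2, 0, 0, 0, 0, 0, 1, 1, 1, 1, 1, 2, 2, 2, 2, 2, 0, 0, 0, 0, 0, 0, 0, 0, 0, 1, 0, 0, 0, 0], [0, 0, 0, 0, 1, 1, 1, 3], 1, false),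
    ([0, 0, 0, 0, 0, 1, 1, 1, 1, 1, 2, 2, 2, 2, 2, 0, 2, 0, 0, 0, 0, 1, 1, 1, 1, 1, 2, 2, 2, 2, 2, 2, 0, 0, 0, 0, 0, 1, 1, 1, 1, 1, 2, 2, 2, 2, 2, 2, 0, 0, 0, 0, 0, 1, 1, 1, 1, 1, 2, 2, 2, 2, 2, 2, 0, 0, 0, 0, 0, 1, 1, 1, 1, 1, 2, 2, 2, 2, 2, 2, 0, 0, 0, 0, 0, 1, 1, 1, 1, 1, 2, 2, 2, 2, 2, 0, 0, 0, 0, 0, 0, 0, 0, 0, 1, 0, 0, 0, 0, 0], [0, 0, 0, 1, 1, 1, 3], 1, false),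
    ([0, 0, 0, 0, 0, 1, 1, 1, 1, 1, 2, 2, 2, 2, 2, 0, 2, 0, 0, 0, 0, 1, 1, 1, 1, 1, 2, 2, 2, 2, 2, 2, 0, 0, 0, 0, 0, 1, 1, 1, 1, 1, 2, 2, 2, 2, 2, 2, 0, 0, 0, 0, 0, 1, 1, 1, 1, 1, 2, 2, 2, 2, 2, 2, 0, 0, 0, 0, 0, 1, 1, 1, 1, 1, 2, 2, 2, 2, 2, 2, 0, 0, 0, 0, 0, 1, 1, 1, 1, 1, 2, 2, 2, 2, 2, 0, 0, 0, 0, 0, 0, 0, 0, 0, 1, 0, 0, 0, 0, 0, 0], [0, 0, 1, 1, 1, 3], 1, false),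
    ([0, 0, 0, 0, 0, 1, 1, 1, 1, 1, 2, 2, 2, 2, 2, 0, 2, 0, 0, 0, 0, 1, 1, 1, 1, 1, 2, 2, 2, 2, 2, 2, 0, 0, 0, 0, 0, 1, 1, 1, 1, 1, 2, 2, 2, 2, 2, 2, 0, 0, 0, 0, 0, 1, 1, 1, 1, 1, 2, 2, 2, 2, 2, 2, 0, 0, 0, 0, 0, 1, 1, 1, 1, 1, 2, 2, 2, 2, 2, 2, 0, 0, 0, 0, 0, 1, 1, 1, 1, 1, 2, 2, 2, 2, 2, 0, 0, 0, 0, 0, 0, 0, 0, 0, 1, 0, 0, 0, 0, 0, 0, 0], [0, 1, 1, 1, 3], 1, false),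
    ([0, 0, 0, 0, 0, 1, 1, 1, 1, 1, 2, 2, 2, 2, 2, 0, 2, 0, 0, 0, 0, 1, 1, 1, 1, 1, 2, 2, 2, 2, 2, 2, 0, 0, 0, 0, 0, 1, 1, 1, 1, 1, 2, 2, 2, 2, 2, 2, 0, 0, 0, 0, 0, 1, 1, 1, 1, 1, 2, 2, 2, 2, 2, 2, 0, 0, 0, 0, 0, 1, 1, 1, 1, 1, 2, 2, 2, 2, 2, 2, 0, 0, 0, 0, 0, 1, 1, 1, 1, 1, 2, 2, 2, 2, 2, 0, 0, 0, 0, 0, 0, 0, 0, 0, 1, 0, 0, 0, 0, 0, 0, 0, 0], [1, 1, 1, 3], 1, false),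
    ([0, 0, 0, 0, 0, 1, 1, 1, 1, 1, 2, 2, 2, 2, 2, 0, 2, 0, 0, 0, 0, 1, 1, 1, 1, 1, 2, 2, 2, 2, 2, 2, 0, 0, 0, 0, 0, 1, 1, 1, 1, 1, 2, 2, 2, 2, 2, 2, 0, 0, 0, 0, 0, 1, 1, 1, 1, 1, 2, 2, 2, 2, 2, 2, 0, 0, 0, 0, 0, 1, 1, 1, 1, 1, 2, 2, 2, 2, 2, 2, 0, 0, 0, 0, 0, 1, 1, 1, 1, 1, 2, 2, 2, 2, 2, 0, 0, 0, 0, 0, 0, 0, 0, 0, 1, 0, 0], [1, 1, 1, 1, 3], 0, false),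
    ([0, 0, 0, 0, 0, 1, 1, 1, 1, 1, 2, 2, 2, 2, 2, 0, 2, 0, 0, 0, 0, 1, 1, 1, 1, 1, 2, 2, 2, 2, 2, 2, 0, 0, 0, 0, 0, 1, 1, 1, 1, 1, 2, 2, 2, 2, 2, 2, 0, 0, 0, 0, 0, 1, 1, 1, 1, 1, 2, 2, 2, 2, 2, 2, 0, 0, 0, 0, 0, 1, 1, 1, 1, 1, 2, 2, 2, 2, 2, 2, 0, 0, 0, 0, 0, 1, 1, 1, 1, 1, 2, 2, 2, 2, 2, 0, 0, 0, 0, 0, 0, 0, 0, 0], [0, 1, 1, 1, 1, 3], 1, false),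
    ([0, 0, 0, 0, 0, 1, 1, 1, 1, 1, 2, 2, 2, 2, 2, 0, 2, 0, 0, 0, 0, 1, 1, 1, 1, 1, 2, 2, 2, 2, 2, 2, 0, 0, 0, 0, 0, 1, 1, 1, 1, 1, 2, 2, 2, 2, 2, 2, 0, 0, 0, 0, 0, 1, 1, 1, 1, 1, 2, 2, 2, 2, 2, 2, 0, 0, 0, 0, 0, 1, 1, 1, 1, 1, 2, 2, 2, 2, 2, 2, 0, 0, 0, 0, 0, 1, 1, 1, 1, 1, 2, 2, 2, 2, 2, 0, 0, 0, 0, 0, 0, 0, 0, 0, 0], [1, 1, 1, 1, 3], 1, false),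
    ([0, 0, 0, 0, 0, 1, 1, 1, 1, 1, 2, 2, 2, 2, 2, 0, 2, 0, 0, 0, 0, 1, 1, 1, 1, 1, 2, 2, 2, 2, 2, 2, 0, 0, 0, 0, 0, 1, 1, 1, 1, 1, 2, 2, 2, 2, 2, 2, 0, 0, 0, 0, 0, 1, 1, 1, 1, 1, 2, 2, 2, 2, 2, 2, 0, 0, 0, 0, 0, 1, 1, 1, 1, 1, 2, 2, 2, 2, 2, 2, 0, 0, 0, 0, 0, 1, 1, 1, 1, 1, 2, 2, 2, 2, 2, 0, 0, 0, 0], [1, 1, 1, 1, 1, 3], 0, false),
    ([0, 0, 0, 0, 0, 1, 1, 1, 1, 1, 2, 2, 2, 2, 2, 0, 2, 0, 0, 0, 0, 1, 1, 1, 1, 1, 2, 2, 2, 2, 2, 2, 0, 0, 0, 0, 0, 1, 1, 1, 1, 1, 2, 2, 2, 2, 2, 2, 0, 0, 0, 0, 0, 1, 1, 1, 1, 1, 2, 2, 2, 2, 2, 2, 0, 0, 0, 0, 0, 1, 1, 1, 1, 1, 2, 2, 2, 2, 2, 2, 0, 0, 0, 0, 0, 1, 1, 1, 1, 1, 2, 2, 2, 2], [0, 0, 0, 1, 1, 1, 1, 1, 3], 3, false),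
    ([0, 0, 0, 0, 0, 1, 1, 1, 1, 1, 2, 2, 2, 2, 2, 0, 2, 0, 0, 0, 0, 1, 1, 1, 1, 1, 2, 2, 2, 2, 2, 2, 0, 0, 0, 0, 0, 1, 1, 1, 1, 1, 2, 2, 2, 2, 2, 2, 0, 0, 0, 0, 0, 1, 1, 1, 1, 1, 2, 2, 2, 2, 2, 2, 0, 0, 0, 0, 0, 1, 1, 1, 1, 1, 2, 2, 2, 2, 2, 2, 0, 0, 0, 0, 0, 1, 1, 1, 1, 1, 2, 2, 2, 2, 0], [0, 0, 1, 1, 1, 1, 1, 3], 3, false),
    ([0, 0, 0, 0, 0, 1, 1, 1, 1, 1, 2, 2, 2, 2, 2, 0, 2, 0, 0, 0, 0, 1, 1, 1, 1, 1, 2, 2, 2, 2, 2, 2, 0, 0, 0, 0, 0, 1, 1, 1, 1, 1, 2, 2, 2, 2, 2, 2, 0, 0, 0, 0, 0, 1, 1, 1, 1, 1, 2, 2, 2, 2, 2, 2, 0, 0, 0, 0, 0, 1, 1, 1, 1, 1, 2, 2, 2, 2, 2, 2, 0, 0, 0, 0, 0, 1, 1, 1, 1, 1, 2, 2, 2, 2, 0, 0], [0, 1, 1, 1, 1, 1, 3], 3, false),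
    ([0, 0, 0, 0, 0, 1, 1, 1, 1, 1, 2, 2, 2, 2, 2, 0, 2, 0, 0, 0, 0, 1, 1, 1, 1, 1, 2, 2, 2, 2, 2, 2, 0, 0, 0, 0, 0, 1, 1, 1, 1, 1, 2, 2, 2, 2, 2, 2, 0, 0, 0, 0, 0, 1, 1, 1, 1, 1, 2, 2, 2, 2, 2, 2, 0, 0, 0, 0, 0, 1, 1, 1, 1, 1, 2, 2, 2, 2, 2, 2, 0, 0, 0, 0, 0, 1, 1, 1, 1, 1, 2, 2, 2, 2, 0, 0, 0], [1, 1, 1, 1, 1, 3], 3, false),
    ([0, 0, 0, 0, 0, 1, 1, 1, 1, 1, 2, 2, 2, 2, 2, 0, 2, 0, 0, 0, 0, 1, 1, 1, 1, 1, 2, 2, 2, 2, 2, 2, 0, 0, 0, 0, 0, 1, 1, 1, 1, 1, 2, 2, 2, 2, 2, 2, 0, 0, 0, 0, 0, 1, 1, 1, 1, 1, 2, 2, 2, 2, 2, 2, 0, 0, 0, 0, 0, 1, 1, 1, 1, 1, 2, 2, 2, 2, 2, 2, 0, 0, 0, 0, 0, 1, 1, 1, 1, 1, 2, 2, 2, 2, 0, 0, 0, 0], [1, 1, 1, 1, 3], 4, false),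
    ([0, 0, 0, 0, 0, 1, 1, 1, 1, 1, 2, 2, 2, 2, 2, 0, 2, 0, 0, 0, 0, 1, 1, 1, 1, 1, 2, 2, 2, 2, 2, 2, 0, 0, 0, 0, 0, 1, 1, 1, 1, 1, 2, 2, 2, 2, 2, 2, 0, 0, 0, 0, 0, 1, 1, 1, 1, 1, 2, 2, 2, 2, 2, 2, 0, 0, 0, 0, 0, 1, 1, 1, 1, 1, 2, 2, 2, 2, 2, 2, 0, 0, 0, 0, 0, 1, 1, 1, 1, 1, 2, 2, 2, 2, 0, 0, 0, 0, 0, 0, 0, 0, 1], [1, 1, 1, 3], 4, false),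
    ([0, 0, 0, 0, 0, 1, 1, 1, 1, 1, 2, 2, 2, 2, 2, 0, 2, 0, 0, 0, 0, 1, 1, 1, 1, 1, 2, 2, 2, 2, 2, 2, 0, 0, 0, 0, 0, 1, 1, 1, 1, 1, 2, 2, 2, 2, 2, 2, 0, 0, 0, 0, 0, 1, 1, 1, 1, 1, 2, 2, 2, 2, 2, 2, 0, 0, 0, 0, 0, 1, 1, 1, 1, 1, 2, 2, 2, 2, 2, 2, 0, 0, 0, 0, 0, 1, 1, 1, 1, 1, 2, 2, 2, 2, 0, 0, 0, 0, 0, 0, 0, 0, 1, 0, 0, 0, 0, 1], [1, 1, 3], 4, false),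
    ([0, 0, 0, 0, 0, 1, 1, 1, 1, 1, 2, 2, 2, 2, 2, 0, 2, 0, 0, 0, 0, 1, 1, 1, 1, 1, 2, 2, 2, 2, 2, 2, 0, 0, 0, 0, 0, 1, 1, 1, 1, 1, 2, 2, 2, 2, 2, 2, 0, 0, 0, 0, 0, 1, 1, 1, 1, 1, 2, 2, 2, 2, 2, 2, 0, 0, 0, 0, 0, 1, 1, 1, 1, 1, 2, 2, 2, 2, 2, 2, 0, 0, 0, 0, 0, 1, 1, 1, 1, 1, 2, 2, 2, 2, 0, 0, 0, 0, 0, 0, 0, 0, 1, 0, 0, 0, 0, 1, 0, 0, 0, 0, 1], [1, 3], 4, false),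
    ([0, 0, 0, 0, 0, 1, 1, 1, 1, 1, 2, 2, 2, 2, 2, 0, 2, 0, 0, 0, 0, 1, 1, 1, 1, 1, 2, 2, 2, 2, 2, 2, 0, 0, 0, 0, 0, 1, 1, 1, 1, 1, 2, 2, 2, 2, 2, 2, 0, 0, 0, 0, 0, 1, 1, 1, 1, 1, 2, 2, 2, 2, 2, 2, 0, 0, 0, 0, 0, 1, 1, 1, 1, 1, 2, 2, 2, 2, 2, 2, 0, 0, 0, 0, 0, 1, 1, 1, 1, 1, 2, 2, 2, 2, 0, 0, 0, 0, 0, 0, 0, 0, 1, 0, 0, 0, 0, 1, 0, 0, 0, 0, 1, 0, 0, 0, 0, 1], [3], 4, false),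
    ([0, 0, 0, 0, 0, 1, 1, 1, 1, 1, 2, 2, 2, 2, 2, 0, 2, 0, 0, 0, 0, 1, 1, 1, 1, 1, 2, 2, 2, 2, 2, 2, 0, 0, 0, 0, 0, 1, 1, 1, 1, 1, 2, 2, 2, 2, 2, 2, 0, 0, 0, 0, 0, 1, 1, 1, 1, 1, 2, 2, 2, 2, 2, 2, 0, 0, 0, 0, 0, 1, 1, 1, 1, 1, 2, 2, 2, 2, 2, 2, 0, 0, 0, 0, 0, 1, 1, 1, 1, 1, 2, 2, 2, 2, 0, 0, 0, 0, 0, 0, 0, 0, 1, 0, 0, 0, 0, 1, 0, 0, 0, 0, 1, 0, 0, 0, 0], [0, 0, 0, 1, 2, 3], 1, false),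
    ([0, 0, 0, 0, 0, 1, 1, 1, 1, 1, 2, 2, 2, 2, 2, 0, 2, 0, 0, 0, 0, 1, 1, 1, 1, 1, 2, 2, 2, 2, 2, 2, 0, 0, 0, 0, 0, 1, 1, 1, 1, 1, 2, 2, 2, 2, 2, 2, 0, 0, 0, 0, 0, 1, 1, 1, 1, 1, 2, 2, 2, 2, 2, 2, 0, 0, 0, 0, 0, 1, 1, 1, 1, 1, 2, 2, 2, 2, 2, 2, 0, 0, 0, 0, 0, 1, 1, 1, 1, 1, 2, 2, 2, 2, 0, 0, 0, 0, 0, 0, 0, 0, 1, 0, 0, 0, 0, 1, 0, 0, 0, 0, 1, 0, 0, 0, 0, 0], [0, 0, 1, 2, 3], 1, false),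
    ([0, 0, 0, 0, 0, 1, 1, 1, 1, 1, 2, 2, 2, 2, 2, 0, 2, 0, 0, 0, 0, 1, 1, 1, 1, 1, 2, 2, 2, 2, 2, 2, 0, 0, 0, 0, 0, 1, 1, 1, 1, 1, 2, 2, 2, 2, 2, 2, 0, 0, 0, 0, 0, 1, 1, 1, 1, 1, 2, 2, 2, 2, 2, 2, 0, 0, 0, 0, 0, 1, 1, 1, 1, 1, 2, 2, 2, 2, 2, 2, 0, 0, 0, 0, 0, 1, 1, 1, 1, 1, 2, 2, 2, 2, 0, 0, 0, 0, 0, 0, 0, 0, 1, 0, 0, 0, 0, 1, 0, 0, 0, 0, 1, 0, 0, 0, 0, 0, 0], [0, 1, 2, 3], 1, false),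
    ([0, 0, 0, 0, 0, 1, 1, 1, 1, 1, 2, 2, 2, 2, 2, 0, 2, 0, 0, 0, 0, 1, 1, 1, 1, 1, 2, 2, 2, 2, 2, 2, 0, 0, 0, 0, 0, 1, 1, 1, 1, 1, 2, 2, 2, 2, 2, 2, 0, 0, 0, 0, 0, 1, 1, 1, 1, 1, 2, 2, 2, 2, 2, 2, 0, 0, 0, 0, 0, 1, 1, 1, 1, 1, 2, 2, 2, 2, 2, 2, 0, 0, 0, 0, 0, 1, 1, 1, 1, 1, 2, 2, 2, 2, 0, 0, 0, 0, 0, 0, 0, 0, 1, 0, 0, 0, 0, 1, 0, 0, 0, 0, 1, 0, 0, 0, 0, 0, 0, 0], [1, 2, 3], 1, false),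
    ([0, 0, 0, 0, 0, 1, 1, 1, 1, 1, 2, 2, 2, 2, 2, 0, 2, 0, 0, 0, 0, 1, 1, 1, 1, 1, 2, 2, 2, 2, 2, 2, 0, 0, 0, 0, 0, 1, 1, 1, 1, 1, 2, 2, 2, 2, 2, 2, 0, 0, 0, 0, 0, 1, 1, 1, 1, 1, 2, 2, 2, 2, 2, 2, 0, 0, 0, 0, 0, 1, 1, 1, 1, 1, 2, 2, 2, 2, 2, 2, 0, 0, 0, 0, 0, 1, 1, 1, 1, 1, 2, 2, 2, 2, 0, 0, 0, 0, 0, 0, 0, 0, 1, 0, 0, 0, 0, 1, 0, 0, 0, 0, 1, 0], [1, 1, 2, 3], 0, false),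
    ([0, 0, 0, 0, 0, 1, 1, 1, 1, 1, 2, 2, 2, 2, 2, 0, 2, 0, 0, 0, 0, 1, 1, 1, 1, 1, 2, 2, 2, 2, 2, 2, 0, 0, 0, 0, 0, 1, 1, 1, 1, 1, 2, 2, 2, 2, 2, 2, 0, 0, 0, 0, 0, 1, 1, 1, 1, 1, 2, 2, 2, 2, 2, 2, 0, 0, 0, 0, 0, 1, 1, 1, 1, 1, 2, 2, 2, 2, 2, 2, 0, 0, 0, 0, 0, 1, 1, 1, 1, 1, 2, 2, 2, 2, 0, 0, 0, 0, 0, 0, 0, 0, 1, 0, 0, 0, 0, 1, 0, 0, 0, 0], [1, 1, 2, 3], 1, false),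
    ([0, 0, 0, 0, 0, 1, 1, 1, 1, 1, 2, 2, 2, 2, 2, 0, 2, 0, 0, 0, 0, 1, 1, 1, 1, 1, 2, 2, 2, 2, 2, 2, 0, 0, 0, 0, 0, 1, 1, 1, 1, 1, 2, 2, 2, 2, 2, 2, 0, 0, 0, 0, 0, 1, 1, 1, 1, 1, 2, 2, 2, 2, 2, 2, 0, 0, 0, 0, 0, 1, 1, 1, 1, 1, 2, 2, 2, 2, 2, 2, 0, 0, 0, 0, 0, 1, 1, 1, 1, 1, 2, 2, 2, 2, 0, 0, 0, 0, 0, 0, 0, 0, 1, 0, 0, 0, 0], [0, 0, 0, 0, 1, 1, 1, 2, 3], 1, false),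
    ([0, 0, 0, 0, 0, 1, 1, 1, 1, 1, 2, 2, 2, 2, 2, 0, 2, 0, 0, 0, 0, 1, 1, 1, 1, 1, 2, 2, 2, 2, 2, 2, 0, 0, 0, 0, 0, 1, 1, 1, 1, 1, 2, 2, 2, 2, 2, 2, 0, 0, 0, 0, 0, 1, 1, 1, 1, 1, 2, 2, 2, 2, 2, 2, 0, 0, 0, 0, 0, 1, 1, 1, 1, 1, 2, 2, 2, 2, 2, 2, 0, 0, 0, 0, 0, 1, 1, 1, 1, 1, 2, 2, 2, 2, 0, 0, 0, 0, 0, 0, 0, 0, 1, 0, 0, 0, 0, 0], [0, 0, 0, 1, 1, 1, 2, 3], 1, false),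
    ([0, 0, 0, 0, 0, 1, 1, 1, 1, 1, 2, 2, 2, 2, 2, 0, 2, 0, 0, 0, 0, 1, 1, 1, 1, 1, 2, 2, 2, 2, 2, 2, 0, 0, 0, 0, 0, 1, 1, 1, 1, 1, 2, 2, 2, 2, 2, 2, 0, 0, 0, 0, 0, 1, 1, 1, 1, 1, 2, 2, 2, 2, 2, 2, 0, 0, 0, 0, 0, 1, 1, 1, 1, 1, 2, 2, 2, 2, 2, 2, 0, 0, 0, 0, 0, 1, 1, 1, 1, 1, 2, 2, 2, 2, 0, 0, 0, 0, 0, 0, 0, 0, 1, 0, 0, 0, 0, 0, 0], [0, 0, 1, 1, 1, 2, 3], 1, false),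
    ([0, 0, 0, 0, 0, 1, 1, 1, 1, 1, 2, 2, 2, 2, 2, 0, 2, 0, 0, 0, 0, 1, 1, 1, 1, 1, 2, 2, 2, 2, 2, 2, 0, 0, 0, 0, 0, 1, 1, 1, 1, 1, 2, 2, 2, 2, 2, 2, 0, 0, 0, 0, 0, 1, 1, 1, 1, 1, 2, 2, 2, 2, 2, 2, 0, 0, 0, 0, 0, 1, 1, 1, 1, 1, 2, 2, 2, 2, 2, 2, 0, 0, 0, 0, 0, 1, 1, 1, 1, 1, 2, 2, 2, 2, 0, 0, 0, 0, 0, 0, 0, 0, 1, 0, 0, 0, 0, 0, 0, 0], [0, 1, 1, 1, 2, 3], 1, false),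
    ([0, 0, 0, 0, 0, 1, 1, 1, 1, 1, 2, 2, 2, 2, 2, 0, 2, 0, 0, 0, 0, 1, 1, 1, 1, 1, 2, 2, 2, 2, 2, 2, 0, 0, 0, 0, 0, 1, 1, 1, 1, 1, 2, 2, 2, 2, 2, 2, 0, 0, 0, 0, 0, 1, 1, 1, 1, 1, 2, 2, 2, 2, 2, 2, 0, 0, 0, 0, 0, 1, 1, 1, 1, 1, 2, 2, 2, 2, 2, 2, 0, 0, 0, 0, 0, 1, 1, 1, 1, 1, 2, 2, 2, 2, 0, 0, 0, 0, 0, 0, 0, 0, 1, 0, 0, 0, 0, 0, 0, 0, 0], [1, 1, 1, 2, 3], 1, false),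
    ([0, 0, 0, 0, 0, 1, 1, 1, 1, 1, 2, 2, 2, 2, 2, 0, 2, 0, 0, 0, 0, 1, 1, 1, 1, 1, 2, 2, 2, 2, 2, 2, 0, 0, 0, 0, 0, 1, 1, 1, 1, 1, 2, 2, 2, 2, 2, 2, 0, 0, 0, 0, 0, 1, 1, 1, 1, 1, 2, 2, 2, 2, 2, 2, 0, 0, 0, 0, 0, 1, 1, 1, 1, 1, 2, 2, 2, 2, 2, 2, 0, 0, 0, 0, 0, 1, 1, 1, 1, 1, 2, 2, 2, 2, 0, 0, 0, 0, 0, 0, 0, 0, 1, 0, 0], [1, 1, 1, 1, 2, 3], 0, false),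
    ([0, 0, 0, 0, 0, 1, 1, 1, 1, 1, 2, 2, 2, 2, 2, 0, 2, 0, 0, 0, 0, 1, 1, 1, 1, 1, 2, 2, 2, 2, 2, 2, 0, 0, 0, 0, 0, 1, 1, 1, 1, 1, 2, 2, 2, 2, 2, 2, 0, 0, 0, 0, 0, 1, 1, 1, 1, 1, 2, 2, 2, 2, 2, 2, 0, 0, 0, 0, 0, 1, 1, 1, 1, 1, 2, 2, 2, 2, 2, 2, 0, 0, 0, 0, 0, 1, 1, 1, 1, 1, 2, 2, 2, 2, 0, 0, 0, 0, 0, 0, 0, 0], [0, 1, 1, 1, 1, 2, 3], 1, false),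
    ([0, 0, 0, 0, 0, 1, 1, 1, 1, 1, 2, 2, 2, 2, 2, 0, 2, 0, 0, 0, 0, 1, 1, 1, 1, 1, 2, 2, 2, 2, 2, 2, 0, 0, 0, 0, 0, 1, 1, 1, 1, 1, 2, 2, 2, 2, 2, 2, 0, 0, 0, 0, 0, 1, 1, 1, 1, 1, 2, 2, 2, 2, 2, 2, 0, 0, 0, 0, 0, 1, 1, 1, 1, 1, 2, 2, 2, 2, 2, 2, 0, 0, 0, 0, 0, 1, 1, 1, 1, 1, 2, 2, 2, 2, 0, 0, 0, 0, 0, 0, 0, 0, 0], [1, 1, 1, 1, 2, 3], 1, false),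
    ([0, 0, 0, 0, 0, 1, 1, 1, 1, 1, 2, 2, 2, 2, 2, 0, 2, 0, 0, 0, 0, 1, 1, 1, 1, 1, 2, 2, 2, 2, 2, 2, 0, 0, 0, 0, 0, 1, 1, 1, 1, 1, 2, 2, 2, 2, 2, 2, 0, 0, 0, 0, 0, 1, 1, 1, 1, 1, 2, 2, 2, 2, 2, 2, 0, 0, 0, 0, 0, 1, 1, 1, 1, 1, 2, 2, 2, 2, 2, 2, 0, 0, 0, 0, 0, 1, 1, 1, 1, 1, 2, 2, 2, 2, 0, 0, 0], [1, 1, 1, 1, 1, 2, 3], 0, false),
    ([0, 0, 0, 0, 0, 1, 1, 1, 1, 1, 2, 2, 2, 2, 2, 0, 2, 0, 0, 0, 0, 1, 1, 1, 1, 1, 2, 2, 2, 2, 2, 2, 0, 0, 0, 0, 0, 1, 1, 1, 1, 1, 2, 2, 2, 2, 2, 2, 0, 0, 0, 0, 0, 1, 1, 1, 1, 1, 2, 2, 2, 2, 2, 2, 0, 0, 0, 0, 0, 1, 1, 1, 1, 1, 2, 2, 2, 2, 2, 2, 0, 0, 0, 0, 0, 1, 1, 1, 1, 1, 2, 2, 2], [0, 0, 1, 1, 1, 1, 1, 2, 3], 3, false),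
    ([0, 0, 0, 0, 0, 1, 1, 1, 1, 1, 2, 2, 2, 2, 2, 0, 2, 0, 0, 0, 0, 1, 1, 1, 1, 1, 2, 2, 2, 2, 2, 2, 0, 0, 0, 0, 0, 1, 1, 1, 1, 1, 2, 2, 2, 2, 2, 2, 0, 0, 0, 0, 0, 1, 1, 1, 1, 1, 2, 2, 2, 2, 2, 2, 0, 0, 0, 0, 0, 1, 1, 1, 1, 1, 2, 2, 2, 2, 2, 2, 0, 0, 0, 0, 0, 1, 1, 1, 1, 1, 2, 2, 2, 0], [0, 1, 1, 1, 1, 1, 2, 3], 3, false)]

/-- Part of a closed path for the prime 7. -/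
def path7_4_1 : List SchurPath.Step :=
  [([0, 0, 0, 0, 0, 1, 1, 1, 1, 1, 2, 2, 2, 2, 2, 0, 2, 0, 0, 0, 0, 1, 1, 1, 1, 1, 2, 2, 2, 2, 2, 2, 0, 0, 0, 0, 0, 1, 1, 1, 1, 1, 2, 2, 2, 2, 2, 2, 0, 0, 0, 0, 0, 1, 1, 1, 1, 1, 2, 2, 2, 2, 2, 2, 0, 0, 0, 0, 0, 1, 1, 1, 1, 1, 2, 2, 2, 2, 2, 2, 0, 0, 0, 0, 0, 1, 1, 1, 1, 1, 2, 2, 2, 0, 0], [1, 1, 1, 1, 1, 2, 3], 3, false),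
    ([0, 0, 0, 0, 0, 1, 1, 1, 1, 1, 2, 2, 2, 2, 2, 0, 2, 0, 0, 0, 0, 1, 1, 1, 1, 1, 2, 2, 2, 2, 2, 2, 0, 0, 0, 0, 0, 1, 1, 1, 1, 1, 2, 2, 2, 2, 2, 2, 0, 0, 0, 0, 0, 1, 1, 1, 1, 1, 2, 2, 2, 2, 2, 2, 0, 0, 0, 0, 0, 1, 1, 1, 1, 1, 2, 2, 2, 2, 2, 2, 0, 0, 0, 0, 0, 1, 1, 1, 1, 1, 2, 2, 2, 0, 0, 0], [1, 1, 1, 1, 2, 3], 4, false),
    ([0, 0, 0, 0, 0, 1, 1, 1, 1, 1, 2, 2, 2, 2, 2, 0, 2, 0, 0, 0, 0, 1, 1, 1, 1, 1, 2, 2, 2, 2, 2, 2, 0, 0, 0, 0, 0, 1, 1, 1, 1, 1, 2, 2, 2, 2, 2, 2, 0, 0, 0, 0, 0, 1, 1, 1, 1, 1, 2, 2, 2, 2, 2, 2, 0, 0, 0, 0, 0, 1, 1, 1, 1, 1, 2, 2, 2, 2, 2, 2, 0, 0, 0, 0, 0, 1, 1, 1, 1, 1, 2, 2, 2, 0, 0, 0, 0, 0, 0, 0, 1], [1, 1, 1, 2, 3], 4, false),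
    ([0, 0, 0, 0, 0, 1, 1, 1, 1, 1, 2, 2, 2, 2, 2, 0, 2, 0, 0, 0, 0, 1, 1, 1, 1, 1, 2, 2, 2, 2, 2, 2, 0, 0, 0, 0, 0, 1, 1, 1, 1, 1, 2, 2, 2, 2, 2, 2, 0, 0, 0, 0, 0, 1, 1, 1, 1, 1, 2, 2, 2, 2, 2, 2, 0, 0, 0, 0, 0, 1, 1, 1, 1, 1, 2, 2, 2, 2, 2, 2, 0, 0, 0, 0, 0, 1, 1, 1, 1, 1, 2, 2, 2, 0, 0, 0, 0, 0, 0, 0, 1, 0, 0, 0, 0, 1], [1, 1, 2, 3], 4, false),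
    ([0, 0, 0, 0, 0, 1, 1, 1, 1, 1, 2, 2, 2, 2, 2, 0, 2, 0, 0, 0, 0, 1, 1, 1, 1, 1, 2, 2, 2, 2, 2, 2, 0, 0, 0, 0, 0, 1, 1, 1, 1, 1, 2, 2, 2, 2, 2, 2, 0, 0, 0, 0, 0, 1, 1, 1, 1, 1, 2, 2, 2, 2, 2, 2, 0, 0, 0, 0, 0, 1, 1, 1, 1, 1, 2, 2, 2, 2, 2, 2, 0, 0, 0, 0, 0, 1, 1, 1, 1, 1, 2, 2, 2, 0, 0, 0, 0, 0, 0, 0, 1, 0, 0, 0, 0, 1, 0, 0, 0, 0, 1], [1, 2, 3], 4, false),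
    ([0, 0, 0, 0, 0, 1, 1, 1, 1, 1, 2, 2, 2, 2, 2, 0, 2, 0, 0, 0, 0, 1, 1, 1, 1, 1, 2, 2, 2, 2, 2, 2, 0, 0, 0, 0, 0, 1, 1, 1, 1, 1, 2, 2, 2, 2, 2, 2, 0, 0, 0, 0, 0, 1, 1, 1, 1, 1, 2, 2, 2, 2, 2, 2, 0, 0, 0, 0, 0, 1, 1, 1, 1, 1, 2, 2, 2, 2, 2, 2, 0, 0, 0, 0, 0, 1, 1, 1, 1, 1, 2, 2, 2, 0, 0, 0, 0, 0, 0, 0, 1, 0, 0, 0, 0, 1, 0, 0, 0, 0, 1, 0, 0, 0, 0, 1], [2, 3], 4, false),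
    ([0, 0, 0, 0, 0, 1, 1, 1, 1, 1, 2, 2, 2, 2, 2, 0, 2, 0, 0, 0, 0, 1, 1, 1, 1, 1, 2, 2, 2, 2, 2, 2, 0, 0, 0, 0, 0, 1, 1, 1, 1, 1, 2, 2, 2, 2, 2, 2, 0, 0, 0, 0, 0, 1, 1, 1, 1, 1, 2, 2, 2, 2, 2, 2, 0, 0, 0, 0, 0, 1, 1, 1, 1, 1, 2, 2, 2, 2, 2, 2, 0, 0, 0, 0, 0, 1, 1, 1, 1, 1, 2, 2, 2, 0, 0, 0, 0, 0, 0, 0, 1, 0, 0, 0, 0, 1, 0, 0, 0, 0, 1, 0, 0, 0, 0], [0, 0, 0, 1, 2, 2, 3], 1, false),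
    ([0, 0, 0, 0, 0, 1, 1, 1, 1, 1, 2, 2, 2, 2, 2, 0, 2, 0, 0, 0, 0, 1, 1, 1, 1, 1, 2, 2, 2, 2, 2, 2, 0, 0, 0, 0, 0, 1, 1, 1, 1, 1, 2, 2, 2, 2, 2, 2, 0, 0, 0, 0, 0, 1, 1, 1, 1, 1, 2, 2, 2, 2, 2, 2, 0, 0, 0, 0, 0, 1, 1, 1, 1, 1, 2, 2, 2, 2, 2, 2, 0, 0, 0, 0, 0, 1, 1, 1, 1, 1, 2, 2, 2, 0, 0, 0, 0, 0, 0, 0, 1, 0, 0, 0, 0, 1, 0, 0, 0, 0, 1, 0, 0, 0, 0, 0], [0, 0, 1, 2, 2, 3], 1, false),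
    ([0, 0, 0, 0, 0, 1, 1, 1, 1, 1, 2, 2, 2, 2, 2, 0, 2, 0, 0, 0, 0, 1, 1, 1, 1, 1, 2, 2, 2, 2, 2, 2, 0, 0, 0, 0, 0, 1, 1, 1, 1, 1, 2, 2, 2, 2, 2, 2, 0, 0, 0, 0, 0, 1, 1, 1, 1, 1, 2, 2, 2, 2, 2, 2, 0, 0, 0, 0, 0, 1, 1, 1, 1, 1, 2, 2, 2, 2, 2, 2, 0, 0, 0, 0, 0, 1, 1, 1, 1, 1, 2, 2, 2, 0, 0, 0, 0, 0, 0, 0, 1, 0, 0, 0, 0, 1, 0, 0, 0, 0, 1, 0, 0, 0, 0, 0, 0], [0, 1, 2, 2, 3], 1, false),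
    ([0, 0, 0, 0, 0, 1, 1, 1, 1, 1, 2, 2, 2, 2, 2, 0, 2, 0, 0, 0, 0, 1, 1, 1, 1, 1, 2, 2, 2, 2, 2, 2, 0, 0, 0, 0, 0, 1, 1, 1, 1, 1, 2, 2, 2, 2, 2, 2, 0, 0, 0, 0, 0, 1, 1, 1, 1, 1, 2, 2, 2, 2, 2, 2, 0, 0, 0, 0, 0, 1, 1, 1, 1, 1, 2, 2, 2, 2, 2, 2, 0, 0, 0, 0, 0, 1, 1, 1, 1, 1, 2, 2, 2, 0, 0, 0, 0, 0, 0, 0, 1, 0, 0, 0, 0, 1, 0, 0, 0, 0, 1, 0, 0, 0, 0, 0, 0, 0], [1, 2, 2, 3], 1, false),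
    ([0, 0, 0, 0, 0, 1, 1, 1, 1, 1, 2, 2, 2, 2, 2, 0, 2, 0, 0, 0, 0, 1, 1, 1, 1, 1, 2, 2, 2, 2, 2, 2, 0, 0, 0, 0, 0, 1, 1, 1, 1, 1, 2, 2, 2, 2, 2, 2, 0, 0, 0, 0, 0, 1, 1, 1, 1, 1, 2, 2, 2, 2, 2, 2, 0, 0, 0, 0, 0, 1, 1, 1, 1, 1, 2, 2, 2, 2, 2, 2, 0, 0, 0, 0, 0, 1, 1, 1, 1, 1, 2, 2, 2, 0, 0, 0, 0, 0, 0, 0, 1, 0, 0, 0, 0, 1, 0, 0, 0, 0, 1, 0], [1, 1, 2, 2, 3], 0, false),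
    ([0, 0, 0, 0, 0, 1, 1, 1, 1, 1, 2, 2, 2, 2, 2, 0, 2, 0, 0, 0, 0, 1, 1, 1, 1, 1, 2, 2, 2, 2, 2, 2, 0, 0, 0, 0, 0, 1, 1, 1, 1, 1, 2, 2, 2, 2, 2, 2, 0, 0, 0, 0, 0, 1, 1, 1, 1, 1, 2, 2, 2, 2, 2, 2, 0, 0, 0, 0, 0, 1, 1, 1, 1, 1, 2, 2, 2, 2, 2, 2, 0, 0, 0, 0, 0, 1, 1, 1, 1, 1, 2, 2, 2, 0, 0, 0, 0, 0, 0, 0, 1, 0, 0, 0, 0, 1, 0, 0, 0, 0], [1, 1, 2, 2, 3], 1, false),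
    ([0, 0, 0, 0, 0, 1, 1, 1, 1, 1, 2, 2, 2, 2, 2, 0, 2, 0, 0, 0, 0, 1, 1, 1, 1, 1, 2, 2, 2, 2, 2, 2, 0, 0, 0, 0, 0, 1, 1, 1, 1, 1, 2, 2, 2, 2, 2, 2, 0, 0, 0, 0, 0, 1, 1, 1, 1, 1, 2, 2, 2, 2, 2, 2, 0, 0, 0, 0, 0, 1, 1, 1, 1, 1, 2, 2, 2, 2, 2, 2, 0, 0, 0, 0, 0, 1, 1, 1, 1, 1, 2, 2, 2, 0, 0, 0, 0, 0, 0, 0, 1, 0, 0, 0, 0], [0, 0, 0, 0, 1, 1, 1, 2, 2, 3], 1, false),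
    ([0, 0, 0, 0, 0, 1, 1, 1, 1, 1, 2, 2, 2, 2, 2, 0, 2, 0, 0, 0, 0, 1, 1, 1, 1, 1, 2, 2, 2, 2, 2, 2, 0, 0, 0, 0, 0, 1, 1, 1, 1, 1, 2, 2, 2, 2, 2, 2, 0, 0, 0, 0, 0, 1, 1, 1, 1, 1, 2, 2, 2, 2, 2, 2, 0, 0, 0, 0, 0, 1, 1, 1, 1, 1, 2, 2, 2, 2, 2, 2, 0, 0, 0, 0, 0, 1, 1, 1, 1, 1, 2, 2, 2, 0, 0, 0, 0, 0, 0, 0, 1, 0, 0, 0, 0, 0], [0, 0, 0, 1, 1, 1, 2, 2, 3], 1, false),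
    ([0, 0, 0, 0, 0, 1, 1, 1, 1, 1, 2, 2, 2, 2, 2, 0, 2, 0, 0, 0, 0, 1, 1, 1, 1, 1, 2, 2, 2, 2, 2, 2, 0, 0, 0, 0, 0, 1, 1, 1, 1, 1, 2, 2, 2, 2, 2, 2, 0, 0, 0, 0, 0, 1, 1, 1, 1, 1, 2, 2, 2, 2, 2, 2, 0, 0, 0, 0, 0, 1, 1, 1, 1, 1, 2, 2, 2, 2, 2, 2, 0, 0, 0, 0, 0, 1, 1, 1, 1, 1, 2, 2, 2, 0, 0, 0, 0, 0, 0, 0, 1, 0, 0, 0, 0, 0, 0], [0, 0, 1, 1, 1, 2, 2, 3], 1, false),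
    ([0, 0, 0, 0, 0, 1, 1, 1, 1, 1, 2, 2, 2, 2, 2, 0, 2, 0, 0, 0, 0, 1, 1, 1, 1, 1, 2, 2, 2, 2, 2, 2, 0, 0, 0, 0, 0, 1, 1, 1, 1, 1, 2, 2, 2, 2, 2, 2, 0, 0, 0, 0, 0, 1, 1, 1, 1, 1, 2, 2, 2, 2, 2, 2, 0, 0, 0, 0, 0, 1, 1, 1, 1, 1, 2, 2, 2, 2, 2, 2, 0, 0, 0, 0, 0, 1, 1, 1, 1, 1, 2, 2, 2, 0, 0, 0, 0, 0, 0, 0, 1, 0, 0, 0, 0, 0, 0, 0], [0, 1, 1, 1, 2, 2, 3], 1, false),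
    ([0, 0, 0, 0, 0, 1, 1, 1, 1, 1, 2, 2, 2, 2, 2, 0, 2, 0, 0, 0, 0, 1, 1, 1, 1, 1, 2, 2, 2, 2, 2, 2, 0, 0, 0, 0, 0, 1, 1, 1, 1, 1, 2, 2, 2, 2, 2, 2, 0, 0, 0, 0, 0, 1, 1, 1, 1, 1, 2, 2, 2, 2, 2, 2, 0, 0, 0, 0, 0, 1, 1, 1, 1, 1, 2, 2, 2, 2, 2, 2, 0, 0, 0, 0, 0, 1, 1, 1, 1, 1, 2, 2, 2, 0, 0, 0, 0, 0, 0, 0, 1, 0, 0, 0, 0, 0, 0, 0, 0], [1, 1, 1, 2, 2, 3], 1, false),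
    ([0, 0, 0, 0, 0, 1, 1, 1, 1, 1, 2, 2, 2, 2, 2, 0, 2, 0, 0, 0, 0, 1, 1, 1, 1, 1, 2, 2, 2, 2, 2, 2, 0, 0, 0, 0, 0, 1, 1, 1, 1, 1, 2, 2, 2, 2, 2, 2, 0, 0, 0, 0, 0, 1, 1, 1, 1, 1, 2, 2, 2, 2, 2, 2, 0, 0, 0, 0, 0, 1, 1, 1, 1, 1, 2, 2, 2, 2, 2, 2, 0, 0, 0, 0, 0, 1, 1, 1, 1, 1, 2, 2, 2, 0, 0, 0, 0, 0, 0, 0, 1, 0, 0], [1, 1, 1, 1, 2, 2, 3], 0, false),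
    ([0, 0, 0, 0, 0, 1, 1, 1, 1, 1, 2, 2, 2, 2, 2, 0, 2, 0, 0, 0, 0, 1, 1, 1, 1, 1, 2, 2, 2, 2, 2, 2, 0, 0, 0, 0, 0, 1, 1, 1, 1, 1, 2, 2, 2, 2, 2, 2, 0, 0, 0, 0, 0, 1, 1, 1, 1, 1, 2, 2, 2, 2, 2, 2, 0, 0, 0, 0, 0, 1, 1, 1, 1, 1, 2, 2, 2, 2, 2, 2, 0, 0, 0, 0, 0, 1, 1, 1, 1, 1, 2, 2, 2, 0, 0, 0, 0, 0, 0, 0], [0, 1, 1, 1, 1, 2, 2, 3], 1, false),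
    ([0, 0, 0, 0, 0, 1, 1, 1, 1, 1, 2, 2, 2, 2, 2, 0, 2, 0, 0, 0, 0, 1, 1, 1, 1, 1, 2, 2, 2, 2, 2, 2, 0, 0, 0, 0, 0, 1, 1, 1, 1, 1, 2, 2, 2, 2, 2, 2, 0, 0, 0, 0, 0, 1, 1, 1, 1, 1, 2, 2, 2, 2, 2, 2, 0, 0, 0, 0, 0, 1, 1, 1, 1, 1, 2, 2, 2, 2, 2, 2, 0, 0, 0, 0, 0, 1, 1, 1, 1, 1, 2, 2, 2, 0, 0, 0, 0, 0, 0, 0, 0], [1, 1, 1, 1, 2, 2, 3], 1, false),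
    ([0, 0, 0, 0, 0, 1, 1, 1, 1, 1, 2, 2, 2, 2, 2, 0, 2, 0, 0, 0, 0, 1, 1, 1, 1, 1, 2, 2, 2, 2, 2, 2, 0, 0, 0, 0, 0, 1, 1, 1, 1, 1, 2, 2, 2, 2, 2, 2, 0, 0, 0, 0, 0, 1, 1, 1, 1, 1, 2, 2, 2, 2, 2, 2, 0, 0, 0, 0, 0, 1, 1, 1, 1, 1, 2, 2, 2, 2, 2, 2, 0, 0, 0, 0, 0, 1, 1, 1, 1, 1, 2, 2, 2, 0, 0], [1, 1, 1, 1, 1, 2, 2, 3], 0, false),
    ([0, 0, 0, 0, 0, 1, 1, 1, 1, 1, 2, 2, 2, 2, 2, 0, 2, 0, 0, 0, 0, 1, 1, 1, 1, 1, 2, 2, 2, 2, 2, 2, 0, 0, 0, 0, 0, 1, 1, 1, 1, 1, 2, 2, 2, 2, 2, 2, 0, 0, 0, 0, 0, 1, 1, 1, 1, 1, 2, 2, 2, 2, 2, 2, 0, 0, 0, 0, 0, 1, 1, 1, 1, 1, 2, 2, 2, 2, 2, 2, 0, 0, 0, 0, 0, 1, 1, 1, 1, 1, 2, 2], [0, 1, 1, 1, 1, 1, 2, 2, 3], 3, false),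
    ([0, 0, 0, 0, 0, 1, 1, 1, 1, 1, 2, 2, 2, 2, 2, 0, 2, 0, 0, 0, 0, 1, 1, 1, 1, 1, 2, 2, 2, 2, 2, 2, 0, 0, 0, 0, 0, 1, 1, 1, 1, 1, 2, 2, 2, 2, 2, 2, 0, 0, 0, 0, 0, 1, 1, 1, 1, 1, 2, 2, 2, 2, 2, 2, 0, 0, 0, 0, 0, 1, 1, 1, 1, 1, 2, 2, 2, 2, 2, 2, 0, 0, 0, 0, 0, 1, 1, 1, 1, 1, 2, 2, 0], [1, 1, 1, 1, 1, 2, 2, 3], 3, false),
    ([0, 0, 0, 0, 0, 1, 1, 1, 1, 1, 2, 2, 2, 2, 2, 0, 2, 0, 0, 0, 0, 1, 1, 1, 1, 1, 2, 2, 2, 2, 2, 2, 0, 0, 0, 0, 0, 1, 1, 1, 1, 1, 2, 2, 2, 2, 2, 2, 0, 0, 0, 0, 0, 1, 1, 1, 1, 1, 2, 2, 2, 2, 2, 2, 0, 0, 0, 0, 0, 1, 1, 1, 1, 1, 2, 2, 2, 2, 2, 2, 0, 0, 0, 0, 0, 1, 1, 1, 1, 1, 2, 2, 0, 0], [1, 1, 1, 1, 2, 2, 3], 4, false),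
    ([0, 0, 0, 0, 0, 1, 1, 1, 1, 1, 2, 2, 2, 2, 2, 0, 2, 0, 0, 0, 0, 1, 1, 1, 1, 1, 2, 2, 2, 2, 2, 2, 0, 0, 0, 0, 0, 1, 1, 1, 1, 1, 2, 2, 2, 2, 2, 2, 0, 0, 0, 0, 0, 1, 1, 1, 1, 1, 2, 2, 2, 2, 2, 2, 0, 0, 0, 0, 0, 1, 1, 1, 1, 1, 2, 2, 2, 2, 2, 2, 0, 0, 0, 0, 0, 1, 1, 1, 1, 1, 2, 2, 0, 0, 0, 0, 0, 0, 1], [1, 1, 1, 2, 2, 3], 4, false),
    ([0, 0, 0, 0, 0, 1, 1, 1, 1, 1, 2, 2, 2, 2, 2, 0, 2, 0, 0, 0, 0, 1, 1, 1, 1, 1, 2, 2, 2, 2, 2, 2, 0, 0, 0, 0, 0, 1, 1, 1, 1, 1, 2, 2, 2, 2, 2, 2, 0, 0, 0, 0, 0, 1, 1, 1, 1, 1, 2, 2, 2, 2, 2, 2, 0, 0, 0, 0, 0, 1, 1, 1, 1, 1, 2, 2, 2, 2, 2, 2, 0, 0, 0, 0, 0, 1, 1, 1, 1, 1, 2, 2, 0, 0, 0, 0, 0, 0, 1, 0, 0, 0, 0, 1], [1, 1, 2, 2, 3], 4, false),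
    ([0, 0, 0, 0, 0, 1, 1, 1, 1, 1, 2, 2, 2, 2, 2, 0, 2, 0, 0, 0, 0, 1, 1, 1, 1, 1, 2, 2, 2, 2, 2, 2, 0, 0, 0, 0, 0, 1, 1, 1, 1, 1, 2, 2, 2, 2, 2, 2, 0, 0, 0, 0, 0, 1, 1, 1, 1, 1, 2, 2, 2, 2, 2, 2, 0, 0, 0, 0, 0, 1, 1, 1, 1, 1, 2, 2, 2, 2, 2, 2, 0, 0, 0, 0, 0, 1, 1, 1, 1, 1, 2, 2, 0, 0, 0, 0, 0, 0, 1, 0, 0, 0, 0, 1, 0, 0, 0, 0, 1], [1, 2, 2, 3], 4, false),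
    ([0, 0, 0, 0, 0, 1, 1, 1, 1, 1, 2, 2, 2, 2, 2, 0, 2, 0, 0, 0, 0, 1, 1, 1, 1, 1, 2, 2, 2, 2, 2, 2, 0, 0, 0, 0, 0, 1, 1, 1, 1, 1, 2, 2, 2, 2, 2, 2, 0, 0, 0, 0, 0, 1, 1, 1, 1, 1, 2, 2, 2, 2, 2, 2, 0, 0, 0, 0, 0, 1, 1, 1, 1, 1, 2, 2, 2, 2, 2, 2, 0, 0, 0, 0, 0, 1, 1, 1, 1, 1, 2, 2, 0, 0, 0, 0, 0, 0, 1, 0, 0, 0, 0, 1, 0, 0, 0, 0, 1, 0, 0, 0, 0, 1], [2, 2, 3], 4, false),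
    ([0, 0, 0, 0, 0, 1, 1, 1, 1, 1, 2, 2, 2, 2, 2, 0, 2, 0, 0, 0, 0, 1, 1, 1, 1, 1, 2, 2, 2, 2, 2, 2, 0, 0, 0, 0, 0, 1, 1, 1, 1, 1, 2, 2, 2, 2, 2, 2, 0, 0, 0, 0, 0, 1, 1, 1, 1, 1, 2, 2, 2, 2, 2, 2, 0, 0, 0, 0, 0, 1, 1, 1, 1, 1, 2, 2, 2, 2, 2, 2, 0, 0, 0, 0, 0, 1, 1, 1, 1, 1, 2, 2, 0, 0, 0, 0, 0, 0, 1, 0, 0, 0, 0, 1, 0, 0, 0, 0, 1, 0, 0, 0, 0], [0, 0, 0, 1, 2, 2, 2, 3], 1, false),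
    ([0, 0, 0, 0, 0, 1, 1, 1, 1, 1, 2, 2, 2, 2, 2, 0, 2, 0, 0, 0, 0, 1, 1, 1, 1, 1, 2, 2, 2, 2, 2, 2, 0, 0, 0, 0, 0, 1, 1, 1, 1, 1, 2, 2, 2, 2, 2, 2, 0, 0, 0, 0, 0, 1, 1, 1, 1, 1, 2, 2, 2, 2, 2, 2, 0, 0, 0, 0, 0, 1, 1, 1, 1, 1, 2, 2, 2, 2, 2, 2, 0, 0, 0, 0, 0, 1, 1, 1, 1, 1, 2, 2, 0, 0, 0, 0, 0, 0, 1, 0, 0, 0, 0, 1, 0, 0, 0, 0, 1, 0, 0, 0, 0, 0], [0, 0, 1, 2, 2, 2, 3], 1, false),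
    ([0, 0, 0, 0, 0, 1, 1, 1, 1, 1, 2, 2, 2, 2, 2, 0, 2, 0, 0, 0, 0, 1, 1, 1, 1, 1, 2, 2, 2, 2, 2, 2, 0, 0, 0, 0, 0, 1, 1, 1, 1, 1, 2, 2, 2, 2, 2, 2, 0, 0, 0, 0, 0, 1, 1, 1, 1, 1, 2, 2, 2, 2, 2, 2, 0, 0, 0, 0, 0, 1, 1, 1, 1, 1, 2, 2, 2, 2, 2, 2, 0, 0, 0, 0, 0, 1, 1, 1, 1, 1, 2, 2, 0, 0, 0, 0, 0, 0, 1, 0, 0, 0, 0, 1, 0, 0, 0, 0, 1, 0, 0, 0, 0, 0, 0], [0, 1, 2, 2, 2, 3], 1, false),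
    ([0, 0, 0, 0, 0, 1, 1, 1, 1, 1, 2, 2, 2, 2, 2, 0, 2, 0, 0, 0, 0, 1, 1, 1, 1, 1, 2, 2, 2, 2, 2, 2, 0, 0, 0, 0, 0, 1, 1, 1, 1, 1, 2, 2, 2, 2, 2, 2, 0, 0, 0, 0, 0, 1, 1, 1, 1, 1, 2, 2, 2, 2, 2, 2, 0, 0, 0, 0, 0, 1, 1, 1, 1, 1, 2, 2, 2, 2, 2, 2, 0, 0, 0, 0, 0, 1, 1, 1, 1, 1, 2, 2, 0, 0, 0, 0, 0, 0, 1, 0, 0, 0, 0, 1, 0, 0, 0, 0, 1, 0, 0, 0, 0, 0, 0, 0], [1, 2, 2, 2, 3], 1, false),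
    ([0, 0, 0, 0, 0, 1, 1, 1, 1, 1, 2, 2, 2, 2, 2, 0, 2, 0, 0, 0, 0, 1, 1, 1, 1, 1, 2, 2, 2, 2, 2, 2, 0, 0, 0, 0, 0, 1, 1, 1, 1, 1, 2, 2, 2, 2, 2, 2, 0, 0, 0, 0, 0, 1, 1, 1, 1, 1, 2, 2, 2, 2, 2, 2, 0, 0, 0, 0, 0, 1, 1, 1, 1, 1, 2, 2, 2, 2, 2, 2, 0, 0, 0, 0, 0, 1, 1, 1, 1, 1, 2, 2, 0, 0, 0, 0, 0, 0, 1, 0, 0, 0, 0, 1, 0, 0, 0, 0, 1, 0], [1, 1, 2, 2, 2, 3], 0, false),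
    ([0, 0, 0, 0, 0, 1, 1, 1, 1, 1, 2, 2, 2, 2, 2, 0, 2, 0, 0, 0, 0, 1, 1, 1, 1, 1, 2, 2, 2, 2, 2, 2, 0, 0, 0, 0, 0, 1, 1, 1, 1, 1, 2, 2, 2, 2, 2, 2, 0, 0, 0, 0, 0, 1, 1, 1, 1, 1, 2, 2, 2, 2, 2, 2, 0, 0, 0, 0, 0, 1, 1, 1, 1, 1, 2, 2, 2, 2, 2, 2, 0, 0, 0, 0, 0, 1, 1, 1, 1, 1, 2, 2, 0, 0, 0, 0, 0, 0, 1, 0, 0, 0, 0, 1, 0, 0, 0, 0], [1, 1, 2, 2, 2, 3], 1, false),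
    ([0, 0, 0, 0, 0, 1, 1, 1, 1, 1, 2, 2, 2, 2, 2, 0, 2, 0, 0, 0, 0, 1, 1, 1, 1, 1, 2, 2, 2, 2, 2, 2, 0, 0, 0, 0, 0, 1, 1, 1, 1, 1, 2, 2, 2, 2, 2, 2, 0, 0, 0, 0, 0, 1, 1, 1, 1, 1, 2, 2, 2, 2, 2, 2, 0, 0, 0, 0, 0, 1, 1, 1, 1, 1, 2, 2, 2, 2, 2, 2, 0, 0, 0, 0, 0, 1, 1, 1, 1, 1, 2, 2, 0, 0, 0, 0, 0, 0, 1, 0, 0, 0, 0], [0, 0, 0, 0, 1, 1, 1, 2, 2, 2, 3], 1, false),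
    ([0, 0, 0, 0, 0, 1, 1, 1, 1, 1, 2, 2, 2, 2, 2, 0, 2, 0, 0, 0, 0, 1, 1, 1, 1, 1, 2, 2, 2, 2, 2, 2, 0, 0, 0, 0, 0, 1, 1, 1, 1, 1, 2, 2, 2, 2, 2, 2, 0, 0, 0, 0, 0, 1, 1, 1, 1, 1, 2, 2, 2, 2, 2, 2, 0, 0, 0, 0, 0, 1, 1, 1, 1, 1, 2, 2, 2, 2, 2, 2, 0, 0, 0, 0, 0, 1, 1, 1, 1, 1, 2, 2, 0, 0, 0, 0, 0, 0, 1, 0, 0, 0, 0, 0], [0, 0, 0, 1, 1, 1, 2, 2, 2, 3], 1, false),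
    ([0, 0, 0, 0, 0, 1, 1, 1, 1, 1, 2, 2, 2, 2, 2, 0, 2, 0, 0, 0, 0, 1, 1, 1, 1, 1, 2, 2, 2, 2, 2, 2, 0, 0, 0, 0, 0, 1, 1, 1, 1, 1, 2, 2, 2, 2, 2, 2, 0, 0, 0, 0, 0, 1, 1, 1, 1, 1, 2, 2, 2, 2, 2, 2, 0, 0, 0, 0, 0, 1, 1, 1, 1, 1, 2, 2, 2, 2, 2, 2, 0, 0, 0, 0, 0, 1, 1, 1, 1, 1, 2, 2, 0, 0, 0, 0, 0, 0, 1, 0, 0, 0, 0, 0, 0], [0, 0, 1, 1, 1, 2, 2, 2, 3], 1, false),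
    ([0, 0, 0, 0, 0, 1, 1, 1, 1, 1, 2, 2, 2, 2, 2, 0, 2, 0, 0, 0, 0, 1, 1, 1, 1, 1, 2, 2, 2, 2, 2, 2, 0, 0, 0, 0, 0, 1, 1, 1, 1, 1, 2, 2, 2, 2, 2, 2, 0, 0, 0, 0, 0, 1, 1, 1, 1, 1, 2, 2, 2, 2, 2, 2, 0, 0, 0, 0, 0, 1, 1, 1, 1, 1, 2, 2, 2, 2, 2, 2, 0, 0, 0, 0, 0, 1, 1, 1, 1, 1, 2, 2, 0, 0, 0, 0, 0, 0, 1, 0, 0, 0, 0, 0, 0, 0], [0, 1, 1, 1, 2, 2, 2, 3], 1, false),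
    ([0, 0, 0, 0, 0, 1, 1, 1, 1, 1, 2, 2, 2, 2, 2, 0, 2, 0, 0, 0, 0, 1, 1, 1, 1, 1, 2, 2, 2, 2, 2, 2, 0, 0, 0, 0, 0, 1, 1, 1, 1, 1, 2, 2, 2, 2, 2, 2, 0, 0, 0, 0, 0, 1, 1, 1, 1, 1, 2, 2, 2, 2, 2, 2, 0, 0, 0, 0, 0, 1, 1, 1, 1, 1, 2, 2, 2, 2, 2, 2, 0, 0, 0, 0, 0, 1, 1, 1, 1, 1, 2, 2, 0, 0, 0, 0, 0, 0, 1, 0, 0, 0, 0, 0, 0, 0, 0], [1, 1, 1, 2, 2, 2, 3], 1, false),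
    ([0, 0, 0, 0, 0, 1, 1, 1, 1, 1, 2, 2, 2, 2, 2, 0, 2, 0, 0, 0, 0, 1, 1, 1, 1, 1, 2, 2, 2, 2, 2, 2, 0, 0, 0, 0, 0, 1, 1, 1, 1, 1, 2, 2, 2, 2, 2, 2, 0, 0, 0, 0, 0, 1, 1, 1, 1, 1, 2, 2, 2, 2, 2, 2, 0, 0, 0, 0, 0, 1, 1, 1, 1, 1, 2, 2, 2, 2, 2, 2, 0, 0, 0, 0, 0, 1, 1, 1, 1, 1, 2, 2, 0, 0, 0, 0, 0, 0, 1, 0, 0], [1, 1, 1, 1, 2, 2, 2, 3], 0, false),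
    ([0, 0, 0, 0, 0, 1, 1, 1, 1, 1, 2, 2, 2, 2, 2, 0, 2, 0, 0, 0, 0, 1, 1, 1, 1, 1, 2, 2, 2, 2, 2, 2, 0, 0, 0, 0, 0, 1, 1, 1, 1, 1, 2, 2, 2, 2, 2, 2, 0, 0, 0, 0, 0, 1, 1, 1, 1, 1, 2, 2, 2, 2, 2, 2, 0, 0, 0, 0, 0, 1, 1, 1, 1, 1, 2, 2, 2, 2, 2, 2, 0, 0, 0, 0, 0, 1, 1, 1, 1, 1, 2, 2, 0, 0, 0, 0, 0, 0], [0, 1, 1, 1, 1, 2, 2, 2, 3], 1, false),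
    ([0, 0, 0, 0, 0, 1, 1, 1, 1, 1, 2, 2, 2, 2, 2, 0, 2, 0, 0, 0, 0, 1, 1, 1, 1, 1, 2, 2, 2, 2, 2, 2, 0, 0, 0, 0, 0, 1, 1, 1, 1, 1, 2, 2, 2, 2, 2, 2, 0, 0, 0, 0, 0, 1, 1, 1, 1, 1, 2, 2, 2, 2, 2, 2, 0, 0, 0, 0, 0, 1, 1, 1, 1, 1, 2, 2, 2, 2, 2, 2, 0, 0, 0, 0, 0, 1, 1, 1, 1, 1, 2, 2, 0, 0, 0, 0, 0, 0, 0], [1, 1, 1, 1, 2, 2, 2, 3], 1, false),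
    ([0, 0, 0, 0, 0, 1, 1, 1, 1, 1, 2, 2, 2, 2, 2, 0, 2, 0, 0, 0, 0, 1, 1, 1, 1, 1, 2, 2, 2, 2, 2, 2, 0, 0, 0, 0, 0, 1, 1, 1, 1, 1, 2, 2, 2, 2, 2, 2, 0, 0, 0, 0, 0, 1, 1, 1, 1, 1, 2, 2, 2, 2, 2, 2, 0, 0, 0, 0, 0, 1, 1, 1, 1, 1, 2, 2, 2, 2, 2, 2, 0, 0, 0, 0, 0, 1, 1, 1, 1, 1, 2, 2, 0], [1, 1, 1, 1, 1, 2, 2, 2, 3], 0, false),
    ([0, 0, 0, 0, 0, 1, 1, 1, 1, 1, 2, 2, 2, 2, 2, 0, 2, 0, 0, 0, 0, 1, 1, 1, 1, 1, 2, 2, 2, 2, 2, 2, 0, 0, 0, 0, 0, 1, 1, 1, 1, 1, 2, 2, 2, 2, 2, 2, 0, 0, 0, 0, 0, 1, 1, 1, 1, 1, 2, 2, 2, 2, 2, 2, 0, 0, 0, 0, 0, 1, 1, 1, 1, 1, 2, 2, 2, 2, 2, 2, 0, 0, 0, 0, 0, 1, 1, 1, 1, 1, 2], [1, 1, 1, 1, 1, 2, 2, 2, 3], 3, false),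
    ([0, 0, 0, 0, 0, 1, 1, 1, 1, 1, 2, 2, 2, 2, 2, 0, 2, 0, 0, 0, 0, 1, 1, 1, 1, 1, 2, 2, 2, 2, 2, 2, 0, 0, 0, 0, 0, 1, 1, 1, 1, 1, 2, 2, 2, 2, 2, 2, 0, 0, 0, 0, 0, 1, 1, 1, 1, 1, 2, 2, 2, 2, 2, 2, 0, 0, 0, 0, 0, 1, 1, 1, 1, 1, 2, 2, 2, 2, 2, 2, 0, 0, 0, 0, 0, 1, 1, 1, 1, 1, 2, 0], [1, 1, 1, 1, 2, 2, 2, 3], 4, false),
    ([0, 0, 0, 0, 0, 1, 1, 1, 1, 1, 2, 2, 2, 2, 2, 0, 2, 0, 0, 0, 0, 1, 1, 1, 1, 1, 2, 2, 2, 2, 2, 2, 0, 0, 0, 0, 0, 1, 1, 1, 1, 1, 2, 2, 2, 2, 2, 2, 0, 0, 0, 0, 0, 1, 1, 1, 1, 1, 2, 2, 2, 2, 2, 2, 0, 0, 0, 0, 0, 1, 1, 1, 1, 1, 2, 2, 2, 2, 2, 2, 0, 0, 0, 0, 0, 1, 1, 1, 1, 1, 2, 0, 0, 0, 0, 0, 1], [1, 1, 1, 2, 2, 2, 3], 4, false),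
    ([0, 0, 0, 0, 0, 1, 1, 1, 1, 1, 2, 2, 2, 2, 2, 0, 2, 0, 0, 0, 0, 1, 1, 1, 1, 1, 2, 2, 2, 2, 2, 2, 0, 0, 0, 0, 0, 1, 1, 1, 1, 1, 2, 2, 2, 2, 2, 2, 0, 0, 0, 0, 0, 1, 1, 1, 1, 1, 2, 2, 2, 2, 2, 2, 0, 0, 0, 0, 0, 1, 1, 1, 1, 1, 2, 2, 2, 2, 2, 2, 0, 0, 0, 0, 0, 1, 1, 1, 1, 1, 2, 0, 0, 0, 0, 0, 1, 0, 0, 0, 0, 1], [1, 1, 2, 2, 2, 3], 4, false),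
    ([0, 0, 0, 0, 0, 1, 1, 1, 1, 1, 2, 2, 2, 2, 2, 0, 2, 0, 0, 0, 0, 1, 1, 1, 1, 1, 2, 2, 2, 2, 2, 2, 0, 0, 0, 0, 0, 1, 1, 1, 1, 1, 2, 2, 2, 2, 2, 2, 0, 0, 0, 0, 0, 1, 1, 1, 1, 1, 2, 2, 2, 2, 2, 2, 0, 0, 0, 0, 0, 1, 1, 1, 1, 1, 2, 2, 2, 2, 2, 2, 0, 0, 0, 0, 0, 1, 1, 1, 1, 1, 2, 0, 0, 0, 0, 0, 1, 0, 0, 0, 0, 1, 0, 0, 0, 0, 1], [1, 2, 2, 2, 3], 4, false),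
    ([0, 0, 0, 0, 0, 1, 1, 1, 1, 1, 2, 2, 2, 2, 2, 0, 2, 0, 0, 0, 0, 1, 1, 1, 1, 1, 2, 2, 2, 2, 2, 2, 0, 0, 0, 0, 0, 1, 1, 1, 1, 1, 2, 2, 2, 2, 2, 2, 0, 0, 0, 0, 0, 1, 1, 1, 1, 1, 2, 2, 2, 2, 2, 2, 0, 0, 0, 0, 0, 1, 1, 1, 1, 1, 2, 2, 2, 2, 2, 2, 0, 0, 0, 0, 0, 1, 1, 1, 1, 1, 2, 0, 0, 0, 0, 0, 1, 0, 0, 0, 0, 1, 0, 0, 0, 0, 1, 0, 0, 0, 0, 1], [2, 2, 2, 3], 4, false),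
    ([0, 0, 0, 0, 0, 1, 1, 1, 1, 1, 2, 2, 2, 2, 2, 0, 2, 0, 0, 0, 0, 1, 1, 1, 1, 1, 2, 2, 2, 2, 2, 2, 0, 0, 0, 0, 0, 1, 1, 1, 1, 1, 2, 2, 2, 2, 2, 2, 0, 0, 0, 0, 0, 1, 1, 1, 1, 1, 2, 2, 2, 2, 2, 2, 0, 0, 0, 0, 0, 1, 1, 1, 1, 1, 2, 2, 2, 2, 2, 2, 0, 0, 0, 0, 0, 1, 1, 1, 1, 1, 2, 0, 0, 0, 0, 0, 1, 0, 0, 0, 0, 1, 0, 0, 0, 0, 1, 0, 0, 0, 0], [0, 0, 0, 1, 2, 2, 2, 2, 3], 1, false),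
    ([0, 0, 0, 0, 0, 1, 1, 1, 1, 1, 2, 2, 2, 2, 2, 0, 2, 0, 0, 0, 0, 1, 1, 1, 1, 1, 2, 2, 2, 2, 2, 2, 0, 0, 0, 0, 0, 1, 1, 1, 1, 1, 2, 2, 2, 2, 2, 2, 0, 0, 0, 0, 0, 1, 1, 1, 1, 1, 2, 2, 2, 2, 2, 2, 0, 0, 0, 0, 0, 1, 1, 1, 1, 1, 2, 2, 2, 2, 2, 2, 0, 0, 0, 0, 0, 1, 1, 1, 1, 1, 2, 0, 0, 0, 0, 0, 1, 0, 0, 0, 0, 1, 0, 0, 0, 0, 1, 0, 0, 0, 0, 0], [0, 0, 1, 2, 2, 2, 2, 3], 1, false),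
    ([0, 0, 0, 0, 0, 1, 1, 1, 1, 1, 2, 2, 2, 2, 2, 0, 2, 0, 0, 0, 0, 1, 1, 1, 1, 1, 2, 2, 2, 2, 2, 2, 0, 0, 0, 0, 0, 1, 1, 1, 1, 1, 2, 2, 2, 2, 2, 2, 0, 0, 0, 0, 0, 1, 1, 1, 1, 1, 2, 2, 2, 2, 2, 2, 0, 0, 0, 0, 0, 1, 1, 1, 1, 1, 2, 2, 2, 2, 2, 2, 0, 0, 0, 0, 0, 1, 1, 1, 1, 1, 2, 0, 0, 0, 0, 0, 1, 0, 0, 0, 0, 1, 0, 0, 0, 0, 1, 0, 0, 0, 0, 0, 0], [0, 1, 2, 2, 2, 2, 3], 1, false),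
    ([0, 0, 0, 0, 0, 1, 1, 1, 1, 1, 2, 2, 2, 2, 2, 0, 2, 0, 0, 0, 0, 1, 1, 1, 1, 1, 2, 2, 2, 2, 2, 2, 0, 0, 0, 0, 0, 1, 1, 1, 1, 1, 2, 2, 2, 2, 2, 2, 0, 0, 0, 0, 0, 1, 1, 1, 1, 1, 2, 2, 2, 2, 2, 2, 0, 0, 0, 0, 0, 1, 1, 1, 1, 1, 2, 2, 2, 2, 2, 2, 0, 0, 0, 0, 0, 1, 1, 1, 1, 1, 2, 0, 0, 0, 0, 0, 1, 0, 0, 0, 0, 1, 0, 0, 0, 0, 1, 0, 0, 0, 0, 0, 0, 0], [1, 2, 2, 2, 2, 3], 1, false),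
    ([0, 0, 0, 0, 0, 1, 1, 1, 1, 1, 2, 2, 2, 2, 2, 0, 2, 0, 0, 0, 0, 1, 1, 1, 1, 1, 2, 2, 2, 2, 2, 2, 0, 0, 0, 0, 0, 1, 1, 1, 1, 1, 2, 2, 2, 2, 2, 2, 0, 0, 0, 0, 0, 1, 1, 1, 1, 1, 2, 2, 2, 2, 2, 2, 0, 0, 0, 0, 0, 1, 1, 1, 1, 1, 2, 2, 2, 2, 2, 2, 0, 0, 0, 0, 0, 1, 1, 1, 1, 1, 2, 0, 0, 0, 0, 0, 1, 0, 0, 0, 0, 1, 0, 0, 0, 0, 1, 0], [1, 1, 2, 2, 2, 2, 3], 0, false),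
    ([0, 0, 0, 0, 0, 1, 1, 1, 1, 1, 2, 2, 2, 2, 2, 0, 2, 0, 0, 0, 0, 1, 1, 1, 1, 1, 2, 2, 2, 2, 2, 2, 0, 0, 0, 0, 0, 1, 1, 1, 1, 1, 2, 2, 2, 2, 2, 2, 0, 0, 0, 0, 0, 1, 1, 1, 1, 1, 2, 2, 2, 2, 2, 2, 0, 0, 0, 0, 0, 1, 1, 1, 1, 1, 2, 2, 2, 2, 2, 2, 0, 0, 0, 0, 0, 1, 1, 1, 1, 1, 2, 0, 0, 0, 0, 0, 1, 0, 0, 0, 0, 1, 0, 0, 0, 0], [1, 1, 2, 2, 2, 2, 3], 1, false),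
    ([0, 0, 0, 0, 0, 1, 1, 1, 1, 1, 2, 2, 2, 2, 2, 0, 2, 0, 0, 0, 0, 1, 1, 1, 1, 1, 2, 2, 2, 2, 2, 2, 0, 0, 0, 0, 0, 1, 1, 1, 1, 1, 2, 2, 2, 2, 2, 2, 0, 0, 0, 0, 0, 1, 1, 1, 1, 1, 2, 2, 2, 2, 2, 2, 0, 0, 0, 0, 0, 1, 1, 1, 1, 1, 2, 2, 2, 2, 2, 2, 0, 0, 0, 0, 0, 1, 1, 1, 1, 1, 2, 0, 0, 0, 0, 0, 1, 0, 0, 0, 0], [0, 0, 0, 0, 1, 1, 1, 2, 2, 2, 2, 3], 1, false),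
    ([0, 0, 0, 0, 0, 1, 1, 1, 1, 1, 2, 2, 2, 2, 2, 0, 2, 0, 0, 0, 0, 1, 1, 1, 1, 1, 2, 2, 2, 2, 2, 2, 0, 0, 0, 0, 0, 1, 1, 1, 1, 1, 2, 2, 2, 2, 2, 2, 0, 0, 0, 0, 0, 1, 1, 1, 1, 1, 2, 2, 2, 2, 2, 2, 0, 0, 0, 0, 0, 1, 1, 1, 1, 1, 2, 2, 2, 2, 2, 2, 0, 0, 0, 0, 0, 1, 1, 1, 1, 1, 2, 0, 0, 0, 0, 0, 1, 0, 0, 0, 0, 0], [0, 0, 0, 1, 1, 1, 2, 2, 2, 2, 3], 1, false),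
    ([0, 0, 0, 0, 0, 1, 1, 1, 1, 1, 2, 2, 2, 2, 2, 0, 2, 0, 0, 0, 0, 1, 1, 1, 1, 1, 2, 2, 2, 2, 2, 2, 0, 0, 0, 0, 0, 1, 1, 1, 1, 1, 2, 2, 2, 2, 2, 2, 0, 0, 0, 0, 0, 1, 1, 1, 1, 1, 2, 2, 2, 2, 2, 2, 0, 0, 0, 0, 0, 1, 1, 1, 1, 1, 2, 2, 2, 2, 2, 2, 0, 0, 0, 0, 0, 1, 1, 1, 1, 1, 2, 0, 0, 0, 0, 0, 1, 0, 0, 0, 0, 0, 0], [0, 0, 1, 1, 1, 2, 2, 2, 2, 3], 1, false),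
    ([0, 0, 0, 0, 0, 1, 1, 1, 1, 1, 2, 2, 2, 2, 2, 0, 2, 0, 0, 0, 0, 1, 1, 1, 1, 1, 2, 2, 2, 2, 2, 2, 0, 0, 0, 0, 0, 1, 1, 1, 1, 1, 2, 2, 2, 2, 2, 2, 0, 0, 0, 0, 0, 1, 1, 1, 1, 1, 2, 2, 2, 2, 2, 2, 0, 0, 0, 0, 0, 1, 1, 1, 1, 1, 2, 2, 2, 2, 2, 2, 0, 0, 0, 0, 0, 1, 1, 1, 1, 1, 2, 0, 0, 0, 0, 0, 1, 0, 0, 0, 0, 0, 0, 0], [0, 1, 1, 1, 2, 2, 2, 2, 3], 1, false),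
    ([0, 0, 0, 0, 0, 1, 1, 1, 1, 1, 2, 2, 2, 2, 2, 0, 2, 0, 0, 0, 0, 1, 1, 1, 1, 1, 2, 2, 2, 2, 2, 2, 0, 0, 0, 0, 0, 1, 1, 1, 1, 1, 2, 2, 2, 2, 2, 2, 0, 0, 0, 0, 0, 1, 1, 1, 1, 1, 2, 2, 2, 2, 2, 2, 0, 0, 0, 0, 0, 1, 1, 1, 1, 1, 2, 2, 2, 2, 2, 2, 0, 0, 0, 0, 0, 1, 1, 1, 1, 1, 2, 0, 0, 0, 0, 0, 1, 0, 0, 0, 0, 0, 0, 0, 0], [1, 1, 1, 2, 2, 2, 2, 3], 1, false)]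

/-- Part of a closed path for the prime 7. -/
def path7_4_2 : List SchurPath.Step :=
  [([0, 0, 0, 0, 0, 1, 1, 1, 1, 1, 2, 2, 2, 2, 2, 0, 2, 0, 0, 0, 0, 1, 1, 1, 1, 1, 2, 2, 2, 2, 2, 2, 0, 0, 0, 0, 0, 1, 1, 1, 1, 1, 2, 2, 2, 2, 2, 2, 0, 0, 0, 0, 0, 1, 1, 1, 1, 1, 2, 2, 2, 2, 2, 2, 0, 0, 0, 0, 0, 1, 1, 1, 1, 1, 2, 2, 2, 2, 2, 2, 0, 0, 0, 0, 0, 1, 1, 1, 1, 1, 2, 0, 0, 0, 0, 0, 1, 0, 0], [1, 1, 1, 1, 2, 2, 2, 2, 3], 0, false),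
    ([0, 0, 0, 0, 0, 1, 1, 1, 1, 1, 2, 2, 2, 2, 2, 0, 2, 0, 0, 0, 0, 1, 1, 1, 1, 1, 2, 2, 2, 2, 2, 2, 0, 0, 0, 0, 0, 1, 1, 1, 1, 1, 2, 2, 2, 2, 2, 2, 0, 0, 0, 0, 0, 1, 1, 1, 1, 1, 2, 2, 2, 2, 2, 2, 0, 0, 0, 0, 0, 1, 1, 1, 1, 1, 2, 2, 2, 2, 2, 2, 0, 0, 0, 0, 0, 1, 1, 1, 1, 1, 2, 0, 0, 0, 0, 0], [0, 1, 1, 1, 1, 2, 2, 2, 2, 3], 1, false),
    ([0, 0, 0, 0, 0, 1, 1, 1, 1, 1, 2, 2, 2, 2, 2, 0, 2, 0, 0, 0, 0, 1, 1, 1, 1, 1, 2, 2, 2, 2, 2, 2, 0, 0, 0, 0, 0, 1, 1, 1, 1, 1, 2, 2, 2, 2, 2, 2, 0, 0, 0, 0, 0, 1, 1, 1, 1, 1, 2, 2, 2, 2, 2, 2, 0, 0, 0, 0, 0, 1, 1, 1, 1, 1, 2, 2, 2, 2, 2, 2, 0, 0, 0, 0, 0, 1, 1, 1, 1, 1, 2, 0, 0, 0, 0, 0, 0], [1, 1, 1, 1, 2, 2, 2, 2, 3], 1, false),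
    ([0, 0, 0, 0, 0, 1, 1, 1, 1, 1, 2, 2, 2, 2, 2, 0, 2, 0, 0, 0, 0, 1, 1, 1, 1, 1, 2, 2, 2, 2, 2, 2, 0, 0, 0, 0, 0, 1, 1, 1, 1, 1, 2, 2, 2, 2, 2, 2, 0, 0, 0, 0, 0, 1, 1, 1, 1, 1, 2, 2, 2, 2, 2, 2, 0, 0, 0, 0, 0, 1, 1, 1, 1, 1, 2, 2, 2, 2, 2, 2, 0, 0, 0, 0, 0, 1, 1, 1, 1, 1, 2], [1, 1, 1, 1, 1, 2, 2, 2, 2, 3], 0, false),
    ([0, 0, 0, 0, 0, 1, 1, 1, 1, 1, 2, 2, 2, 2, 2, 0, 2, 0, 0, 0, 0, 1, 1, 1, 1, 1, 2, 2, 2, 2, 2, 2, 0, 0, 0, 0, 0, 1, 1, 1, 1, 1, 2, 2, 2, 2, 2, 2, 0, 0, 0, 0, 0, 1, 1, 1, 1, 1, 2, 2, 2, 2, 2, 2, 0, 0, 0, 0, 0, 1, 1, 1, 1, 1, 2, 2, 2, 2, 2, 2, 0, 0, 0, 0, 0, 1, 1, 1, 1, 1], [1, 1, 1, 1, 2, 2, 2, 2, 3], 4, false),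
    ([0, 0, 0, 0, 0, 1, 1, 1, 1, 1, 2, 2, 2, 2, 2, 0, 2, 0, 0, 0, 0, 1, 1, 1, 1, 1, 2, 2, 2, 2, 2, 2, 0, 0, 0, 0, 0, 1, 1, 1, 1, 1, 2, 2, 2, 2, 2, 2, 0, 0, 0, 0, 0, 1, 1, 1, 1, 1, 2, 2, 2, 2, 2, 2, 0, 0, 0, 0, 0, 1, 1, 1, 1, 1, 2, 2, 2, 2, 2, 2, 0, 0, 0, 0, 0, 1, 1, 1, 1, 1, 0, 0, 0, 0, 1], [1, 1, 1, 2, 2, 2, 2, 3], 4, false),
    ([0, 0, 0, 0, 0, 1, 1, 1, 1, 1, 2, 2, 2, 2, 2, 0, 2, 0, 0, 0, 0, 1, 1, 1, 1, 1, 2, 2, 2, 2, 2, 2, 0, 0, 0, 0, 0, 1, 1, 1, 1, 1, 2, 2, 2, 2, 2, 2, 0, 0, 0, 0, 0, 1, 1, 1, 1, 1, 2, 2, 2, 2, 2, 2, 0, 0, 0, 0, 0, 1, 1, 1, 1, 1, 2, 2, 2, 2, 2, 2, 0, 0, 0, 0, 0, 1, 1, 1, 1, 1, 0, 0, 0, 0, 1, 0, 0, 0, 0, 1], [1, 1, 2, 2, 2, 2, 3], 4, false),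
    ([0, 0, 0, 0, 0, 1, 1, 1, 1, 1, 2, 2, 2, 2, 2, 0, 2, 0, 0, 0, 0, 1, 1, 1, 1, 1, 2, 2, 2, 2, 2, 2, 0, 0, 0, 0, 0, 1, 1, 1, 1, 1, 2, 2, 2, 2, 2, 2, 0, 0, 0, 0, 0, 1, 1, 1, 1, 1, 2, 2, 2, 2, 2, 2, 0, 0, 0, 0, 0, 1, 1, 1, 1, 1, 2, 2, 2, 2, 2, 2, 0, 0, 0, 0, 0, 1, 1, 1, 1, 1, 0, 0, 0, 0, 1, 0, 0, 0, 0, 1, 0, 0, 0, 0, 1], [1, 2, 2, 2, 2, 3], 4, false),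
    ([0, 0, 0, 0, 0, 1, 1, 1, 1, 1, 2, 2, 2, 2, 2, 0, 2, 0, 0, 0, 0, 1, 1, 1, 1, 1, 2, 2, 2, 2, 2, 2, 0, 0, 0, 0, 0, 1, 1, 1, 1, 1, 2, 2, 2, 2, 2, 2, 0, 0, 0, 0, 0, 1, 1, 1, 1, 1, 2, 2, 2, 2, 2, 2, 0, 0, 0, 0, 0, 1, 1, 1, 1, 1, 2, 2, 2, 2, 2, 2, 0, 0, 0, 0, 0, 1, 1, 1, 1, 1, 0, 0, 0, 0, 1, 0, 0, 0, 0, 1, 0, 0, 0, 0, 1, 0, 0, 0, 0, 1], [2, 2, 2, 2, 3], 4, false),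
    ([0, 0, 0, 0, 0, 1, 1, 1, 1, 1, 2, 2, 2, 2, 2, 0, 2, 0, 0, 0, 0, 1, 1, 1, 1, 1, 2, 2, 2, 2, 2, 2, 0, 0, 0, 0, 0, 1, 1, 1, 1, 1, 2, 2, 2, 2, 2, 2, 0, 0, 0, 0, 0, 1, 1, 1, 1, 1, 2, 2, 2, 2, 2, 2, 0, 0, 0, 0, 0, 1, 1, 1, 1, 1, 2, 2, 2, 2, 2, 2, 0, 0, 0, 0, 0, 1, 1, 1, 1, 1, 0, 0, 0, 0, 1, 0, 0, 0, 0, 1, 0, 0, 0, 0, 1, 0, 0, 0, 0], [0, 0, 0, 1, 2, 2, 2, 2, 2, 3], 1, false),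
    ([0, 0, 0, 0, 0, 1, 1, 1, 1, 1, 2, 2, 2, 2, 2, 0, 2, 0, 0, 0, 0, 1, 1, 1, 1, 1, 2, 2, 2, 2, 2, 2, 0, 0, 0, 0, 0, 1, 1, 1, 1, 1, 2, 2, 2, 2, 2, 2, 0, 0, 0, 0, 0, 1, 1, 1, 1, 1, 2, 2, 2, 2, 2, 2, 0, 0, 0, 0, 0, 1, 1, 1, 1, 1, 2, 2, 2, 2, 2, 2, 0, 0, 0, 0, 0, 1, 1, 1, 1, 1, 0, 0, 0, 0, 1, 0, 0, 0, 0, 1, 0, 0, 0, 0, 1, 0, 0, 0, 0, 0], [0, 0, 1, 2, 2, 2, 2, 2, 3], 1, false),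
    ([0, 0, 0, 0, 0, 1, 1, 1, 1, 1, 2, 2, 2, 2, 2, 0, 2, 0, 0, 0, 0, 1, 1, 1, 1, 1, 2, 2, 2, 2, 2, 2, 0, 0, 0, 0, 0, 1, 1, 1, 1, 1, 2, 2, 2, 2, 2, 2, 0, 0, 0, 0, 0, 1, 1, 1, 1, 1, 2, 2, 2, 2, 2, 2, 0, 0, 0, 0, 0, 1, 1, 1, 1, 1, 2, 2, 2, 2, 2, 2, 0, 0, 0, 0, 0, 1, 1, 1, 1, 1, 0, 0, 0, 0, 1, 0, 0, 0, 0, 1, 0, 0, 0, 0, 1, 0, 0, 0, 0, 0, 0], [0, 1, 2, 2, 2, 2, 2, 3], 1, false),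
    ([0, 0, 0, 0, 0, 1, 1, 1, 1, 1, 2, 2, 2, 2, 2, 0, 2, 0, 0, 0, 0, 1, 1, 1, 1, 1, 2, 2, 2, 2, 2, 2, 0, 0, 0, 0, 0, 1, 1, 1, 1, 1, 2, 2, 2, 2, 2, 2, 0, 0, 0, 0, 0, 1, 1, 1, 1, 1, 2, 2, 2, 2, 2, 2, 0, 0, 0, 0, 0, 1, 1, 1, 1, 1, 2, 2, 2, 2, 2, 2, 0, 0, 0, 0, 0, 1, 1, 1, 1, 1, 0, 0, 0, 0, 1, 0, 0, 0, 0, 1, 0, 0, 0, 0, 1, 0, 0, 0, 0, 0, 0, 0], [1, 2, 2, 2, 2, 2, 3], 1, false),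
    ([0, 0, 0, 0, 0, 1, 1, 1, 1, 1, 2, 2, 2, 2, 2, 0, 2, 0, 0, 0, 0, 1, 1, 1, 1, 1, 2, 2, 2, 2, 2, 2, 0, 0, 0, 0, 0, 1, 1, 1, 1, 1, 2, 2, 2, 2, 2, 2, 0, 0, 0, 0, 0, 1, 1, 1, 1, 1, 2, 2, 2, 2, 2, 2, 0, 0, 0, 0, 0, 1, 1, 1, 1, 1, 2, 2, 2, 2, 2, 2, 0, 0, 0, 0, 0, 1, 1, 1, 1, 1, 0, 0, 0, 0, 1, 0, 0, 0, 0, 1, 0, 0, 0, 0, 1, 0], [1, 1, 2, 2, 2, 2, 2, 3], 0, false),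
    ([0, 0, 0, 0, 0, 1, 1, 1, 1, 1, 2, 2, 2, 2, 2, 0, 2, 0, 0, 0, 0, 1, 1, 1, 1, 1, 2, 2, 2, 2, 2, 2, 0, 0, 0, 0, 0, 1, 1, 1, 1, 1, 2, 2, 2, 2, 2, 2, 0, 0, 0, 0, 0, 1, 1, 1, 1, 1, 2, 2, 2, 2, 2, 2, 0, 0, 0, 0, 0, 1, 1, 1, 1, 1, 2, 2, 2, 2, 2, 2, 0, 0, 0, 0, 0, 1, 1, 1, 1, 1, 0, 0, 0, 0, 1, 0, 0, 0, 0, 1, 0, 0, 0, 0], [1, 1, 2, 2, 2, 2, 2, 3], 1, false),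
    ([0, 0, 0, 0, 0, 1, 1, 1, 1, 1, 2, 2, 2, 2, 2, 0, 2, 0, 0, 0, 0, 1, 1, 1, 1, 1, 2, 2, 2, 2, 2, 2, 0, 0, 0, 0, 0, 1, 1, 1, 1, 1, 2, 2, 2, 2, 2, 2, 0, 0, 0, 0, 0, 1, 1, 1, 1, 1, 2, 2, 2, 2, 2, 2, 0, 0, 0, 0, 0, 1, 1, 1, 1, 1, 2, 2, 2, 2, 2, 2, 0, 0, 0, 0, 0, 1, 1, 1, 1, 1, 0, 0, 0, 0, 1, 0, 0, 0, 0], [0, 0, 0, 0, 1, 1, 1, 2, 2, 2, 2, 2, 3], 1, false),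
    ([0, 0, 0, 0, 0, 1, 1, 1, 1, 1, 2, 2, 2, 2, 2, 0, 2, 0, 0, 0, 0, 1, 1, 1, 1, 1, 2, 2, 2, 2, 2, 2, 0, 0, 0, 0, 0, 1, 1, 1, 1, 1, 2, 2, 2, 2, 2, 2, 0, 0, 0, 0, 0, 1, 1, 1, 1, 1, 2, 2, 2, 2, 2, 2, 0, 0, 0, 0, 0, 1, 1, 1, 1, 1, 2, 2, 2, 2, 2, 2, 0, 0, 0, 0, 0, 1, 1, 1, 1, 1, 0, 0, 0, 0, 1, 0, 0, 0, 0, 0], [0, 0, 0, 1, 1, 1, 2, 2, 2, 2, 2, 3], 1, false),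
    ([0, 0, 0, 0, 0, 1, 1, 1, 1, 1, 2, 2, 2, 2, 2, 0, 2, 0, 0, 0, 0, 1, 1, 1, 1, 1, 2, 2, 2, 2, 2, 2, 0, 0, 0, 0, 0, 1, 1, 1, 1, 1, 2, 2, 2, 2, 2, 2, 0, 0, 0, 0, 0, 1, 1, 1, 1, 1, 2, 2, 2, 2, 2, 2, 0, 0, 0, 0, 0, 1, 1, 1, 1, 1, 2, 2, 2, 2, 2, 2, 0, 0, 0, 0, 0, 1, 1, 1, 1, 1, 0, 0, 0, 0, 1, 0, 0, 0, 0, 0, 0], [0, 0, 1, 1, 1, 2, 2, 2, 2, 2, 3], 1, false),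
    ([0, 0, 0, 0, 0, 1, 1, 1, 1, 1, 2, 2, 2, 2, 2, 0, 2, 0, 0, 0, 0, 1, 1, 1, 1, 1, 2, 2, 2, 2, 2, 2, 0, 0, 0, 0, 0, 1, 1, 1, 1, 1, 2, 2, 2, 2, 2, 2, 0, 0, 0, 0, 0, 1, 1, 1, 1, 1, 2, 2, 2, 2, 2, 2, 0, 0, 0, 0, 0, 1, 1, 1, 1, 1, 2, 2, 2, 2, 2, 2, 0, 0, 0, 0, 0, 1, 1, 1, 1, 1, 0, 0, 0, 0, 1, 0, 0, 0, 0, 0, 0, 0], [0, 1, 1, 1, 2, 2, 2, 2, 2, 3], 1, false),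
    ([0, 0, 0, 0, 0, 1, 1, 1, 1, 1, 2, 2, 2, 2, 2, 0, 2, 0, 0, 0, 0, 1, 1, 1, 1, 1, 2, 2, 2, 2, 2, 2, 0, 0, 0, 0, 0, 1, 1, 1, 1, 1, 2, 2, 2, 2, 2, 2, 0, 0, 0, 0, 0, 1, 1, 1, 1, 1, 2, 2, 2, 2, 2, 2, 0, 0, 0, 0, 0, 1, 1, 1, 1, 1, 2, 2, 2, 2, 2, 2, 0, 0, 0, 0, 0, 1, 1, 1, 1, 1, 0, 0, 0, 0, 1, 0, 0, 0, 0, 0, 0, 0, 0], [1, 1, 1, 2, 2, 2, 2, 2, 3], 1, false),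
    ([0, 0, 0, 0, 0, 1, 1, 1, 1, 1, 2, 2, 2, 2, 2, 0, 2, 0, 0, 0, 0, 1, 1, 1, 1, 1, 2, 2, 2, 2, 2, 2, 0, 0, 0, 0, 0, 1, 1, 1, 1, 1, 2, 2, 2, 2, 2, 2, 0, 0, 0, 0, 0, 1, 1, 1, 1, 1, 2, 2, 2, 2, 2, 2, 0, 0, 0, 0, 0, 1, 1, 1, 1, 1, 2, 2, 2, 2, 2, 2, 0, 0, 0, 0, 0, 1, 1, 1, 1, 1, 0, 0, 0, 0, 1, 0, 0], [1, 1, 1, 1, 2, 2, 2, 2, 2, 3], 0, false),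
    ([0, 0, 0, 0, 0, 1, 1, 1, 1, 1, 2, 2, 2, 2, 2, 0, 2, 0, 0, 0, 0, 1, 1, 1, 1, 1, 2, 2, 2, 2, 2, 2, 0, 0, 0, 0, 0, 1, 1, 1, 1, 1, 2, 2, 2, 2, 2, 2, 0, 0, 0, 0, 0, 1, 1, 1, 1, 1, 2, 2, 2, 2, 2, 2, 0, 0, 0, 0, 0, 1, 1, 1, 1, 1, 2, 2, 2, 2, 2, 2, 0, 0, 0, 0, 0, 1, 1, 1, 1, 1, 0, 0, 0, 0], [0, 1, 1, 1, 1, 2, 2, 2, 2, 2, 3], 1, false),
    ([0, 0, 0, 0, 0, 1, 1, 1, 1, 1, 2, 2, 2, 2, 2, 0, 2, 0, 0, 0, 0, 1, 1, 1, 1, 1, 2, 2, 2, 2, 2, 2, 0, 0, 0, 0, 0, 1, 1, 1, 1, 1, 2, 2, 2, 2, 2, 2, 0, 0, 0, 0, 0, 1, 1, 1, 1, 1, 2, 2, 2, 2, 2, 2, 0, 0, 0, 0, 0, 1, 1, 1, 1, 1, 2, 2, 2, 2, 2, 2, 0, 0, 0, 0, 0, 1, 1, 1, 1, 1, 0, 0, 0, 0, 0], [1, 1, 1, 1, 2, 2, 2, 2, 2, 3], 1, false),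
    ([0, 0, 0, 0, 0, 1, 1, 1, 1, 1, 2, 2, 2, 2, 2, 0, 2, 0, 0, 0, 0, 1, 1, 1, 1, 1, 2, 2, 2, 2, 2, 2, 0, 0, 0, 0, 0, 1, 1, 1, 1, 1, 2, 2, 2, 2, 2, 2, 0, 0, 0, 0, 0, 1, 1, 1, 1, 1, 2, 2, 2, 2, 2, 2, 0, 0, 0, 0, 0, 1, 1, 1, 1, 1, 2, 2, 2, 2, 2, 2, 0, 0, 0, 0, 0, 1, 1, 1, 1], [0, 0, 0, 0, 0, 1, 1, 1, 1, 1, 2, 2, 2, 2, 2, 3], 1, false),
    ([0, 0, 0, 0, 0, 1, 1, 1, 1, 1, 2, 2, 2, 2, 2, 0, 2, 0, 0, 0, 0, 1, 1, 1, 1, 1, 2, 2, 2, 2, 2, 2, 0, 0, 0, 0, 0, 1, 1, 1, 1, 1, 2, 2, 2, 2, 2, 2, 0, 0, 0, 0, 0, 1, 1, 1, 1, 1, 2, 2, 2, 2, 2, 2, 0, 0, 0, 0, 0, 1, 1, 1, 1, 1, 2, 2, 2, 2, 2, 2, 0, 0, 0, 0, 0, 1, 1, 1, 1, 0], [0, 0, 0, 0, 1, 1, 1, 1, 1, 2, 2, 2, 2, 2, 3], 1, false),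
    ([0, 0, 0, 0, 0, 1, 1, 1, 1, 1, 2, 2, 2, 2, 2, 0, 2, 0, 0, 0, 0, 1, 1, 1, 1, 1, 2, 2, 2, 2, 2, 2, 0, 0, 0, 0, 0, 1, 1, 1, 1, 1, 2, 2, 2, 2, 2, 2, 0, 0, 0, 0, 0, 1, 1, 1, 1, 1, 2, 2, 2, 2, 2, 2, 0, 0, 0, 0, 0, 1, 1, 1, 1, 1, 2, 2, 2, 2, 2, 2, 0, 0, 0, 0, 0, 1, 1, 1, 1, 0, 0], [0, 0, 0, 1, 1, 1, 1, 1, 2, 2, 2, 2, 2, 3], 1, false),
    ([0, 0, 0, 0, 0, 1, 1, 1, 1, 1, 2, 2, 2, 2, 2, 0, 2, 0, 0, 0, 0, 1, 1, 1, 1, 1, 2, 2, 2, 2, 2, 2, 0, 0, 0, 0, 0, 1, 1, 1, 1, 1, 2, 2, 2, 2, 2, 2, 0, 0, 0, 0, 0, 1, 1, 1, 1, 1, 2, 2, 2, 2, 2, 2, 0, 0, 0, 0, 0, 1, 1, 1, 1, 1, 2, 2, 2, 2, 2, 2, 0, 0, 0, 0, 0, 1, 1, 1, 1, 0, 0, 0], [0, 0, 1, 1, 1, 1, 1, 2, 2, 2, 2, 2, 3], 1, false),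
    ([0, 0, 0, 0, 0, 1, 1, 1, 1, 1, 2, 2, 2, 2, 2, 0, 2, 0, 0, 0, 0, 1, 1, 1, 1, 1, 2, 2, 2, 2, 2, 2, 0, 0, 0, 0, 0, 1, 1, 1, 1, 1, 2, 2, 2, 2, 2, 2, 0, 0, 0, 0, 0, 1, 1, 1, 1, 1, 2, 2, 2, 2, 2, 2, 0, 0, 0, 0, 0, 1, 1, 1, 1, 1, 2, 2, 2, 2, 2, 2, 0, 0, 0, 0, 0, 1, 1, 1, 1, 0, 0, 0, 0], [0, 1, 1, 1, 1, 1, 2, 2, 2, 2, 2, 3], 1, false),
    ([0, 0, 0, 0, 0, 1, 1, 1, 1, 1, 2, 2, 2, 2, 2, 0, 2, 0, 0, 0, 0, 1, 1, 1, 1, 1, 2, 2, 2, 2, 2, 2, 0, 0, 0, 0, 0, 1, 1, 1, 1, 1, 2, 2, 2, 2, 2, 2, 0, 0, 0, 0, 0, 1, 1, 1, 1, 1, 2, 2, 2, 2, 2, 2, 0, 0, 0, 0, 0, 1, 1, 1, 1, 1, 2, 2, 2, 2, 2, 2, 0, 0, 0, 0, 0, 1, 1, 1, 1, 0, 0, 0, 0, 0], [1, 1, 1, 1, 1, 2, 2, 2, 2, 2, 3], 1, false),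
    ([0, 0, 0, 0, 0, 1, 1, 1, 1, 1, 2, 2, 2, 2, 2, 0, 2, 0, 0, 0, 0, 1, 1, 1, 1, 1, 2, 2, 2, 2, 2, 2, 0, 0, 0, 0, 0, 1, 1, 1, 1, 1, 2, 2, 2, 2, 2, 2, 0, 0, 0, 0, 0, 1, 1, 1, 1, 1, 2, 2, 2, 2, 2, 2, 0, 0, 0, 0, 0, 1, 1, 1, 1, 1, 2, 2, 2, 2, 2, 2, 0, 0, 0, 0, 0, 1, 1, 1], [0, 0, 0, 0, 0, 1, 1, 1, 1, 1, 1, 2, 2, 2, 2, 2, 3], 1, false),
    ([0, 0, 0, 0, 0, 1, 1, 1, 1, 1, 2, 2, 2, 2, 2, 0, 2, 0, 0, 0, 0, 1, 1, 1, 1, 1, 2, 2, 2, 2, 2, 2, 0, 0, 0, 0, 0, 1, 1, 1, 1, 1, 2, 2, 2, 2, 2, 2, 0, 0, 0, 0, 0, 1, 1, 1, 1, 1, 2, 2, 2, 2, 2, 2, 0, 0, 0, 0, 0, 1, 1, 1, 1, 1, 2, 2, 2, 2, 2, 2, 0, 0, 0, 0, 0, 1, 1, 1, 0], [0, 0, 0, 0, 1, 1, 1, 1, 1, 1, 2, 2, 2, 2, 2, 3], 1, false),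
    ([0, 0, 0, 0, 0, 1, 1, 1, 1, 1, 2, 2, 2, 2, 2, 0, 2, 0, 0, 0, 0, 1, 1, 1, 1, 1, 2, 2, 2, 2, 2, 2, 0, 0, 0, 0, 0, 1, 1, 1, 1, 1, 2, 2, 2, 2, 2, 2, 0, 0, 0, 0, 0, 1, 1, 1, 1, 1, 2, 2, 2, 2, 2, 2, 0, 0, 0, 0, 0, 1, 1, 1, 1, 1, 2, 2, 2, 2, 2, 2, 0, 0, 0, 0, 0, 1, 1, 1, 0, 0], [0, 0, 0, 1, 1, 1, 1, 1, 1, 2, 2, 2, 2, 2, 3], 1, false),
    ([0, 0, 0, 0, 0, 1, 1, 1, 1, 1, 2, 2, 2, 2, 2, 0, 2, 0, 0, 0, 0, 1, 1, 1, 1, 1, 2, 2, 2, 2, 2, 2, 0, 0, 0, 0, 0, 1, 1, 1, 1, 1, 2, 2, 2, 2, 2, 2, 0, 0, 0, 0, 0, 1, 1, 1, 1, 1, 2, 2, 2, 2, 2, 2, 0, 0, 0, 0, 0, 1, 1, 1, 1, 1, 2, 2, 2, 2, 2, 2, 0, 0, 0, 0, 0, 1, 1, 1, 0, 0, 0], [0, 0, 1, 1, 1, 1, 1, 1, 2, 2, 2, 2, 2, 3], 1, false),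
    ([0, 0, 0, 0, 0, 1, 1, 1, 1, 1, 2, 2, 2, 2, 2, 0, 2, 0, 0, 0, 0, 1, 1, 1, 1, 1, 2, 2, 2, 2, 2, 2, 0, 0, 0, 0, 0, 1, 1, 1, 1, 1, 2, 2, 2, 2, 2, 2, 0, 0, 0, 0, 0, 1, 1, 1, 1, 1, 2, 2, 2, 2, 2, 2, 0, 0, 0, 0, 0, 1, 1, 1, 1, 1, 2, 2, 2, 2, 2, 2, 0, 0, 0, 0, 0, 1, 1, 1, 0, 0, 0, 0], [0, 1, 1, 1, 1, 1, 1, 2, 2, 2, 2, 2, 3], 1, false),
    ([0, 0, 0, 0, 0, 1, 1, 1, 1, 1, 2, 2, 2, 2, 2, 0, 2, 0, 0, 0, 0, 1, 1, 1, 1, 1, 2, 2, 2, 2, 2, 2, 0, 0, 0, 0, 0, 1, 1, 1, 1, 1, 2, 2, 2, 2, 2, 2, 0, 0, 0, 0, 0, 1, 1, 1, 1, 1, 2, 2, 2, 2, 2, 2, 0, 0, 0, 0, 0, 1, 1, 1, 1, 1, 2, 2, 2, 2, 2, 2, 0, 0, 0, 0, 0, 1, 1, 1, 0, 0, 0, 0, 0], [1, 1, 1, 1, 1, 1, 2, 2, 2, 2, 2, 3], 1, false),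
    ([0, 0, 0, 0, 0, 1, 1, 1, 1, 1, 2, 2, 2, 2, 2, 0, 2, 0, 0, 0, 0, 1, 1, 1, 1, 1, 2, 2, 2, 2, 2, 2, 0, 0, 0, 0, 0, 1, 1, 1, 1, 1, 2, 2, 2, 2, 2, 2, 0, 0, 0, 0, 0, 1, 1, 1, 1, 1, 2, 2, 2, 2, 2, 2, 0, 0, 0, 0, 0, 1, 1, 1, 1, 1, 2, 2, 2, 2, 2, 2, 0, 0, 0, 0, 0, 1, 1, 1, 0, 0, 0, 0, 0, 0], [2, 2, 2, 2, 2, 3], 2, false),
    ([0, 0, 0, 0, 0, 1, 1, 1, 1, 1, 2, 2, 2, 2, 2, 0, 2, 0, 0, 0, 0, 1, 1, 1, 1, 1, 2, 2, 2, 2, 2, 2, 0, 0, 0, 0, 0, 1, 1, 1, 1, 1, 2, 2, 2, 2, 2, 2, 0, 0, 0, 0, 0, 1, 1, 1, 1, 1, 2, 2, 2, 2, 2, 2, 0, 0, 0, 0, 0, 1, 1, 1, 1, 1, 2, 2, 2, 2, 2, 2, 0, 0, 0, 0, 0, 1, 1], [0, 0, 0, 0, 0, 2, 2, 2, 2, 2, 3], 1, false),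
    ([0, 0, 0, 0, 0, 1, 1, 1, 1, 1, 2, 2, 2, 2, 2, 0, 2, 0, 0, 0, 0, 1, 1, 1, 1, 1, 2, 2, 2, 2, 2, 2, 0, 0, 0, 0, 0, 1, 1, 1, 1, 1, 2, 2, 2, 2, 2, 2, 0, 0, 0, 0, 0, 1, 1, 1, 1, 1, 2, 2, 2, 2, 2, 2, 0, 0, 0, 0, 0, 1, 1, 1, 1, 1, 2, 2, 2, 2, 2, 2, 0, 0, 0, 0, 0, 1, 1, 0], [0, 0, 0, 0, 2, 2, 2, 2, 2, 3], 1, false),
    ([0, 0, 0, 0, 0, 1, 1, 1, 1, 1, 2, 2, 2, 2, 2, 0, 2, 0, 0, 0, 0, 1, 1, 1, 1, 1, 2, 2, 2, 2, 2, 2, 0, 0, 0, 0, 0, 1, 1, 1, 1, 1, 2, 2, 2, 2, 2, 2, 0, 0, 0, 0, 0, 1, 1, 1, 1, 1, 2, 2, 2, 2, 2, 2, 0, 0, 0, 0, 0, 1, 1, 1, 1, 1, 2, 2, 2, 2, 2, 2, 0, 0, 0, 0, 0, 1, 1, 0, 0], [0, 0, 0, 2, 2, 2, 2, 2, 3], 1, false),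
    ([0, 0, 0, 0, 0, 1, 1, 1, 1, 1, 2, 2, 2, 2, 2, 0, 2, 0, 0, 0, 0, 1, 1, 1, 1, 1, 2, 2, 2, 2, 2, 2, 0, 0, 0, 0, 0, 1, 1, 1, 1, 1, 2, 2, 2, 2, 2, 2, 0, 0, 0, 0, 0, 1, 1, 1, 1, 1, 2, 2, 2, 2, 2, 2, 0, 0, 0, 0, 0, 1, 1, 1, 1, 1, 2, 2, 2, 2, 2, 2, 0, 0, 0, 0, 0, 1, 1, 0, 0, 0], [0, 0, 2, 2, 2, 2, 2, 3], 1, false),
    ([0, 0, 0, 0, 0, 1, 1, 1, 1, 1, 2, 2, 2, 2, 2, 0, 2, 0, 0, 0, 0, 1, 1, 1, 1, 1, 2, 2, 2, 2, 2, 2, 0, 0, 0, 0, 0, 1, 1, 1, 1, 1, 2, 2, 2, 2, 2, 2, 0, 0, 0, 0, 0, 1, 1, 1, 1, 1, 2, 2, 2, 2, 2, 2, 0, 0, 0, 0, 0, 1, 1, 1, 1, 1, 2, 2, 2, 2, 2, 2, 0, 0, 0, 0, 0, 1, 1, 0, 0, 0, 0], [0, 2, 2, 2, 2, 2, 3], 1, false),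
    ([0, 0, 0, 0, 0, 1, 1, 1, 1, 1, 2, 2, 2, 2, 2, 0, 2, 0, 0, 0, 0, 1, 1, 1, 1, 1, 2, 2, 2, 2, 2, 2, 0, 0, 0, 0, 0, 1, 1, 1, 1, 1, 2, 2, 2, 2, 2, 2, 0, 0, 0, 0, 0, 1, 1, 1, 1, 1, 2, 2, 2, 2, 2, 2, 0, 0, 0, 0, 0, 1, 1, 1, 1, 1, 2, 2, 2, 2, 2, 2, 0, 0, 0, 0, 0, 1, 1, 0, 0, 0, 0, 0], [2, 2, 2, 2, 2, 3], 1, false),
    ([0, 0, 0, 0, 0, 1, 1, 1, 1, 1, 2, 2, 2, 2, 2, 0, 2, 0, 0, 0, 0, 1, 1, 1, 1, 1, 2, 2, 2, 2, 2, 2, 0, 0, 0, 0, 0, 1, 1, 1, 1, 1, 2, 2, 2, 2, 2, 2, 0, 0, 0, 0, 0, 1, 1, 1, 1, 1, 2, 2, 2, 2, 2, 2, 0, 0, 0, 0, 0, 1, 1, 1, 1, 1, 2, 2, 2, 2, 2, 2, 0, 0, 0, 0, 0, 1], [0, 0, 0, 0, 0, 1, 2, 2, 2, 2, 2, 3], 1, false),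
    ([0, 0, 0, 0, 0, 1, 1, 1, 1, 1, 2, 2, 2, 2, 2, 0, 2, 0, 0, 0, 0, 1, 1, 1, 1, 1, 2, 2, 2, 2, 2, 2, 0, 0, 0, 0, 0, 1, 1, 1, 1, 1, 2, 2, 2, 2, 2, 2, 0, 0, 0, 0, 0, 1, 1, 1, 1, 1, 2, 2, 2, 2, 2, 2, 0, 0, 0, 0, 0, 1, 1, 1, 1, 1, 2, 2, 2, 2, 2, 2, 0, 0, 0, 0, 0, 1, 0], [0, 0, 0, 0, 1, 2, 2, 2, 2, 2, 3], 1, false),
    ([0, 0, 0, 0, 0, 1, 1, 1, 1, 1, 2, 2, 2, 2, 2, 0, 2, 0, 0, 0, 0, 1, 1, 1, 1, 1, 2, 2, 2, 2, 2, 2, 0, 0, 0, 0, 0, 1, 1, 1, 1, 1, 2, 2, 2, 2, 2, 2, 0, 0, 0, 0, 0, 1, 1, 1, 1, 1, 2, 2, 2, 2, 2, 2, 0, 0, 0, 0, 0, 1, 1, 1, 1, 1, 2, 2, 2, 2, 2, 2, 0, 0, 0, 0, 0, 1, 0, 0], [0, 0, 0, 1, 2, 2, 2, 2, 2, 3], 1, false),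
    ([0, 0, 0, 0, 0, 1, 1, 1, 1, 1, 2, 2, 2, 2, 2, 0, 2, 0, 0, 0, 0, 1, 1, 1, 1, 1, 2, 2, 2, 2, 2, 2, 0, 0, 0, 0, 0, 1, 1, 1, 1, 1, 2, 2, 2, 2, 2, 2, 0, 0, 0, 0, 0, 1, 1, 1, 1, 1, 2, 2, 2, 2, 2, 2, 0, 0, 0, 0, 0, 1, 1, 1, 1, 1, 2, 2, 2, 2, 2, 2, 0, 0, 0, 0, 0, 1, 0, 0, 0], [0, 0, 1, 2, 2, 2, 2, 2, 3], 1, false),
    ([0, 0, 0, 0, 0, 1, 1, 1, 1, 1, 2, 2, 2, 2, 2, 0, 2, 0, 0, 0, 0, 1, 1, 1, 1, 1, 2, 2, 2, 2, 2, 2, 0, 0, 0, 0, 0, 1, 1, 1, 1, 1, 2, 2, 2, 2, 2, 2, 0, 0, 0, 0, 0, 1, 1, 1, 1, 1, 2, 2, 2, 2, 2, 2, 0, 0, 0, 0, 0, 1, 1, 1, 1, 1, 2, 2, 2, 2, 2, 2, 0, 0, 0, 0, 0, 1, 0, 0, 0, 0], [0, 1, 2, 2, 2, 2, 2, 3], 1, false),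
    ([0, 0, 0, 0, 0, 1, 1, 1, 1, 1, 2, 2, 2, 2, 2, 0, 2, 0, 0, 0, 0, 1, 1, 1, 1, 1, 2, 2, 2, 2, 2, 2, 0, 0, 0, 0, 0, 1, 1, 1, 1, 1, 2, 2, 2, 2, 2, 2, 0, 0, 0, 0, 0, 1, 1, 1, 1, 1, 2, 2, 2, 2, 2, 2, 0, 0, 0, 0, 0, 1, 1, 1, 1, 1, 2, 2, 2, 2, 2, 2, 0, 0, 0, 0, 0, 1, 0, 0, 0, 0, 0], [1, 2, 2, 2, 2, 2, 3], 1, false),
    ([0, 0, 0, 0, 0, 1, 1, 1, 1, 1, 2, 2, 2, 2, 2, 0, 2, 0, 0, 0, 0, 1, 1, 1, 1, 1, 2, 2, 2, 2, 2, 2, 0, 0, 0, 0, 0, 1, 1, 1, 1, 1, 2, 2, 2, 2, 2, 2, 0, 0, 0, 0, 0, 1, 1, 1, 1, 1, 2, 2, 2, 2, 2, 2, 0, 0, 0, 0, 0, 1, 1, 1, 1, 1, 2, 2, 2, 2, 2, 2, 0, 0, 0, 0, 0], [0, 0, 0, 0, 0, 1, 1, 2, 2, 2, 2, 2, 3], 1, false),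
    ([0, 0, 0, 0, 0, 1, 1, 1, 1, 1, 2, 2, 2, 2, 2, 0, 2, 0, 0, 0, 0, 1, 1, 1, 1, 1, 2, 2, 2, 2, 2, 2, 0, 0, 0, 0, 0, 1, 1, 1, 1, 1, 2, 2, 2, 2, 2, 2, 0, 0, 0, 0, 0, 1, 1, 1, 1, 1, 2, 2, 2, 2, 2, 2, 0, 0, 0, 0, 0, 1, 1, 1, 1, 1, 2, 2, 2, 2, 2, 2, 0, 0, 0, 0, 0, 0], [0, 0, 0, 0, 1, 1, 2, 2, 2, 2, 2, 3], 1, false),
    ([0, 0, 0, 0, 0, 1, 1, 1, 1, 1, 2, 2, 2, 2, 2, 0, 2, 0, 0, 0, 0, 1, 1, 1, 1, 1, 2, 2, 2, 2, 2, 2, 0, 0, 0, 0, 0, 1, 1, 1, 1, 1, 2, 2, 2, 2, 2, 2, 0, 0, 0, 0, 0, 1, 1, 1, 1, 1, 2, 2, 2, 2, 2, 2, 0, 0, 0, 0, 0, 1, 1, 1, 1, 1, 2, 2, 2, 2, 2, 2, 0, 0, 0, 0, 0, 0, 0], [0, 0, 0, 1, 1, 2, 2, 2, 2, 2, 3], 1, false),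
    ([0, 0, 0, 0, 0, 1, 1, 1, 1, 1, 2, 2, 2, 2, 2, 0, 2, 0, 0, 0, 0, 1, 1, 1, 1, 1, 2, 2, 2, 2, 2, 2, 0, 0, 0, 0, 0, 1, 1, 1, 1, 1, 2, 2, 2, 2, 2, 2, 0, 0, 0, 0, 0, 1, 1, 1, 1, 1, 2, 2, 2, 2, 2, 2, 0, 0, 0, 0, 0, 1, 1, 1, 1, 1, 2, 2, 2, 2, 2, 2, 0, 0, 0, 0, 0, 0, 0, 0], [0, 0, 1, 1, 2, 2, 2, 2, 2, 3], 1, false),
    ([0, 0, 0, 0, 0, 1, 1, 1, 1, 1, 2, 2, 2, 2, 2, 0, 2, 0, 0, 0, 0, 1, 1, 1, 1, 1, 2, 2, 2, 2, 2, 2, 0, 0, 0, 0, 0, 1, 1, 1, 1, 1, 2, 2, 2, 2, 2, 2, 0, 0, 0, 0, 0, 1, 1, 1, 1, 1, 2, 2, 2, 2, 2, 2, 0, 0, 0, 0, 0, 1, 1, 1, 1, 1, 2, 2, 2, 2, 2, 2, 0, 0, 0, 0, 0, 0, 0, 0, 0], [0, 1, 1, 2, 2, 2, 2, 2, 3], 1, false),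
    ([0, 0, 0, 0, 0, 1, 1, 1, 1, 1, 2, 2, 2, 2, 2, 0, 2, 0, 0, 0, 0, 1, 1, 1, 1, 1, 2, 2, 2, 2, 2, 2, 0, 0, 0, 0, 0, 1, 1, 1, 1, 1, 2, 2, 2, 2, 2, 2, 0, 0, 0, 0, 0, 1, 1, 1, 1, 1, 2, 2, 2, 2, 2, 2, 0, 0, 0, 0, 0, 1, 1, 1, 1, 1, 2, 2, 2, 2, 2, 2, 0, 0, 0, 0, 0, 0, 0, 0, 0, 0], [1, 1, 2, 2, 2, 2, 2, 3], 1, false),
    ([0, 0, 0, 0, 0, 1, 1, 1, 1, 1, 2, 2, 2, 2, 2, 0, 2, 0, 0, 0, 0, 1, 1, 1, 1, 1, 2, 2, 2, 2, 2, 2, 0, 0, 0, 0, 0, 1, 1, 1, 1, 1, 2, 2, 2, 2, 2, 2, 0, 0, 0, 0, 0, 1, 1, 1, 1, 1, 2, 2, 2, 2, 2, 2, 0, 0, 0, 0, 0, 1, 1, 1, 1, 1, 2, 2, 2, 2, 2, 2, 0, 0, 0, 0], [1, 1, 1, 2, 2, 2, 2, 2, 3], 0, false),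
    ([0, 0, 0, 0, 0, 1, 1, 1, 1, 1, 2, 2, 2, 2, 2, 0, 2, 0, 0, 0, 0, 1, 1, 1, 1, 1, 2, 2, 2, 2, 2, 2, 0, 0, 0, 0, 0, 1, 1, 1, 1, 1, 2, 2, 2, 2, 2, 2, 0, 0, 0, 0, 0, 1, 1, 1, 1, 1, 2, 2, 2, 2, 2, 2, 0, 0, 0, 0, 0, 1, 1, 1, 1, 1, 2, 2, 2, 2, 2], [0, 0, 0, 1, 1, 1, 2, 2, 2, 2, 2, 3], 3, false),
    ([0, 0, 0, 0, 0, 1, 1, 1, 1, 1, 2, 2, 2, 2, 2, 0, 2, 0, 0, 0, 0, 1, 1, 1, 1, 1, 2, 2, 2, 2, 2, 2, 0, 0, 0, 0, 0, 1, 1, 1, 1, 1, 2, 2, 2, 2, 2, 2, 0, 0, 0, 0, 0, 1, 1, 1, 1, 1, 2, 2, 2, 2, 2, 2, 0, 0, 0, 0, 0, 1, 1, 1, 1, 1, 2, 2, 2, 2, 2, 0], [0, 0, 1, 1, 1, 2, 2, 2, 2, 2, 3], 3, false),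
    ([0, 0, 0, 0, 0, 1, 1, 1, 1, 1, 2, 2, 2, 2, 2, 0, 2, 0, 0, 0, 0, 1, 1, 1, 1, 1, 2, 2, 2, 2, 2, 2, 0, 0, 0, 0, 0, 1, 1, 1, 1, 1, 2, 2, 2, 2, 2, 2, 0, 0, 0, 0, 0, 1, 1, 1, 1, 1, 2, 2, 2, 2, 2, 2, 0, 0, 0, 0, 0, 1, 1, 1, 1, 1, 2, 2, 2, 2, 2, 0, 0], [0, 1, 1, 1, 2, 2, 2, 2, 2, 3], 3, false),
    ([0, 0, 0, 0, 0, 1, 1, 1, 1, 1, 2, 2, 2, 2, 2, 0, 2, 0, 0, 0, 0, 1, 1, 1, 1, 1, 2, 2, 2, 2, 2, 2, 0, 0, 0, 0, 0, 1, 1, 1, 1, 1, 2, 2, 2, 2, 2, 2, 0, 0, 0, 0, 0, 1, 1, 1, 1, 1, 2, 2, 2, 2, 2, 2, 0, 0, 0, 0, 0, 1, 1, 1, 1, 1, 2, 2, 2, 2, 2, 0, 0, 0], [1, 1, 1, 2, 2, 2, 2, 2, 3], 3, false),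
    ([0, 0, 0, 0, 0, 1, 1, 1, 1, 1, 2, 2, 2, 2, 2, 0, 2, 0, 0, 0, 0, 1, 1, 1, 1, 1, 2, 2, 2, 2, 2, 2, 0, 0, 0, 0, 0, 1, 1, 1, 1, 1, 2, 2, 2, 2, 2, 2, 0, 0, 0, 0, 0, 1, 1, 1, 1, 1, 2, 2, 2, 2, 2, 2, 0, 0, 0, 0, 0, 1, 1, 1, 1, 1, 2, 2, 2, 2, 2, 0, 0, 0, 0], [1, 1, 2, 2, 2, 2, 2, 3], 4, false)]

/-- Part of a closed path for the prime 7. -/
def path7_4_3 : List SchurPath.Step :=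
  [([0, 0, 0, 0, 0, 1, 1, 1, 1, 1, 2, 2, 2, 2, 2, 0, 2, 0, 0, 0, 0, 1, 1, 1, 1, 1, 2, 2, 2, 2, 2, 2, 0, 0, 0, 0, 0, 1, 1, 1, 1, 1, 2, 2, 2, 2, 2, 2, 0, 0, 0, 0, 0, 1, 1, 1, 1, 1, 2, 2, 2, 2, 2, 2, 0, 0, 0, 0, 0, 1, 1, 1, 1, 1, 2, 2, 2, 2, 2, 0, 0, 0, 0, 0, 0, 0, 0, 1], [1, 2, 2, 2, 2, 2, 3], 4, false),
    ([0, 0, 0, 0, 0, 1, 1, 1, 1, 1, 2, 2, 2, 2, 2, 0, 2, 0, 0, 0, 0, 1, 1, 1, 1, 1, 2, 2, 2, 2, 2, 2, 0, 0, 0, 0, 0, 1, 1, 1, 1, 1, 2, 2, 2, 2, 2, 2, 0, 0, 0, 0, 0, 1, 1, 1, 1, 1, 2, 2, 2, 2, 2, 2, 0, 0, 0, 0, 0, 1, 1, 1, 1, 1, 2, 2, 2, 2, 2, 0, 0, 0, 0, 0, 0, 0, 0, 1, 0, 0, 0, 0, 1], [2, 2, 2, 2, 2, 3], 4, false),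
    ([0, 0, 0, 0, 0, 1, 1, 1, 1, 1, 2, 2, 2, 2, 2, 0, 2, 0, 0, 0, 0, 1, 1, 1, 1, 1, 2, 2, 2, 2, 2, 2, 0, 0, 0, 0, 0, 1, 1, 1, 1, 1, 2, 2, 2, 2, 2, 2, 0, 0, 0, 0, 0, 1, 1, 1, 1, 1, 2, 2, 2, 2, 2, 2, 0, 0, 0, 0, 0, 1, 1, 1, 1, 1, 2, 2, 2, 2, 2, 0, 0, 0, 0, 0, 0, 0, 0, 1, 0, 0, 0, 0], [0, 0, 0, 1, 2, 2, 2, 2, 2, 2, 3], 1, false),
    ([0, 0, 0, 0, 0, 1, 1, 1, 1, 1, 2, 2, 2, 2, 2, 0, 2, 0, 0, 0, 0, 1, 1, 1, 1, 1, 2, 2, 2, 2, 2, 2, 0, 0, 0, 0, 0, 1, 1, 1, 1, 1, 2, 2, 2, 2, 2, 2, 0, 0, 0, 0, 0, 1, 1, 1, 1, 1, 2, 2, 2, 2, 2, 2, 0, 0, 0, 0, 0, 1, 1, 1, 1, 1, 2, 2, 2, 2, 2, 0, 0, 0, 0, 0, 0, 0, 0, 1, 0, 0, 0, 0, 0], [0, 0, 1, 2, 2, 2, 2, 2, 2, 3], 1, false),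
    ([0, 0, 0, 0, 0, 1, 1, 1, 1, 1, 2, 2, 2, 2, 2, 0, 2, 0, 0, 0, 0, 1, 1, 1, 1, 1, 2, 2, 2, 2, 2, 2, 0, 0, 0, 0, 0, 1, 1, 1, 1, 1, 2, 2, 2, 2, 2, 2, 0, 0, 0, 0, 0, 1, 1, 1, 1, 1, 2, 2, 2, 2, 2, 2, 0, 0, 0, 0, 0, 1, 1, 1, 1, 1, 2, 2, 2, 2, 2, 0, 0, 0, 0, 0, 0, 0, 0, 1, 0, 0, 0, 0, 0, 0], [0, 1, 2, 2, 2, 2, 2, 2, 3], 1, false),
    ([0, 0, 0, 0, 0, 1, 1, 1, 1, 1, 2, 2, 2, 2, 2, 0, 2, 0, 0, 0, 0, 1, 1, 1, 1, 1, 2, 2, 2, 2, 2, 2, 0, 0, 0, 0, 0, 1, 1, 1, 1, 1, 2, 2, 2, 2, 2, 2, 0, 0, 0, 0, 0, 1, 1, 1, 1, 1, 2, 2, 2, 2, 2, 2, 0, 0, 0, 0, 0, 1, 1, 1, 1, 1, 2, 2, 2, 2, 2, 0, 0, 0, 0, 0, 0, 0, 0, 1, 0, 0, 0, 0, 0, 0, 0], [1, 2, 2, 2, 2, 2, 2, 3], 1, false),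
    ([0, 0, 0, 0, 0, 1, 1, 1, 1, 1, 2, 2, 2, 2, 2, 0, 2, 0, 0, 0, 0, 1, 1, 1, 1, 1, 2, 2, 2, 2, 2, 2, 0, 0, 0, 0, 0, 1, 1, 1, 1, 1, 2, 2, 2, 2, 2, 2, 0, 0, 0, 0, 0, 1, 1, 1, 1, 1, 2, 2, 2, 2, 2, 2, 0, 0, 0, 0, 0, 1, 1, 1, 1, 1, 2, 2, 2, 2, 2, 0, 0, 0, 0, 0, 0, 0, 0, 1, 0], [1, 1, 2, 2, 2, 2, 2, 2, 3], 0, false),
    ([0, 0, 0, 0, 0, 1, 1, 1, 1, 1, 2, 2, 2, 2, 2, 0, 2, 0, 0, 0, 0, 1, 1, 1, 1, 1, 2, 2, 2, 2, 2, 2, 0, 0, 0, 0, 0, 1, 1, 1, 1, 1, 2, 2, 2, 2, 2, 2, 0, 0, 0, 0, 0, 1, 1, 1, 1, 1, 2, 2, 2, 2, 2, 2, 0, 0, 0, 0, 0, 1, 1, 1, 1, 1, 2, 2, 2, 2, 2, 0, 0, 0, 0, 0, 0, 0, 0], [1, 1, 2, 2, 2, 2, 2, 2, 3], 1, false),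
    ([0, 0, 0, 0, 0, 1, 1, 1, 1, 1, 2, 2, 2, 2, 2, 0, 2, 0, 0, 0, 0, 1, 1, 1, 1, 1, 2, 2, 2, 2, 2, 2, 0, 0, 0, 0, 0, 1, 1, 1, 1, 1, 2, 2, 2, 2, 2, 2, 0, 0, 0, 0, 0, 1, 1, 1, 1, 1, 2, 2, 2, 2, 2, 2, 0, 0, 0, 0, 0, 1, 1, 1, 1, 1, 2, 2, 2, 2, 2, 0, 0], [1, 1, 1, 2, 2, 2, 2, 2, 2, 3], 0, false),
    ([0, 0, 0, 0, 0, 1, 1, 1, 1, 1, 2, 2, 2, 2, 2, 0, 2, 0, 0, 0, 0, 1, 1, 1, 1, 1, 2, 2, 2, 2, 2, 2, 0, 0, 0, 0, 0, 1, 1, 1, 1, 1, 2, 2, 2, 2, 2, 2, 0, 0, 0, 0, 0, 1, 1, 1, 1, 1, 2, 2, 2, 2, 2, 2, 0, 0, 0, 0, 0, 1, 1, 1, 1, 1, 2, 2, 2, 2], [0, 1, 1, 1, 2, 2, 2, 2, 2, 2, 3], 3, false),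
    ([0, 0, 0, 0, 0, 1, 1, 1, 1, 1, 2, 2, 2, 2, 2, 0, 2, 0, 0, 0, 0, 1, 1, 1, 1, 1, 2, 2, 2, 2, 2, 2, 0, 0, 0, 0, 0, 1, 1, 1, 1, 1, 2, 2, 2, 2, 2, 2, 0, 0, 0, 0, 0, 1, 1, 1, 1, 1, 2, 2, 2, 2, 2, 2, 0, 0, 0, 0, 0, 1, 1, 1, 1, 1, 2, 2, 2, 2, 0], [1, 1, 1, 2, 2, 2, 2, 2, 2, 3], 3, false),
    ([0, 0, 0, 0, 0, 1, 1, 1, 1, 1, 2, 2, 2, 2, 2, 0, 2, 0, 0, 0, 0, 1, 1, 1, 1, 1, 2, 2, 2, 2, 2, 2, 0, 0, 0, 0, 0, 1, 1, 1, 1, 1, 2, 2, 2, 2, 2, 2, 0, 0, 0, 0, 0, 1, 1, 1, 1, 1, 2, 2, 2, 2, 2, 2, 0, 0, 0, 0, 0, 1, 1, 1, 1, 1, 2, 2, 2, 2, 0, 0], [1, 1, 2, 2, 2, 2, 2, 2, 3], 4, false),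
    ([0, 0, 0, 0, 0, 1, 1, 1, 1, 1, 2, 2, 2, 2, 2, 0, 2, 0, 0, 0, 0, 1, 1, 1, 1, 1, 2, 2, 2, 2, 2, 2, 0, 0, 0, 0, 0, 1, 1, 1, 1, 1, 2, 2, 2, 2, 2, 2, 0, 0, 0, 0, 0, 1, 1, 1, 1, 1, 2, 2, 2, 2, 2, 2, 0, 0, 0, 0, 0, 1, 1, 1, 1, 1, 2, 2, 2, 2, 0, 0, 0, 0, 0, 0, 1], [1, 2, 2, 2, 2, 2, 2, 3], 4, false),
    ([0, 0, 0, 0, 0, 1, 1, 1, 1, 1, 2, 2, 2, 2, 2, 0, 2, 0, 0, 0, 0, 1, 1, 1, 1, 1, 2, 2, 2, 2, 2, 2, 0, 0, 0, 0, 0, 1, 1, 1, 1, 1, 2, 2, 2, 2, 2, 2, 0, 0, 0, 0, 0, 1, 1, 1, 1, 1, 2, 2, 2, 2, 2, 2, 0, 0, 0, 0, 0, 1, 1, 1, 1, 1, 2, 2, 2, 2, 0, 0, 0, 0, 0, 0, 1, 0, 0, 0, 0, 1], [2, 2, 2, 2, 2, 2, 3], 4, false),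
    ([0, 0, 0, 0, 0, 1, 1, 1, 1, 1, 2, 2, 2, 2, 2, 0, 2, 0, 0, 0, 0, 1, 1, 1, 1, 1, 2, 2, 2, 2, 2, 2, 0, 0, 0, 0, 0, 1, 1, 1, 1, 1, 2, 2, 2, 2, 2, 2, 0, 0, 0, 0, 0, 1, 1, 1, 1, 1, 2, 2, 2, 2, 2, 2, 0, 0, 0, 0, 0, 1, 1, 1, 1, 1, 2, 2, 2, 2, 0, 0, 0, 0, 0, 0, 1, 0, 0, 0, 0, 1, 0, 0, 0, 0, 1], [3], 5, false),
    ([0, 0, 0, 0, 0, 1, 1, 1, 1, 1, 2, 2, 2, 2, 2, 0, 2, 0, 0, 0, 0, 1, 1, 1, 1, 1, 2, 2, 2, 2, 2, 2, 0, 0, 0, 0, 0, 1, 1, 1, 1, 1, 2, 2, 2, 2, 2, 2, 0, 0, 0, 0, 0, 1, 1, 1, 1, 1, 2, 2, 2, 2, 2, 2, 0, 0, 0, 0, 0, 1, 1, 1, 1, 1, 2, 2, 2, 2, 0, 0, 0, 0, 0, 0, 1, 0, 0, 0, 0], [0, 0, 0, 1, 3], 1, false),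
    ([0, 0, 0, 0, 0, 1, 1, 1, 1, 1, 2, 2, 2, 2, 2, 0, 2, 0, 0, 0, 0, 1, 1, 1, 1, 1, 2, 2, 2, 2, 2, 2, 0, 0, 0, 0, 0, 1, 1, 1, 1, 1, 2, 2, 2, 2, 2, 2, 0, 0, 0, 0, 0, 1, 1, 1, 1, 1, 2, 2, 2, 2, 2, 2, 0, 0, 0, 0, 0, 1, 1, 1, 1, 1, 2, 2, 2, 2, 0, 0, 0, 0, 0, 0, 1, 0, 0, 0, 0, 0], [0, 0, 1, 3], 1, false),
    ([0, 0, 0, 0, 0, 1, 1, 1, 1, 1, 2, 2, 2, 2, 2, 0, 2, 0, 0, 0, 0, 1, 1, 1, 1, 1, 2, 2, 2, 2, 2, 2, 0, 0, 0, 0, 0, 1, 1, 1, 1, 1, 2, 2, 2, 2, 2, 2, 0, 0, 0, 0, 0, 1, 1, 1, 1, 1, 2, 2, 2, 2, 2, 2, 0, 0, 0, 0, 0, 1, 1, 1, 1, 1, 2, 2, 2, 2, 0, 0, 0, 0, 0, 0, 1, 0, 0, 0, 0, 0, 0], [0, 1, 3], 1, false),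
    ([0, 0, 0, 0, 0, 1, 1, 1, 1, 1, 2, 2, 2, 2, 2, 0, 2, 0, 0, 0, 0, 1, 1, 1, 1, 1, 2, 2, 2, 2, 2, 2, 0, 0, 0, 0, 0, 1, 1, 1, 1, 1, 2, 2, 2, 2, 2, 2, 0, 0, 0, 0, 0, 1, 1, 1, 1, 1, 2, 2, 2, 2, 2, 2, 0, 0, 0, 0, 0, 1, 1, 1, 1, 1, 2, 2, 2, 2, 0, 0, 0, 0, 0, 0, 1, 0, 0, 0, 0, 0, 0, 0], [1, 3], 1, false),
    ([0, 0, 0, 0, 0, 1, 1, 1, 1, 1, 2, 2, 2, 2, 2, 0, 2, 0, 0, 0, 0, 1, 1, 1, 1, 1, 2, 2, 2, 2, 2, 2, 0, 0, 0, 0, 0, 1, 1, 1, 1, 1, 2, 2, 2, 2, 2, 2, 0, 0, 0, 0, 0, 1, 1, 1, 1, 1, 2, 2, 2, 2, 2, 2, 0, 0, 0, 0, 0, 1, 1, 1, 1, 1, 2, 2, 2, 2, 0, 0, 0, 0, 0, 0, 1, 0], [1, 1, 3], 0, false),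
    ([0, 0, 0, 0, 0, 1, 1, 1, 1, 1, 2, 2, 2, 2, 2, 0, 2, 0, 0, 0, 0, 1, 1, 1, 1, 1, 2, 2, 2, 2, 2, 2, 0, 0, 0, 0, 0, 1, 1, 1, 1, 1, 2, 2, 2, 2, 2, 2, 0, 0, 0, 0, 0, 1, 1, 1, 1, 1, 2, 2, 2, 2, 2, 2, 0, 0, 0, 0, 0, 1, 1, 1, 1, 1, 2, 2, 2, 2, 0, 0, 0, 0, 0, 0], [1, 1, 3], 1, false),
    ([0, 0, 0, 0, 0, 1, 1, 1, 1, 1, 2, 2, 2, 2, 2, 0, 2, 0, 0, 0, 0, 1, 1, 1, 1, 1, 2, 2, 2, 2, 2, 2, 0, 0, 0, 0, 0, 1, 1, 1, 1, 1, 2, 2, 2, 2, 2, 2, 0, 0, 0, 0, 0, 1, 1, 1, 1, 1, 2, 2, 2, 2, 2, 2, 0, 0, 0, 0, 0, 1, 1, 1, 1, 1, 2, 2, 2, 2], [1, 1, 1, 3], 0, false),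
    ([0, 0, 0, 0, 0, 1, 1, 1, 1, 1, 2, 2, 2, 2, 2, 0, 2, 0, 0, 0, 0, 1, 1, 1, 1, 1, 2, 2, 2, 2, 2, 2, 0, 0, 0, 0, 0, 1, 1, 1, 1, 1, 2, 2, 2, 2, 2, 2, 0, 0, 0, 0, 0, 1, 1, 1, 1, 1, 2, 2, 2, 2, 2, 2, 0, 0, 0, 0, 0, 1, 1, 1, 1, 1, 2, 2, 2], [1, 1, 3], 4, false),
    ([0, 0, 0, 0, 0, 1, 1, 1, 1, 1, 2, 2, 2, 2, 2, 0, 2, 0, 0, 0, 0, 1, 1, 1, 1, 1, 2, 2, 2, 2, 2, 2, 0, 0, 0, 0, 0, 1, 1, 1, 1, 1, 2, 2, 2, 2, 2, 2, 0, 0, 0, 0, 0, 1, 1, 1, 1, 1, 2, 2, 2, 2, 2, 2, 0, 0, 0, 0, 0, 1, 1, 1, 1, 1, 2, 2, 2, 0, 0, 0, 0, 1], [1, 3], 4, false),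
    ([0, 0, 0, 0, 0, 1, 1, 1, 1, 1, 2, 2, 2, 2, 2, 0, 2, 0, 0, 0, 0, 1, 1, 1, 1, 1, 2, 2, 2, 2, 2, 2, 0, 0, 0, 0, 0, 1, 1, 1, 1, 1, 2, 2, 2, 2, 2, 2, 0, 0, 0, 0, 0, 1, 1, 1, 1, 1, 2, 2, 2, 2, 2, 2, 0, 0, 0, 0, 0, 1, 1, 1, 1, 1, 2, 2, 2, 0, 0, 0, 0, 1, 0, 0, 0, 0, 1], [3], 4, false),
    ([0, 0, 0, 0, 0, 1, 1, 1, 1, 1, 2, 2, 2, 2, 2, 0, 2, 0, 0, 0, 0, 1, 1, 1, 1, 1, 2, 2, 2, 2, 2, 2, 0, 0, 0, 0, 0, 1, 1, 1, 1, 1, 2, 2, 2, 2, 2, 2, 0, 0, 0, 0, 0, 1, 1, 1, 1, 1, 2, 2, 2, 2, 2, 2, 0, 0, 0, 0, 0, 1, 1, 1, 1, 1, 2, 2, 2, 0, 0, 0, 0, 1, 0, 0, 0, 0], [0, 0, 0, 1, 2, 3], 1, false),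
    ([0, 0, 0, 0, 0, 1, 1, 1, 1, 1, 2, 2, 2, 2, 2, 0, 2, 0, 0, 0, 0, 1, 1, 1, 1, 1, 2, 2, 2, 2, 2, 2, 0, 0, 0, 0, 0, 1, 1, 1, 1, 1, 2, 2, 2, 2, 2, 2, 0, 0, 0, 0, 0, 1, 1, 1, 1, 1, 2, 2, 2, 2, 2, 2, 0, 0, 0, 0, 0, 1, 1, 1, 1, 1, 2, 2, 2, 0, 0, 0, 0, 1, 0, 0, 0, 0, 0], [0, 0, 1, 2, 3], 1, false),
    ([0, 0, 0, 0, 0, 1, 1, 1, 1, 1, 2, 2, 2, 2, 2, 0, 2, 0, 0, 0, 0, 1, 1, 1, 1, 1, 2, 2, 2, 2, 2, 2, 0, 0, 0, 0, 0, 1, 1, 1, 1, 1, 2, 2, 2, 2, 2, 2, 0, 0, 0, 0, 0, 1, 1, 1, 1, 1, 2, 2, 2, 2, 2, 2, 0, 0, 0, 0, 0, 1, 1, 1, 1, 1, 2, 2, 2, 0, 0, 0, 0, 1, 0, 0, 0, 0, 0, 0], [0, 1, 2, 3], 1, false),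
    ([0, 0, 0, 0, 0, 1, 1, 1, 1, 1, 2, 2, 2, 2, 2, 0, 2, 0, 0, 0, 0, 1, 1, 1, 1, 1, 2, 2, 2, 2, 2, 2, 0, 0, 0, 0, 0, 1, 1, 1, 1, 1, 2, 2, 2, 2, 2, 2, 0, 0, 0, 0, 0, 1, 1, 1, 1, 1, 2, 2, 2, 2, 2, 2, 0, 0, 0, 0, 0, 1, 1, 1, 1, 1, 2, 2, 2, 0, 0, 0, 0, 1, 0, 0, 0, 0, 0, 0, 0], [1, 2, 3], 1, false),
    ([0, 0, 0, 0, 0, 1, 1, 1, 1, 1, 2, 2, 2, 2, 2, 0, 2, 0, 0, 0, 0, 1, 1, 1, 1, 1, 2, 2, 2, 2, 2, 2, 0, 0, 0, 0, 0, 1, 1, 1, 1, 1, 2, 2, 2, 2, 2, 2, 0, 0, 0, 0, 0, 1, 1, 1, 1, 1, 2, 2, 2, 2, 2, 2, 0, 0, 0, 0, 0, 1, 1, 1, 1, 1, 2, 2, 2, 0, 0, 0, 0, 1, 0], [1, 1, 2, 3], 0, false),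
    ([0, 0, 0, 0, 0, 1, 1, 1, 1, 1, 2, 2, 2, 2, 2, 0, 2, 0, 0, 0, 0, 1, 1, 1, 1, 1, 2, 2, 2, 2, 2, 2, 0, 0, 0, 0, 0, 1, 1, 1, 1, 1, 2, 2, 2, 2, 2, 2, 0, 0, 0, 0, 0, 1, 1, 1, 1, 1, 2, 2, 2, 2, 2, 2, 0, 0, 0, 0, 0, 1, 1, 1, 1, 1, 2, 2, 2, 0, 0, 0, 0], [1, 1, 2, 3], 1, false),
    ([0, 0, 0, 0, 0, 1, 1, 1, 1, 1, 2, 2, 2, 2, 2, 0, 2, 0, 0, 0, 0, 1, 1, 1, 1, 1, 2, 2, 2, 2, 2, 2, 0, 0, 0, 0, 0, 1, 1, 1, 1, 1, 2, 2, 2, 2, 2, 2, 0, 0, 0, 0, 0, 1, 1, 1, 1, 1, 2, 2, 2, 2, 2, 2, 0, 0, 0, 0, 0, 1, 1, 1, 1, 1, 2, 2], [0, 0, 0, 0, 1, 1, 1, 2, 3], 3, false),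
    ([0, 0, 0, 0, 0, 1, 1, 1, 1, 1, 2, 2, 2, 2, 2, 0, 2, 0, 0, 0, 0, 1, 1, 1, 1, 1, 2, 2, 2, 2, 2, 2, 0, 0, 0, 0, 0, 1, 1, 1, 1, 1, 2, 2, 2, 2, 2, 2, 0, 0, 0, 0, 0, 1, 1, 1, 1, 1, 2, 2, 2, 2, 2, 2, 0, 0, 0, 0, 0, 1, 1, 1, 1, 1, 2, 2, 0], [0, 0, 0, 1, 1, 1, 2, 3], 3, false),
    ([0, 0, 0, 0, 0, 1, 1, 1, 1, 1, 2, 2, 2, 2, 2, 0, 2, 0, 0, 0, 0, 1, 1, 1, 1, 1, 2, 2, 2, 2, 2, 2, 0, 0, 0, 0, 0, 1, 1, 1, 1, 1, 2, 2, 2, 2, 2, 2, 0, 0, 0, 0, 0, 1, 1, 1, 1, 1, 2, 2, 2, 2, 2, 2, 0, 0, 0, 0, 0, 1, 1, 1, 1, 1, 2, 2, 0, 0], [0, 0, 1, 1, 1, 2, 3], 3, false),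
    ([0, 0, 0, 0, 0, 1, 1, 1, 1, 1, 2, 2, 2, 2, 2, 0, 2, 0, 0, 0, 0, 1, 1, 1, 1, 1, 2, 2, 2, 2, 2, 2, 0, 0, 0, 0, 0, 1, 1, 1, 1, 1, 2, 2, 2, 2, 2, 2, 0, 0, 0, 0, 0, 1, 1, 1, 1, 1, 2, 2, 2, 2, 2, 2, 0, 0, 0, 0, 0, 1, 1, 1, 1, 1, 2, 2, 0, 0, 0], [0, 1, 1, 1, 2, 3], 3, false),
    ([0, 0, 0, 0, 0, 1, 1, 1, 1, 1, 2, 2, 2, 2, 2, 0, 2, 0, 0, 0, 0, 1, 1, 1, 1, 1, 2, 2, 2, 2, 2, 2, 0, 0, 0, 0, 0, 1, 1, 1, 1, 1, 2, 2, 2, 2, 2, 2, 0, 0, 0, 0, 0, 1, 1, 1, 1, 1, 2, 2, 2, 2, 2, 2, 0, 0, 0, 0, 0, 1, 1, 1, 1, 1, 2, 2, 0, 0, 0, 0], [1, 1, 1, 2, 3], 3, false),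
    ([0, 0, 0, 0, 0, 1, 1, 1, 1, 1, 2, 2, 2, 2, 2, 0, 2, 0, 0, 0, 0, 1, 1, 1, 1, 1, 2, 2, 2, 2, 2, 2, 0, 0, 0, 0, 0, 1, 1, 1, 1, 1, 2, 2, 2, 2, 2, 2, 0, 0, 0, 0, 0, 1, 1, 1, 1, 1, 2, 2, 2, 2, 2, 2, 0, 0, 0, 0, 0, 1, 1, 1, 1, 1, 2, 2, 0, 0, 0, 0, 0], [1, 1, 2, 3], 4, false),
    ([0, 0, 0, 0, 0, 1, 1, 1, 1, 1, 2, 2, 2, 2, 2, 0, 2, 0, 0, 0, 0, 1, 1, 1, 1, 1, 2, 2, 2, 2, 2, 2, 0, 0, 0, 0, 0, 1, 1, 1, 1, 1, 2, 2, 2, 2, 2, 2, 0, 0, 0, 0, 0, 1, 1, 1, 1, 1, 2, 2, 2, 2, 2, 2, 0, 0, 0, 0, 0, 1, 1, 1, 1, 1, 2, 2, 0, 0, 0, 0, 0, 0, 0, 0, 0, 1], [1, 2, 3], 4, false),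
    ([0, 0, 0, 0, 0, 1, 1, 1, 1, 1, 2, 2, 2, 2, 2, 0, 2, 0, 0, 0, 0, 1, 1, 1, 1, 1, 2, 2, 2, 2, 2, 2, 0, 0, 0, 0, 0, 1, 1, 1, 1, 1, 2, 2, 2, 2, 2, 2, 0, 0, 0, 0, 0, 1, 1, 1, 1, 1, 2, 2, 2, 2, 2, 2, 0, 0, 0, 0, 0, 1, 1, 1, 1, 1, 2, 2, 0, 0, 0, 0, 0, 0, 0, 0, 0, 1, 0, 0, 0, 0, 1], [2, 3], 4, false),
    ([0, 0, 0, 0, 0, 1, 1, 1, 1, 1, 2, 2, 2, 2, 2, 0, 2, 0, 0, 0, 0, 1, 1, 1, 1, 1, 2, 2, 2, 2, 2, 2, 0, 0, 0, 0, 0, 1, 1, 1, 1, 1, 2, 2, 2, 2, 2, 2, 0, 0, 0, 0, 0, 1, 1, 1, 1, 1, 2, 2, 2, 2, 2, 2, 0, 0, 0, 0, 0, 1, 1, 1, 1, 1, 2, 2, 0, 0, 0, 0, 0, 0, 0, 0, 0, 1, 0, 0, 0, 0], [0, 0, 0, 1, 2, 2, 3], 1, false),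
    ([0, 0, 0, 0, 0, 1, 1, 1, 1, 1, 2, 2, 2, 2, 2, 0, 2, 0, 0, 0, 0, 1, 1, 1, 1, 1, 2, 2, 2, 2, 2, 2, 0, 0, 0, 0, 0, 1, 1, 1, 1, 1, 2, 2, 2, 2, 2, 2, 0, 0, 0, 0, 0, 1, 1, 1, 1, 1, 2, 2, 2, 2, 2, 2, 0, 0, 0, 0, 0, 1, 1, 1, 1, 1, 2, 2, 0, 0, 0, 0, 0, 0, 0, 0, 0, 1, 0, 0, 0, 0, 0], [0, 0, 1, 2, 2, 3], 1, false),
    ([0, 0, 0, 0, 0, 1, 1, 1, 1, 1, 2, 2, 2, 2, 2, 0, 2, 0, 0, 0, 0, 1, 1, 1, 1, 1, 2, 2, 2, 2, 2, 2, 0, 0, 0, 0, 0, 1, 1, 1, 1, 1, 2, 2, 2, 2, 2, 2, 0, 0, 0, 0, 0, 1, 1, 1, 1, 1, 2, 2, 2, 2, 2, 2, 0, 0, 0, 0, 0, 1, 1, 1, 1, 1, 2, 2, 0, 0, 0, 0, 0, 0, 0, 0, 0, 1, 0, 0, 0, 0, 0, 0], [0, 1, 2, 2, 3], 1, false),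
    ([0, 0, 0, 0, 0, 1, 1, 1, 1, 1, 2, 2, 2, 2, 2, 0, 2, 0, 0, 0, 0, 1, 1, 1, 1, 1, 2, 2, 2, 2, 2, 2, 0, 0, 0, 0, 0, 1, 1, 1, 1, 1, 2, 2, 2, 2, 2, 2, 0, 0, 0, 0, 0, 1, 1, 1, 1, 1, 2, 2, 2, 2, 2, 2, 0, 0, 0, 0, 0, 1, 1, 1, 1, 1, 2, 2, 0, 0, 0, 0, 0, 0, 0, 0, 0, 1, 0, 0, 0, 0, 0, 0, 0], [1, 2, 2, 3], 1, false),
    ([0, 0, 0, 0, 0, 1, 1, 1, 1, 1, 2, 2, 2, 2, 2, 0, 2, 0, 0, 0, 0, 1, 1, 1, 1, 1, 2, 2, 2, 2, 2, 2, 0, 0, 0, 0, 0, 1, 1, 1, 1, 1, 2, 2, 2, 2, 2, 2, 0, 0, 0, 0, 0, 1, 1, 1, 1, 1, 2, 2, 2, 2, 2, 2, 0, 0, 0, 0, 0, 1, 1, 1, 1, 1, 2, 2, 0, 0, 0, 0, 0, 0, 0, 0, 0, 1, 0], [1, 1, 2, 2, 3], 0, false),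
    ([0, 0, 0, 0, 0, 1, 1, 1, 1, 1, 2, 2, 2, 2, 2, 0, 2, 0, 0, 0, 0, 1, 1, 1, 1, 1, 2, 2, 2, 2, 2, 2, 0, 0, 0, 0, 0, 1, 1, 1, 1, 1, 2, 2, 2, 2, 2, 2, 0, 0, 0, 0, 0, 1, 1, 1, 1, 1, 2, 2, 2, 2, 2, 2, 0, 0, 0, 0, 0, 1, 1, 1, 1, 1, 2, 2, 0, 0, 0, 0, 0, 0, 0, 0, 0], [1, 1, 2, 2, 3], 1, false),
    ([0, 0, 0, 0, 0, 1, 1, 1, 1, 1, 2, 2, 2, 2, 2, 0, 2, 0, 0, 0, 0, 1, 1, 1, 1, 1, 2, 2, 2, 2, 2, 2, 0, 0, 0, 0, 0, 1, 1, 1, 1, 1, 2, 2, 2, 2, 2, 2, 0, 0, 0, 0, 0, 1, 1, 1, 1, 1, 2, 2, 2, 2, 2, 2, 0, 0, 0, 0, 0, 1, 1, 1, 1, 1, 2, 2, 0, 0, 0], [1, 1, 1, 2, 2, 3], 0, false),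
    ([0, 0, 0, 0, 0, 1, 1, 1, 1, 1, 2, 2, 2, 2, 2, 0, 2, 0, 0, 0, 0, 1, 1, 1, 1, 1, 2, 2, 2, 2, 2, 2, 0, 0, 0, 0, 0, 1, 1, 1, 1, 1, 2, 2, 2, 2, 2, 2, 0, 0, 0, 0, 0, 1, 1, 1, 1, 1, 2, 2, 2, 2, 2, 2, 0, 0, 0, 0, 0, 1, 1, 1, 1, 1, 2], [0, 0, 1, 1, 1, 2, 2, 3], 3, false),
    ([0, 0, 0, 0, 0, 1, 1, 1, 1, 1, 2, 2, 2, 2, 2, 0, 2, 0, 0, 0, 0, 1, 1, 1, 1, 1, 2, 2, 2, 2, 2, 2, 0, 0, 0, 0, 0, 1, 1, 1, 1, 1, 2, 2, 2, 2, 2, 2, 0, 0, 0, 0, 0, 1, 1, 1, 1, 1, 2, 2, 2, 2, 2, 2, 0, 0, 0, 0, 0, 1, 1, 1, 1, 1, 2, 0], [0, 1, 1, 1, 2, 2, 3], 3, false),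
    ([0, 0, 0, 0, 0, 1, 1, 1, 1, 1, 2, 2, 2, 2, 2, 0, 2, 0, 0, 0, 0, 1, 1, 1, 1, 1, 2, 2, 2, 2, 2, 2, 0, 0, 0, 0, 0, 1, 1, 1, 1, 1, 2, 2, 2, 2, 2, 2, 0, 0, 0, 0, 0, 1, 1, 1, 1, 1, 2, 2, 2, 2, 2, 2, 0, 0, 0, 0, 0, 1, 1, 1, 1, 1, 2, 0, 0], [1, 1, 1, 2, 2, 3], 3, false),
    ([0, 0, 0, 0, 0, 1, 1, 1, 1, 1, 2, 2, 2, 2, 2, 0, 2, 0, 0, 0, 0, 1, 1, 1, 1, 1, 2, 2, 2, 2, 2, 2, 0, 0, 0, 0, 0, 1, 1, 1, 1, 1, 2, 2, 2, 2, 2, 2, 0, 0, 0, 0, 0, 1, 1, 1, 1, 1, 2, 2, 2, 2, 2, 2, 0, 0, 0, 0, 0, 1, 1, 1, 1, 1, 2, 0, 0, 0], [1, 1, 2, 2, 3], 4, false),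
    ([0, 0, 0, 0, 0, 1, 1, 1, 1, 1, 2, 2, 2, 2, 2, 0, 2, 0, 0, 0, 0, 1, 1, 1, 1, 1, 2, 2, 2, 2, 2, 2, 0, 0, 0, 0, 0, 1, 1, 1, 1, 1, 2, 2, 2, 2, 2, 2, 0, 0, 0, 0, 0, 1, 1, 1, 1, 1, 2, 2, 2, 2, 2, 2, 0, 0, 0, 0, 0, 1, 1, 1, 1, 1, 2, 0, 0, 0, 0, 0, 0, 0, 1], [1, 2, 2, 3], 4, false),
    ([0, 0, 0, 0, 0, 1, 1, 1, 1, 1, 2, 2, 2, 2, 2, 0, 2, 0, 0, 0, 0, 1, 1, 1, 1, 1, 2, 2, 2, 2, 2, 2, 0, 0, 0, 0, 0, 1, 1, 1, 1, 1, 2, 2, 2, 2, 2, 2, 0, 0, 0, 0, 0, 1, 1, 1, 1, 1, 2, 2, 2, 2, 2, 2, 0, 0, 0, 0, 0, 1, 1, 1, 1, 1, 2, 0, 0, 0, 0, 0, 0, 0, 1, 0, 0, 0, 0, 1], [2, 2, 3], 4, false),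
    ([0, 0, 0, 0, 0, 1, 1, 1, 1, 1, 2, 2, 2, 2, 2, 0, 2, 0, 0, 0, 0, 1, 1, 1, 1, 1, 2, 2, 2, 2, 2, 2, 0, 0, 0, 0, 0, 1, 1, 1, 1, 1, 2, 2, 2, 2, 2, 2, 0, 0, 0, 0, 0, 1, 1, 1, 1, 1, 2, 2, 2, 2, 2, 2, 0, 0, 0, 0, 0, 1, 1, 1, 1, 1, 2, 0, 0, 0, 0, 0, 0, 0, 1, 0, 0, 0, 0], [0, 0, 0, 1, 2, 2, 2, 3], 1, false),
    ([0, 0, 0, 0, 0, 1, 1, 1, 1, 1, 2, 2, 2, 2, 2, 0, 2, 0, 0, 0, 0, 1, 1, 1, 1, 1, 2, 2, 2, 2, 2, 2, 0, 0, 0, 0, 0, 1, 1, 1, 1, 1, 2, 2, 2, 2, 2, 2, 0, 0, 0, 0, 0, 1, 1, 1, 1, 1, 2, 2, 2, 2, 2, 2, 0, 0, 0, 0, 0, 1, 1, 1, 1, 1, 2, 0, 0, 0, 0, 0, 0, 0, 1, 0, 0, 0, 0, 0], [0, 0, 1, 2, 2, 2, 3], 1, false),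
    ([0, 0, 0, 0, 0, 1, 1, 1, 1, 1, 2, 2, 2, 2, 2, 0, 2, 0, 0, 0, 0, 1, 1, 1, 1, 1, 2, 2, 2, 2, 2, 2, 0, 0, 0, 0, 0, 1, 1, 1, 1, 1, 2, 2, 2, 2, 2, 2, 0, 0, 0, 0, 0, 1, 1, 1, 1, 1, 2, 2, 2, 2, 2, 2, 0, 0, 0, 0, 0, 1, 1, 1, 1, 1, 2, 0, 0, 0, 0, 0, 0, 0, 1, 0, 0, 0, 0, 0, 0], [0, 1, 2, 2, 2, 3], 1, false),
    ([0, 0, 0, 0, 0, 1, 1, 1, 1, 1, 2, 2, 2, 2, 2, 0, 2, 0, 0, 0, 0, 1, 1, 1, 1, 1, 2, 2, 2, 2, 2, 2, 0, 0, 0, 0, 0, 1, 1, 1, 1, 1, 2, 2, 2, 2, 2, 2, 0, 0, 0, 0, 0, 1, 1, 1, 1, 1, 2, 2, 2, 2, 2, 2, 0, 0, 0, 0, 0, 1, 1, 1, 1, 1, 2, 0, 0, 0, 0, 0, 0, 0, 1, 0, 0, 0, 0, 0, 0, 0], [1, 2, 2, 2, 3], 1, false),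
    ([0, 0, 0, 0, 0, 1, 1, 1, 1, 1, 2, 2, 2, 2, 2, 0, 2, 0, 0, 0, 0, 1, 1, 1, 1, 1, 2, 2, 2, 2, 2, 2, 0, 0, 0, 0, 0, 1, 1, 1, 1, 1, 2, 2, 2, 2, 2, 2, 0, 0, 0, 0, 0, 1, 1, 1, 1, 1, 2, 2, 2, 2, 2, 2, 0, 0, 0, 0, 0, 1, 1, 1, 1, 1, 2, 0, 0, 0, 0, 0, 0, 0, 1, 0], [1, 1, 2, 2, 2, 3], 0, false),
    ([0, 0, 0, 0, 0, 1, 1, 1, 1, 1, 2, 2, 2, 2, 2, 0, 2, 0, 0, 0, 0, 1, 1, 1, 1, 1, 2, 2, 2, 2, 2, 2, 0, 0, 0, 0, 0, 1, 1, 1, 1, 1, 2, 2, 2, 2, 2, 2, 0, 0, 0, 0, 0, 1, 1, 1, 1, 1, 2, 2, 2, 2, 2, 2, 0, 0, 0, 0, 0, 1, 1, 1, 1, 1, 2, 0, 0, 0, 0, 0, 0, 0], [1, 1, 2, 2, 2, 3], 1, false),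
    ([0, 0, 0, 0, 0, 1, 1, 1, 1, 1, 2, 2, 2, 2, 2, 0, 2, 0, 0, 0, 0, 1, 1, 1, 1, 1, 2, 2, 2, 2, 2, 2, 0, 0, 0, 0, 0, 1, 1, 1, 1, 1, 2, 2, 2, 2, 2, 2, 0, 0, 0, 0, 0, 1, 1, 1, 1, 1, 2, 2, 2, 2, 2, 2, 0, 0, 0, 0, 0, 1, 1, 1, 1, 1, 2, 0], [1, 1, 1, 2, 2, 2, 3], 0, false),
    ([0, 0, 0, 0, 0, 1, 1, 1, 1, 1, 2, 2, 2, 2, 2, 0, 2, 0, 0, 0, 0, 1, 1, 1, 1, 1, 2, 2, 2, 2, 2, 2, 0, 0, 0, 0, 0, 1, 1, 1, 1, 1, 2, 2, 2, 2, 2, 2, 0, 0, 0, 0, 0, 1, 1, 1, 1, 1, 2, 2, 2, 2, 2, 2, 0, 0, 0, 0, 0, 1, 1, 1, 1, 1], [1, 1, 1, 2, 2, 2, 3], 3, false)]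

/-- Part of a closed path for the prime 7. -/
def path7_4_4 : List SchurPath.Step :=
  [([0, 0, 0, 0, 0, 1, 1, 1, 1, 1, 2, 2, 2, 2, 2, 0, 2, 0, 0, 0, 0, 1, 1, 1, 1, 1, 2, 2, 2, 2, 2, 2, 0, 0, 0, 0, 0, 1, 1, 1, 1, 1, 2, 2, 2, 2, 2, 2, 0, 0, 0, 0, 0, 1, 1, 1, 1, 1, 2, 2, 2, 2, 2, 2, 0, 0, 0, 0, 0, 1, 1, 1, 1, 1, 0], [1, 1, 2, 2, 2, 3], 4, false),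
    ([0, 0, 0, 0, 0, 1, 1, 1, 1, 1, 2, 2, 2, 2, 2, 0, 2, 0, 0, 0, 0, 1, 1, 1, 1, 1, 2, 2, 2, 2, 2, 2, 0, 0, 0, 0, 0, 1, 1, 1, 1, 1, 2, 2, 2, 2, 2, 2, 0, 0, 0, 0, 0, 1, 1, 1, 1, 1, 2, 2, 2, 2, 2, 2, 0, 0, 0, 0, 0, 1, 1, 1, 1, 1, 0, 0, 0, 0, 0, 1], [1, 2, 2, 2, 3], 4, false),
    ([0, 0, 0, 0, 0, 1, 1, 1, 1, 1, 2, 2, 2, 2, 2, 0, 2, 0, 0, 0, 0, 1, 1, 1, 1, 1, 2, 2, 2, 2, 2, 2, 0, 0, 0, 0, 0, 1, 1, 1, 1, 1, 2, 2, 2, 2, 2, 2, 0, 0, 0, 0, 0, 1, 1, 1, 1, 1, 2, 2, 2, 2, 2, 2, 0, 0, 0, 0, 0, 1, 1, 1, 1, 1, 0, 0, 0, 0, 0, 1, 0, 0, 0, 0, 1], [2, 2, 2, 3], 4, false),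
    ([0, 0, 0, 0, 0, 1, 1, 1, 1, 1, 2, 2, 2, 2, 2, 0, 2, 0, 0, 0, 0, 1, 1, 1, 1, 1, 2, 2, 2, 2, 2, 2, 0, 0, 0, 0, 0, 1, 1, 1, 1, 1, 2, 2, 2, 2, 2, 2, 0, 0, 0, 0, 0, 1, 1, 1, 1, 1, 2, 2, 2, 2, 2, 2, 0, 0, 0, 0, 0, 1, 1, 1, 1, 1, 0, 0, 0, 0, 0, 1, 0, 0, 0, 0], [0, 0, 0, 1, 2, 2, 2, 2, 3], 1, false),
    ([0, 0, 0, 0, 0, 1, 1, 1, 1, 1, 2, 2, 2, 2, 2, 0, 2, 0, 0, 0, 0, 1, 1, 1, 1, 1, 2, 2, 2, 2, 2, 2, 0, 0, 0, 0, 0, 1, 1, 1, 1, 1, 2, 2, 2, 2, 2, 2, 0, 0, 0, 0, 0, 1, 1, 1, 1, 1, 2, 2, 2, 2, 2, 2, 0, 0, 0, 0, 0, 1, 1, 1, 1, 1, 0, 0, 0, 0, 0, 1, 0, 0, 0, 0, 0], [0, 0, 1, 2, 2, 2, 2, 3], 1, false),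
    ([0, 0, 0, 0, 0, 1, 1, 1, 1, 1, 2, 2, 2, 2, 2, 0, 2, 0, 0, 0, 0, 1, 1, 1, 1, 1, 2, 2, 2, 2, 2, 2, 0, 0, 0, 0, 0, 1, 1, 1, 1, 1, 2, 2, 2, 2, 2, 2, 0, 0, 0, 0, 0, 1, 1, 1, 1, 1, 2, 2, 2, 2, 2, 2, 0, 0, 0, 0, 0, 1, 1, 1, 1, 1, 0, 0, 0, 0, 0, 1, 0, 0, 0, 0, 0, 0], [0, 1, 2, 2, 2, 2, 3], 1, false),
    ([0, 0, 0, 0, 0, 1, 1, 1, 1, 1, 2, 2, 2, 2, 2, 0, 2, 0, 0, 0, 0, 1, 1, 1, 1, 1, 2, 2, 2, 2, 2, 2, 0, 0, 0, 0, 0, 1, 1, 1, 1, 1, 2, 2, 2, 2, 2, 2, 0, 0, 0, 0, 0, 1, 1, 1, 1, 1, 2, 2, 2, 2, 2, 2, 0, 0, 0, 0, 0, 1, 1, 1, 1, 1, 0, 0, 0, 0, 0, 1, 0, 0, 0, 0, 0, 0, 0], [1, 2, 2, 2, 2, 3], 1, false),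
    ([0, 0, 0, 0, 0, 1, 1, 1, 1, 1, 2, 2, 2, 2, 2, 0, 2, 0, 0, 0, 0, 1, 1, 1, 1, 1, 2, 2, 2, 2, 2, 2, 0, 0, 0, 0, 0, 1, 1, 1, 1, 1, 2, 2, 2, 2, 2, 2, 0, 0, 0, 0, 0, 1, 1, 1, 1, 1, 2, 2, 2, 2, 2, 2, 0, 0, 0, 0, 0, 1, 1, 1, 1, 1, 0, 0, 0, 0, 0, 1, 0], [1, 1, 2, 2, 2, 2, 3], 0, false),
    ([0, 0, 0, 0, 0, 1, 1, 1, 1, 1, 2, 2, 2, 2, 2, 0, 2, 0, 0, 0, 0, 1, 1, 1, 1, 1, 2, 2, 2, 2, 2, 2, 0, 0, 0, 0, 0, 1, 1, 1, 1, 1, 2, 2, 2, 2, 2, 2, 0, 0, 0, 0, 0, 1, 1, 1, 1, 1, 2, 2, 2, 2, 2, 2, 0, 0, 0, 0, 0, 1, 1, 1, 1, 1, 0, 0, 0, 0, 0], [1, 1, 2, 2, 2, 2, 3], 1, false),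
    ([0, 0, 0, 0, 0, 1, 1, 1, 1, 1, 2, 2, 2, 2, 2, 0, 2, 0, 0, 0, 0, 1, 1, 1, 1, 1, 2, 2, 2, 2, 2, 2, 0, 0, 0, 0, 0, 1, 1, 1, 1, 1, 2, 2, 2, 2, 2, 2, 0, 0, 0, 0, 0, 1, 1, 1, 1, 1, 2, 2, 2, 2, 2, 2, 0, 0, 0, 0, 0, 1, 1, 1, 1], [0, 0, 0, 0, 0, 1, 1, 1, 2, 2, 2, 2, 3], 1, false),
    ([0, 0, 0, 0, 0, 1, 1, 1, 1, 1, 2, 2, 2, 2, 2, 0, 2, 0, 0, 0, 0, 1, 1, 1, 1, 1, 2, 2, 2, 2, 2, 2, 0, 0, 0, 0, 0, 1, 1, 1, 1, 1, 2, 2, 2, 2, 2, 2, 0, 0, 0, 0, 0, 1, 1, 1, 1, 1, 2, 2, 2, 2, 2, 2, 0, 0, 0, 0, 0, 1, 1, 1, 1, 0], [0, 0, 0, 0, 1, 1, 1, 2, 2, 2, 2, 3], 1, false),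
    ([0, 0, 0, 0, 0, 1, 1, 1, 1, 1, 2, 2, 2, 2, 2, 0, 2, 0, 0, 0, 0, 1, 1, 1, 1, 1, 2, 2, 2, 2, 2, 2, 0, 0, 0, 0, 0, 1, 1, 1, 1, 1, 2, 2, 2, 2, 2, 2, 0, 0, 0, 0, 0, 1, 1, 1, 1, 1, 2, 2, 2, 2, 2, 2, 0, 0, 0, 0, 0, 1, 1, 1, 1, 0, 0], [0, 0, 0, 1, 1, 1, 2, 2, 2, 2, 3], 1, false),
    ([0, 0, 0, 0, 0, 1, 1, 1, 1, 1, 2, 2, 2, 2, 2, 0, 2, 0, 0, 0, 0, 1, 1, 1, 1, 1, 2, 2, 2, 2, 2, 2, 0, 0, 0, 0, 0, 1, 1, 1, 1, 1, 2, 2, 2, 2, 2, 2, 0, 0, 0, 0, 0, 1, 1, 1, 1, 1, 2, 2, 2, 2, 2, 2, 0, 0, 0, 0, 0, 1, 1, 1, 1, 0, 0, 0], [0, 0, 1, 1, 1, 2, 2, 2, 2, 3], 1, false),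
    ([0, 0, 0, 0, 0, 1, 1, 1, 1, 1, 2, 2, 2, 2, 2, 0, 2, 0, 0, 0, 0, 1, 1, 1, 1, 1, 2, 2, 2, 2, 2, 2, 0, 0, 0, 0, 0, 1, 1, 1, 1, 1, 2, 2, 2, 2, 2, 2, 0, 0, 0, 0, 0, 1, 1, 1, 1, 1, 2, 2, 2, 2, 2, 2, 0, 0, 0, 0, 0, 1, 1, 1, 1, 0, 0, 0, 0], [0, 1, 1, 1, 2, 2, 2, 2, 3], 1, false),
    ([0, 0, 0, 0, 0, 1, 1, 1, 1, 1, 2, 2, 2, 2, 2, 0, 2, 0, 0, 0, 0, 1, 1, 1, 1, 1, 2, 2, 2, 2, 2, 2, 0, 0, 0, 0, 0, 1, 1, 1, 1, 1, 2, 2, 2, 2, 2, 2, 0, 0, 0, 0, 0, 1, 1, 1, 1, 1, 2, 2, 2, 2, 2, 2, 0, 0, 0, 0, 0, 1, 1, 1, 1, 0, 0, 0, 0, 0], [1, 1, 1, 2, 2, 2, 2, 3], 1, false),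
    ([0, 0, 0, 0, 0, 1, 1, 1, 1, 1, 2, 2, 2, 2, 2, 0, 2, 0, 0, 0, 0, 1, 1, 1, 1, 1, 2, 2, 2, 2, 2, 2, 0, 0, 0, 0, 0, 1, 1, 1, 1, 1, 2, 2, 2, 2, 2, 2, 0, 0, 0, 0, 0, 1, 1, 1, 1, 1, 2, 2, 2, 2, 2, 2, 0, 0, 0, 0, 0, 1, 1, 1], [0, 0, 0, 0, 0, 1, 1, 1, 1, 2, 2, 2, 2, 3], 1, false),
    ([0, 0, 0, 0, 0, 1, 1, 1, 1, 1, 2, 2, 2, 2, 2, 0, 2, 0, 0, 0, 0, 1, 1, 1, 1, 1, 2, 2, 2, 2, 2, 2, 0, 0, 0, 0, 0, 1, 1, 1, 1, 1, 2, 2, 2, 2, 2, 2, 0, 0, 0, 0, 0, 1, 1, 1, 1, 1, 2, 2, 2, 2, 2, 2, 0, 0, 0, 0, 0, 1, 1, 1, 0], [0, 0, 0, 0, 1, 1, 1, 1, 2, 2, 2, 2, 3], 1, false),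
    ([0, 0, 0, 0, 0, 1, 1, 1, 1, 1, 2, 2, 2, 2, 2, 0, 2, 0, 0, 0, 0, 1, 1, 1, 1, 1, 2, 2, 2, 2, 2, 2, 0, 0, 0, 0, 0, 1, 1, 1, 1, 1, 2, 2, 2, 2, 2, 2, 0, 0, 0, 0, 0, 1, 1, 1, 1, 1, 2, 2, 2, 2, 2, 2, 0, 0, 0, 0, 0, 1, 1, 1, 0, 0], [0, 0, 0, 1, 1, 1, 1, 2, 2, 2, 2, 3], 1, false),
    ([0, 0, 0, 0, 0, 1, 1, 1, 1, 1, 2, 2, 2, 2, 2, 0, 2, 0, 0, 0, 0, 1, 1, 1, 1, 1, 2, 2, 2, 2, 2, 2, 0, 0, 0, 0, 0, 1, 1, 1, 1, 1, 2, 2, 2, 2, 2, 2, 0, 0, 0, 0, 0, 1, 1, 1, 1, 1, 2, 2, 2, 2, 2, 2, 0, 0, 0, 0, 0, 1, 1, 1, 0, 0, 0], [0, 0, 1, 1, 1, 1, 2, 2, 2, 2, 3], 1, false),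
    ([0, 0, 0, 0, 0, 1, 1, 1, 1, 1, 2, 2, 2, 2, 2, 0, 2, 0, 0, 0, 0, 1, 1, 1, 1, 1, 2, 2, 2, 2, 2, 2, 0, 0, 0, 0, 0, 1, 1, 1, 1, 1, 2, 2, 2, 2, 2, 2, 0, 0, 0, 0, 0, 1, 1, 1, 1, 1, 2, 2, 2, 2, 2, 2, 0, 0, 0, 0, 0, 1, 1, 1, 0, 0, 0, 0], [0, 1, 1, 1, 1, 2, 2, 2, 2, 3], 1, false),
    ([0, 0, 0, 0, 0, 1, 1, 1, 1, 1, 2, 2, 2, 2, 2, 0, 2, 0, 0, 0, 0, 1, 1, 1, 1, 1, 2, 2, 2, 2, 2, 2, 0, 0, 0, 0, 0, 1, 1, 1, 1, 1, 2, 2, 2, 2, 2, 2, 0, 0, 0, 0, 0, 1, 1, 1, 1, 1, 2, 2, 2, 2, 2, 2, 0, 0, 0, 0, 0, 1, 1, 1, 0, 0, 0, 0, 0], [1, 1, 1, 1, 2, 2, 2, 2, 3], 1, false),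
    ([0, 0, 0, 0, 0, 1, 1, 1, 1, 1, 2, 2, 2, 2, 2, 0, 2, 0, 0, 0, 0, 1, 1, 1, 1, 1, 2, 2, 2, 2, 2, 2, 0, 0, 0, 0, 0, 1, 1, 1, 1, 1, 2, 2, 2, 2, 2, 2, 0, 0, 0, 0, 0, 1, 1, 1, 1, 1, 2, 2, 2, 2, 2, 2, 0, 0, 0, 0, 0, 1, 1], [0, 0, 0, 0, 0, 1, 1, 1, 1, 1, 2, 2, 2, 2, 3], 1, false),
    ([0, 0, 0, 0, 0, 1, 1, 1, 1, 1, 2, 2, 2, 2, 2, 0, 2, 0, 0, 0, 0, 1, 1, 1, 1, 1, 2, 2, 2, 2, 2, 2, 0, 0, 0, 0, 0, 1, 1, 1, 1, 1, 2, 2, 2, 2, 2, 2, 0, 0, 0, 0, 0, 1, 1, 1, 1, 1, 2, 2, 2, 2, 2, 2, 0, 0, 0, 0, 0, 1, 1, 0], [0, 0, 0, 0, 1, 1, 1, 1, 1, 2, 2, 2, 2, 3], 1, false),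
    ([0, 0, 0, 0, 0, 1, 1, 1, 1, 1, 2, 2, 2, 2, 2, 0, 2, 0, 0, 0, 0, 1, 1, 1, 1, 1, 2, 2, 2, 2, 2, 2, 0, 0, 0, 0, 0, 1, 1, 1, 1, 1, 2, 2, 2, 2, 2, 2, 0, 0, 0, 0, 0, 1, 1, 1, 1, 1, 2, 2, 2, 2, 2, 2, 0, 0, 0, 0, 0, 1, 1, 0, 0], [0, 0, 0, 1, 1, 1, 1, 1, 2, 2, 2, 2, 3], 1, false),
    ([0, 0, 0, 0, 0, 1, 1, 1, 1, 1, 2, 2, 2, 2, 2, 0, 2, 0, 0, 0, 0, 1, 1, 1, 1, 1, 2, 2, 2, 2, 2, 2, 0, 0, 0, 0, 0, 1, 1, 1, 1, 1, 2, 2, 2, 2, 2, 2, 0, 0, 0, 0, 0, 1, 1, 1, 1, 1, 2, 2, 2, 2, 2, 2, 0, 0, 0, 0, 0, 1, 1, 0, 0, 0], [0, 0, 1, 1, 1, 1, 1, 2, 2, 2, 2, 3], 1, false),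
    ([0, 0, 0, 0, 0, 1, 1, 1, 1, 1, 2, 2, 2, 2, 2, 0, 2, 0, 0, 0, 0, 1, 1, 1, 1, 1, 2, 2, 2, 2, 2, 2, 0, 0, 0, 0, 0, 1, 1, 1, 1, 1, 2, 2, 2, 2, 2, 2, 0, 0, 0, 0, 0, 1, 1, 1, 1, 1, 2, 2, 2, 2, 2, 2, 0, 0, 0, 0, 0, 1, 1, 0, 0, 0, 0], [0, 1, 1, 1, 1, 1, 2, 2, 2, 2, 3], 1, false),
    ([0, 0, 0, 0, 0, 1, 1, 1, 1, 1, 2, 2, 2, 2, 2, 0, 2, 0, 0, 0, 0, 1, 1, 1, 1, 1, 2, 2, 2, 2, 2, 2, 0, 0, 0, 0, 0, 1, 1, 1, 1, 1, 2, 2, 2, 2, 2, 2, 0, 0, 0, 0, 0, 1, 1, 1, 1, 1, 2, 2, 2, 2, 2, 2, 0, 0, 0, 0, 0, 1, 1, 0, 0, 0, 0, 0], [1, 1, 1, 1, 1, 2, 2, 2, 2, 3], 1, false),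
    ([0, 0, 0, 0, 0, 1, 1, 1, 1, 1, 2, 2, 2, 2, 2, 0, 2, 0, 0, 0, 0, 1, 1, 1, 1, 1, 2, 2, 2, 2, 2, 2, 0, 0, 0, 0, 0, 1, 1, 1, 1, 1, 2, 2, 2, 2, 2, 2, 0, 0, 0, 0, 0, 1, 1, 1, 1, 1, 2, 2, 2, 2, 2, 2, 0, 0, 0, 0, 0, 1], [0, 0, 0, 0, 0, 1, 1, 1, 1, 1, 1, 2, 2, 2, 2, 3], 1, false),
    ([0, 0, 0, 0, 0, 1, 1, 1, 1, 1, 2, 2, 2, 2, 2, 0, 2, 0, 0, 0, 0, 1, 1, 1, 1, 1, 2, 2, 2, 2, 2, 2, 0, 0, 0, 0, 0, 1, 1, 1, 1, 1, 2, 2, 2, 2, 2, 2, 0, 0, 0, 0, 0, 1, 1, 1, 1, 1, 2, 2, 2, 2, 2, 2, 0, 0, 0, 0, 0, 1, 0], [0, 0, 0, 0, 1, 1, 1, 1, 1, 1, 2, 2, 2, 2, 3], 1, false),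
    ([0, 0, 0, 0, 0, 1, 1, 1, 1, 1, 2, 2, 2, 2, 2, 0, 2, 0, 0, 0, 0, 1, 1, 1, 1, 1, 2, 2, 2, 2, 2, 2, 0, 0, 0, 0, 0, 1, 1, 1, 1, 1, 2, 2, 2, 2, 2, 2, 0, 0, 0, 0, 0, 1, 1, 1, 1, 1, 2, 2, 2, 2, 2, 2, 0, 0, 0, 0, 0, 1, 0, 0], [0, 0, 0, 1, 1, 1, 1, 1, 1, 2, 2, 2, 2, 3], 1, false),
    ([0, 0, 0, 0, 0, 1, 1, 1, 1, 1, 2, 2, 2, 2, 2, 0, 2, 0, 0, 0, 0, 1, 1, 1, 1, 1, 2, 2, 2, 2, 2, 2, 0, 0, 0, 0, 0, 1, 1, 1, 1, 1, 2, 2, 2, 2, 2, 2, 0, 0, 0, 0, 0, 1, 1, 1, 1, 1, 2, 2, 2, 2, 2, 2, 0, 0, 0, 0, 0, 1, 0, 0, 0], [0, 0, 1, 1, 1, 1, 1, 1, 2, 2, 2, 2, 3], 1, false),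
    ([0, 0, 0, 0, 0, 1, 1, 1, 1, 1, 2, 2, 2, 2, 2, 0, 2, 0, 0, 0, 0, 1, 1, 1, 1, 1, 2, 2, 2, 2, 2, 2, 0, 0, 0, 0, 0, 1, 1, 1, 1, 1, 2, 2, 2, 2, 2, 2, 0, 0, 0, 0, 0, 1, 1, 1, 1, 1, 2, 2, 2, 2, 2, 2, 0, 0, 0, 0, 0, 1, 0, 0, 0, 0], [0, 1, 1, 1, 1, 1, 1, 2, 2, 2, 2, 3], 1, false),
    ([0, 0, 0, 0, 0, 1, 1, 1, 1, 1, 2, 2, 2, 2, 2, 0, 2, 0, 0, 0, 0, 1, 1, 1, 1, 1, 2, 2, 2, 2, 2, 2, 0, 0, 0, 0, 0, 1, 1, 1, 1, 1, 2, 2, 2, 2, 2, 2, 0, 0, 0, 0, 0, 1, 1, 1, 1, 1, 2, 2, 2, 2, 2, 2, 0, 0, 0, 0, 0, 1, 0, 0, 0, 0, 0], [1, 1, 1, 1, 1, 1, 2, 2, 2, 2, 3], 1, false),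
    ([0, 0, 0, 0, 0, 1, 1, 1, 1, 1, 2, 2, 2, 2, 2, 0, 2, 0, 0, 0, 0, 1, 1, 1, 1, 1, 2, 2, 2, 2, 2, 2, 0, 0, 0, 0, 0, 1, 1, 1, 1, 1, 2, 2, 2, 2, 2, 2, 0, 0, 0, 0, 0, 1, 1, 1, 1, 1, 2, 2, 2, 2, 2, 2, 0, 0, 0, 0, 0, 1, 0, 0, 0, 0, 0, 0], [2, 2, 2, 2, 3], 2, false),
    ([0, 0, 0, 0, 0, 1, 1, 1, 1, 1, 2, 2, 2, 2, 2, 0, 2, 0, 0, 0, 0, 1, 1, 1, 1, 1, 2, 2, 2, 2, 2, 2, 0, 0, 0, 0, 0, 1, 1, 1, 1, 1, 2, 2, 2, 2, 2, 2, 0, 0, 0, 0, 0, 1, 1, 1, 1, 1, 2, 2, 2, 2, 2, 2, 0, 0, 0, 0, 0], [0, 0, 0, 0, 0, 2, 2, 2, 2, 3], 1, false),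
    ([0, 0, 0, 0, 0, 1, 1, 1, 1, 1, 2, 2, 2, 2, 2, 0, 2, 0, 0, 0, 0, 1, 1, 1, 1, 1, 2, 2, 2, 2, 2, 2, 0, 0, 0, 0, 0, 1, 1, 1, 1, 1, 2, 2, 2, 2, 2, 2, 0, 0, 0, 0, 0, 1, 1, 1, 1, 1, 2, 2, 2, 2, 2, 2, 0, 0, 0, 0, 0, 0], [0, 0, 0, 0, 2, 2, 2, 2, 3], 1, false),
    ([0, 0, 0, 0, 0, 1, 1, 1, 1, 1, 2, 2, 2, 2, 2, 0, 2, 0, 0, 0, 0, 1, 1, 1, 1, 1, 2, 2, 2, 2, 2, 2, 0, 0, 0, 0, 0, 1, 1, 1, 1, 1, 2, 2, 2, 2, 2, 2, 0, 0, 0, 0, 0, 1, 1, 1, 1, 1, 2, 2, 2, 2, 2, 2, 0, 0, 0, 0, 0, 0, 0], [0, 0, 0, 2, 2, 2, 2, 3], 1, false),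
    ([0, 0, 0, 0, 0, 1, 1, 1, 1, 1, 2, 2, 2, 2, 2, 0, 2, 0, 0, 0, 0, 1, 1, 1, 1, 1, 2, 2, 2, 2, 2, 2, 0, 0, 0, 0, 0, 1, 1, 1, 1, 1, 2, 2, 2, 2, 2, 2, 0, 0, 0, 0, 0, 1, 1, 1, 1, 1, 2, 2, 2, 2, 2, 2, 0, 0, 0, 0, 0, 0, 0, 0], [0, 0, 2, 2, 2, 2, 3], 1, false),
    ([0, 0, 0, 0, 0, 1, 1, 1, 1, 1, 2, 2, 2, 2, 2, 0, 2, 0, 0, 0, 0, 1, 1, 1, 1, 1, 2, 2, 2, 2, 2, 2, 0, 0, 0, 0, 0, 1, 1, 1, 1, 1, 2, 2, 2, 2, 2, 2, 0, 0, 0, 0, 0, 1, 1, 1, 1, 1, 2, 2, 2, 2, 2, 2, 0, 0, 0, 0, 0, 0, 0, 0, 0], [0, 2, 2, 2, 2, 3], 1, false),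
    ([0, 0, 0, 0, 0, 1, 1, 1, 1, 1, 2, 2, 2, 2, 2, 0, 2, 0, 0, 0, 0, 1, 1, 1, 1, 1, 2, 2, 2, 2, 2, 2, 0, 0, 0, 0, 0, 1, 1, 1, 1, 1, 2, 2, 2, 2, 2, 2, 0, 0, 0, 0, 0, 1, 1, 1, 1, 1, 2, 2, 2, 2, 2, 2, 0, 0, 0, 0, 0, 0, 0, 0, 0, 0], [2, 2, 2, 2, 3], 1, false),
    ([0, 0, 0, 0, 0, 1, 1, 1, 1, 1, 2, 2, 2, 2, 2, 0, 2, 0, 0, 0, 0, 1, 1, 1, 1, 1, 2, 2, 2, 2, 2, 2, 0, 0, 0, 0, 0, 1, 1, 1, 1, 1, 2, 2, 2, 2, 2, 2, 0, 0, 0, 0, 0, 1, 1, 1, 1, 1, 2, 2, 2, 2, 2, 2, 0, 0, 0, 0], [1, 2, 2, 2, 2, 3], 0, false),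
    ([0, 0, 0, 0, 0, 1, 1, 1, 1, 1, 2, 2, 2, 2, 2, 0, 2, 0, 0, 0, 0, 1, 1, 1, 1, 1, 2, 2, 2, 2, 2, 2, 0, 0, 0, 0, 0, 1, 1, 1, 1, 1, 2, 2, 2, 2, 2, 2, 0, 0, 0, 0, 0, 1, 1, 1, 1, 1, 2, 2, 2, 2, 2], [0, 0, 0, 1, 2, 2, 2, 2, 3], 3, false),
    ([0, 0, 0, 0, 0, 1, 1, 1, 1, 1, 2, 2, 2, 2, 2, 0, 2, 0, 0, 0, 0, 1, 1, 1, 1, 1, 2, 2, 2, 2, 2, 2, 0, 0, 0, 0, 0, 1, 1, 1, 1, 1, 2, 2, 2, 2, 2, 2, 0, 0, 0, 0, 0, 1, 1, 1, 1, 1, 2, 2, 2, 2, 2, 0], [0, 0, 1, 2, 2, 2, 2, 3], 3, false),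
    ([0, 0, 0, 0, 0, 1, 1, 1, 1, 1, 2, 2, 2, 2, 2, 0, 2, 0, 0, 0, 0, 1, 1, 1, 1, 1, 2, 2, 2, 2, 2, 2, 0, 0, 0, 0, 0, 1, 1, 1, 1, 1, 2, 2, 2, 2, 2, 2, 0, 0, 0, 0, 0, 1, 1, 1, 1, 1, 2, 2, 2, 2, 2, 0, 0], [0, 1, 2, 2, 2, 2, 3], 3, false),
    ([0, 0, 0, 0, 0, 1, 1, 1, 1, 1, 2, 2, 2, 2, 2, 0, 2, 0, 0, 0, 0, 1, 1, 1, 1, 1, 2, 2, 2, 2, 2, 2, 0, 0, 0, 0, 0, 1, 1, 1, 1, 1, 2, 2, 2, 2, 2, 2, 0, 0, 0, 0, 0, 1, 1, 1, 1, 1, 2, 2, 2, 2, 2, 0, 0, 0], [1, 2, 2, 2, 2, 3], 3, false),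
    ([0, 0, 0, 0, 0, 1, 1, 1, 1, 1, 2, 2, 2, 2, 2, 0, 2, 0, 0, 0, 0, 1, 1, 1, 1, 1, 2, 2, 2, 2, 2, 2, 0, 0, 0, 0, 0, 1, 1, 1, 1, 1, 2, 2, 2, 2, 2, 2, 0, 0, 0, 0, 0, 1, 1, 1, 1, 1, 2, 2, 2, 2, 2, 0, 0, 0, 0], [2, 2, 2, 2, 3], 4, false),
    ([0, 0, 0, 0, 0, 1, 1, 1, 1, 1, 2, 2, 2, 2, 2, 0, 2, 0, 0, 0, 0, 1, 1, 1, 1, 1, 2, 2, 2, 2, 2, 2, 0, 0, 0, 0, 0, 1, 1, 1, 1, 1, 2, 2, 2, 2, 2, 2, 0, 0, 0, 0, 0, 1, 1, 1, 1, 1, 2, 2, 2, 2, 2, 0], [1, 2, 2, 2, 2, 2, 3], 0, false),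
    ([0, 0, 0, 0, 0, 1, 1, 1, 1, 1, 2, 2, 2, 2, 2, 0, 2, 0, 0, 0, 0, 1, 1, 1, 1, 1, 2, 2, 2, 2, 2, 2, 0, 0, 0, 0, 0, 1, 1, 1, 1, 1, 2, 2, 2, 2, 2, 2, 0, 0, 0, 0, 0, 1, 1, 1, 1, 1, 2, 2, 2, 2], [1, 2, 2, 2, 2, 2, 3], 3, false),
    ([0, 0, 0, 0, 0, 1, 1, 1, 1, 1, 2, 2, 2, 2, 2, 0, 2, 0, 0, 0, 0, 1, 1, 1, 1, 1, 2, 2, 2, 2, 2, 2, 0, 0, 0, 0, 0, 1, 1, 1, 1, 1, 2, 2, 2, 2, 2, 2, 0, 0, 0, 0, 0, 1, 1, 1, 1, 1, 2, 2, 2, 2, 0], [2, 2, 2, 2, 2, 3], 4, false),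
    ([0, 0, 0, 0, 0, 1, 1, 1, 1, 1, 2, 2, 2, 2, 2, 0, 2, 0, 0, 0, 0, 1, 1, 1, 1, 1, 2, 2, 2, 2, 2, 2, 0, 0, 0, 0, 0, 1, 1, 1, 1, 1, 2, 2, 2, 2, 2, 2, 0, 0, 0, 0, 0, 1, 1, 1, 1, 1, 2, 2, 2], [0, 0, 0, 0, 1, 2, 2, 2, 2, 2, 2, 3], 3, false),
    ([0, 0, 0, 0, 0, 1, 1, 1, 1, 1, 2, 2, 2, 2, 2, 0, 2, 0, 0, 0, 0, 1, 1, 1, 1, 1, 2, 2, 2, 2, 2, 2, 0, 0, 0, 0, 0, 1, 1, 1, 1, 1, 2, 2, 2, 2, 2, 2, 0, 0, 0, 0, 0, 1, 1, 1, 1, 1, 2, 2, 2, 0], [0, 0, 0, 1, 2, 2, 2, 2, 2, 2, 3], 3, false),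
    ([0, 0, 0, 0, 0, 1, 1, 1, 1, 1, 2, 2, 2, 2, 2, 0, 2, 0, 0, 0, 0, 1, 1, 1, 1, 1, 2, 2, 2, 2, 2, 2, 0, 0, 0, 0, 0, 1, 1, 1, 1, 1, 2, 2, 2, 2, 2, 2, 0, 0, 0, 0, 0, 1, 1, 1, 1, 1, 2, 2, 2, 0, 0], [0, 0, 1, 2, 2, 2, 2, 2, 2, 3], 3, false),
    ([0, 0, 0, 0, 0, 1, 1, 1, 1, 1, 2, 2, 2, 2, 2, 0, 2, 0, 0, 0, 0, 1, 1, 1, 1, 1, 2, 2, 2, 2, 2, 2, 0, 0, 0, 0, 0, 1, 1, 1, 1, 1, 2, 2, 2, 2, 2, 2, 0, 0, 0, 0, 0, 1, 1, 1, 1, 1, 2, 2, 2, 0, 0, 0], [0, 1, 2, 2, 2, 2, 2, 2, 3], 3, false),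
    ([0, 0, 0, 0, 0, 1, 1, 1, 1, 1, 2, 2, 2, 2, 2, 0, 2, 0, 0, 0, 0, 1, 1, 1, 1, 1, 2, 2, 2, 2, 2, 2, 0, 0, 0, 0, 0, 1, 1, 1, 1, 1, 2, 2, 2, 2, 2, 2, 0, 0, 0, 0, 0, 1, 1, 1, 1, 1, 2, 2, 2, 0, 0, 0, 0], [1, 2, 2, 2, 2, 2, 2, 3], 3, false),
    ([0, 0, 0, 0, 0, 1, 1, 1, 1, 1, 2, 2, 2, 2, 2, 0, 2, 0, 0, 0, 0, 1, 1, 1, 1, 1, 2, 2, 2, 2, 2, 2, 0, 0, 0, 0, 0, 1, 1, 1, 1, 1, 2, 2, 2, 2, 2, 2, 0, 0, 0, 0, 0, 1, 1, 1, 1, 1, 2, 2, 2, 0, 0, 0, 0, 0], [2, 2, 2, 2, 2, 2, 3], 4, false),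
    ([0, 0, 0, 0, 0, 1, 1, 1, 1, 1, 2, 2, 2, 2, 2, 0, 2, 0, 0, 0, 0, 1, 1, 1, 1, 1, 2, 2, 2, 2, 2, 2, 0, 0, 0, 0, 0, 1, 1, 1, 1, 1, 2, 2, 2, 2, 2, 2, 0, 0, 0, 0, 0, 1, 1, 1, 1, 1, 2, 2, 2, 0, 0, 0, 0, 0, 0, 0, 0, 0, 1], [3], 5, false),
    ([0, 0, 0, 0, 0, 1, 1, 1, 1, 1, 2, 2, 2, 2, 2, 0, 2, 0, 0, 0, 0, 1, 1, 1, 1, 1, 2, 2, 2, 2, 2, 2, 0, 0, 0, 0, 0, 1, 1, 1, 1, 1, 2, 2, 2, 2, 2, 2, 0, 0, 0, 0, 0, 1, 1, 1, 1, 1, 2, 2, 2, 0, 0], [1, 3], 0, false),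
    ([0, 0, 0, 0, 0, 1, 1, 1, 1, 1, 2, 2, 2, 2, 2, 0, 2, 0, 0, 0, 0, 1, 1, 1, 1, 1, 2, 2, 2, 2, 2, 2, 0, 0, 0, 0, 0, 1, 1, 1, 1, 1, 2, 2, 2, 2, 2, 2, 0, 0, 0, 0, 0, 1, 1, 1, 1, 1, 2, 2], [0, 1, 3], 3, false),
    ([0, 0, 0, 0, 0, 1, 1, 1, 1, 1, 2, 2, 2, 2, 2, 0, 2, 0, 0, 0, 0, 1, 1, 1, 1, 1, 2, 2, 2, 2, 2, 2, 0, 0, 0, 0, 0, 1, 1, 1, 1, 1, 2, 2, 2, 2, 2, 2, 0, 0, 0, 0, 0, 1, 1, 1, 1, 1, 2, 2, 0], [1, 3], 3, false),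
    ([0, 0, 0, 0, 0, 1, 1, 1, 1, 1, 2, 2, 2, 2, 2, 0, 2, 0, 0, 0, 0, 1, 1, 1, 1, 1, 2, 2, 2, 2, 2, 2, 0, 0, 0, 0, 0, 1, 1, 1, 1, 1, 2, 2, 2, 2, 2, 2, 0, 0, 0, 0, 0, 1, 1, 1, 1, 1, 2, 2, 0, 0], [3], 4, false)]

/-- Part of a closed path for the prime 7. -/
def path7_4_5 : List SchurPath.Step :=
  [([0, 0, 0, 0, 0, 1, 1, 1, 1, 1, 2, 2, 2, 2, 2, 0, 2, 0, 0, 0, 0, 1, 1, 1, 1, 1, 2, 2, 2, 2, 2, 2, 0, 0, 0, 0, 0, 1, 1, 1, 1, 1, 2, 2, 2, 2, 2, 2, 0, 0, 0, 0, 0, 1, 1, 1, 1, 1, 2], [0, 0, 0, 0, 0, 1, 2, 3], 3, false),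
    ([0, 0, 0, 0, 0, 1, 1, 1, 1, 1, 2, 2, 2, 2, 2, 0, 2, 0, 0, 0, 0, 1, 1, 1, 1, 1, 2, 2, 2, 2, 2, 2, 0, 0, 0, 0, 0, 1, 1, 1, 1, 1, 2, 2, 2, 2, 2, 2, 0, 0, 0, 0, 0, 1, 1, 1, 1, 1, 2, 0], [0, 0, 0, 0, 1, 2, 3], 3, false),
    ([0, 0, 0, 0, 0, 1, 1, 1, 1, 1, 2, 2, 2, 2, 2, 0, 2, 0, 0, 0, 0, 1, 1, 1, 1, 1, 2, 2, 2, 2, 2, 2, 0, 0, 0, 0, 0, 1, 1, 1, 1, 1, 2, 2, 2, 2, 2, 2, 0, 0, 0, 0, 0, 1, 1, 1, 1, 1, 2, 0, 0], [0, 0, 0, 1, 2, 3], 3, false),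
    ([0, 0, 0, 0, 0, 1, 1, 1, 1, 1, 2, 2, 2, 2, 2, 0, 2, 0, 0, 0, 0, 1, 1, 1, 1, 1, 2, 2, 2, 2, 2, 2, 0, 0, 0, 0, 0, 1, 1, 1, 1, 1, 2, 2, 2, 2, 2, 2, 0, 0, 0, 0, 0, 1, 1, 1, 1, 1, 2, 0, 0, 0], [0, 0, 1, 2, 3], 3, false),
    ([0, 0, 0, 0, 0, 1, 1, 1, 1, 1, 2, 2, 2, 2, 2, 0, 2, 0, 0, 0, 0, 1, 1, 1, 1, 1, 2, 2, 2, 2, 2, 2, 0, 0, 0, 0, 0, 1, 1, 1, 1, 1, 2, 2, 2, 2, 2, 2, 0, 0, 0, 0, 0, 1, 1, 1, 1, 1, 2, 0, 0, 0, 0], [0, 1, 2, 3], 3, false),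
    ([0, 0, 0, 0, 0, 1, 1, 1, 1, 1, 2, 2, 2, 2, 2, 0, 2, 0, 0, 0, 0, 1, 1, 1, 1, 1, 2, 2, 2, 2, 2, 2, 0, 0, 0, 0, 0, 1, 1, 1, 1, 1, 2, 2, 2, 2, 2, 2, 0, 0, 0, 0, 0, 1, 1, 1, 1, 1, 2, 0, 0, 0, 0, 0], [1, 2, 3], 3, false),
    ([0, 0, 0, 0, 0, 1, 1, 1, 1, 1, 2, 2, 2, 2, 2, 0, 2, 0, 0, 0, 0, 1, 1, 1, 1, 1, 2, 2, 2, 2, 2, 2, 0, 0, 0, 0, 0, 1, 1, 1, 1, 1, 2, 2, 2, 2, 2, 2, 0, 0, 0, 0, 0, 1, 1, 1, 1, 1, 2, 0, 0, 0, 0, 0, 0], [2, 3], 4, false),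
    ([0, 0, 0, 0, 0, 1, 1, 1, 1, 1, 2, 2, 2, 2, 2, 0, 2, 0, 0, 0, 0, 1, 1, 1, 1, 1, 2, 2, 2, 2, 2, 2, 0, 0, 0, 0, 0, 1, 1, 1, 1, 1, 2, 2, 2, 2, 2, 2, 0, 0, 0, 0, 0, 1, 1, 1, 1, 1, 2, 0, 0, 0], [1, 2, 2, 3], 0, false),
    ([0, 0, 0, 0, 0, 1, 1, 1, 1, 1, 2, 2, 2, 2, 2, 0, 2, 0, 0, 0, 0, 1, 1, 1, 1, 1, 2, 2, 2, 2, 2, 2, 0, 0, 0, 0, 0, 1, 1, 1, 1, 1, 2, 2, 2, 2, 2, 2, 0, 0, 0, 0, 0, 1, 1, 1, 1, 1], [0, 0, 1, 2, 2, 3], 3, false),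
    ([0, 0, 0, 0, 0, 1, 1, 1, 1, 1, 2, 2, 2, 2, 2, 0, 2, 0, 0, 0, 0, 1, 1, 1, 1, 1, 2, 2, 2, 2, 2, 2, 0, 0, 0, 0, 0, 1, 1, 1, 1, 1, 2, 2, 2, 2, 2, 2, 0, 0, 0, 0, 0, 1, 1, 1, 1, 1, 0], [0, 1, 2, 2, 3], 3, false),
    ([0, 0, 0, 0, 0, 1, 1, 1, 1, 1, 2, 2, 2, 2, 2, 0, 2, 0, 0, 0, 0, 1, 1, 1, 1, 1, 2, 2, 2, 2, 2, 2, 0, 0, 0, 0, 0, 1, 1, 1, 1, 1, 2, 2, 2, 2, 2, 2, 0, 0, 0, 0, 0, 1, 1, 1, 1, 1, 0, 0], [1, 2, 2, 3], 3, false),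
    ([0, 0, 0, 0, 0, 1, 1, 1, 1, 1, 2, 2, 2, 2, 2, 0, 2, 0, 0, 0, 0, 1, 1, 1, 1, 1, 2, 2, 2, 2, 2, 2, 0, 0, 0, 0, 0, 1, 1, 1, 1, 1, 2, 2, 2, 2, 2, 2, 0, 0, 0, 0, 0, 1, 1, 1, 1, 1, 0, 0, 0], [2, 2, 3], 4, false),
    ([0, 0, 0, 0, 0, 1, 1, 1, 1, 1, 2, 2, 2, 2, 2, 0, 2, 0, 0, 0, 0, 1, 1, 1, 1, 1, 2, 2, 2, 2, 2, 2, 0, 0, 0, 0, 0, 1, 1, 1, 1, 1, 2, 2, 2, 2, 2, 2, 0, 0, 0, 0, 0, 1, 1, 1, 1, 1], [1, 2, 2, 2, 3], 0, false),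
    ([0, 0, 0, 0, 0, 1, 1, 1, 1, 1, 2, 2, 2, 2, 2, 0, 2, 0, 0, 0, 0, 1, 1, 1, 1, 1, 2, 2, 2, 2, 2, 2, 0, 0, 0, 0, 0, 1, 1, 1, 1, 1, 2, 2, 2, 2, 2], [0, 0, 0, 0, 1, 1, 1, 1, 1, 1, 2, 2, 2, 3], 3, false),
    ([0, 0, 0, 0, 0, 1, 1, 1, 1, 1, 2, 2, 2, 2, 2, 0, 2, 0, 0, 0, 0, 1, 1, 1, 1, 1, 2, 2, 2, 2, 2, 2, 0, 0, 0, 0, 0, 1, 1, 1, 1, 1, 2, 2, 2, 2, 2, 0], [0, 0, 0, 1, 1, 1, 1, 1, 1, 2, 2, 2, 3], 3, false),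
    ([0, 0, 0, 0, 0, 1, 1, 1, 1, 1, 2, 2, 2, 2, 2, 0, 2, 0, 0, 0, 0, 1, 1, 1, 1, 1, 2, 2, 2, 2, 2, 2, 0, 0, 0, 0, 0, 1, 1, 1, 1, 1, 2, 2, 2, 2, 2, 0, 0], [0, 0, 1, 1, 1, 1, 1, 1, 2, 2, 2, 3], 3, false),
    ([0, 0, 0, 0, 0, 1, 1, 1, 1, 1, 2, 2, 2, 2, 2, 0, 2, 0, 0, 0, 0, 1, 1, 1, 1, 1, 2, 2, 2, 2, 2, 2, 0, 0, 0, 0, 0, 1, 1, 1, 1, 1, 2, 2, 2, 2, 2, 0, 0, 0], [0, 1, 1, 1, 1, 1, 1, 2, 2, 2, 3], 3, false),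
    ([0, 0, 0, 0, 0, 1, 1, 1, 1, 1, 2, 2, 2, 2, 2, 0, 2, 0, 0, 0, 0, 1, 1, 1, 1, 1, 2, 2, 2, 2, 2, 2, 0, 0, 0, 0, 0, 1, 1, 1, 1, 1, 2, 2, 2, 2, 2, 0, 0, 0, 0], [1, 1, 1, 1, 1, 1, 2, 2, 2, 3], 3, false),
    ([0, 0, 0, 0, 0, 1, 1, 1, 1, 1, 2, 2, 2, 2, 2, 0, 2, 0, 0, 0, 0, 1, 1, 1, 1, 1, 2, 2, 2, 2, 2, 2, 0, 0, 0, 0, 0, 1, 1, 1, 1, 1, 2, 2, 2, 2, 2, 0, 0, 0, 0, 0], [1, 1, 1, 1, 1, 2, 2, 2, 3], 4, false),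
    ([0, 0, 0, 0, 0, 1, 1, 1, 1, 1, 2, 2, 2, 2, 2, 0, 2, 0, 0, 0, 0, 1, 1, 1, 1, 1, 2, 2, 2, 2, 2, 2, 0, 0, 0, 0, 0, 1, 1, 1, 1, 1, 2, 2, 2, 2, 2, 0, 0, 0, 0, 0, 0, 0, 0, 0, 1], [1, 1, 1, 1, 2, 2, 2, 3], 4, false),
    ([0, 0, 0, 0, 0, 1, 1, 1, 1, 1, 2, 2, 2, 2, 2, 0, 2, 0, 0, 0, 0, 1, 1, 1, 1, 1, 2, 2, 2, 2, 2, 2, 0, 0, 0, 0, 0, 1, 1, 1, 1, 1, 2, 2, 2, 2, 2, 0, 0, 0, 0, 0, 0, 0, 0, 0, 1, 0, 0, 0, 0, 1], [1, 1, 1, 2, 2, 2, 3], 4, false),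
    ([0, 0, 0, 0, 0, 1, 1, 1, 1, 1, 2, 2, 2, 2, 2, 0, 2, 0, 0, 0, 0, 1, 1, 1, 1, 1, 2, 2, 2, 2, 2, 2, 0, 0, 0, 0, 0, 1, 1, 1, 1, 1, 2, 2, 2, 2, 2, 0, 0, 0, 0, 0, 0, 0, 0, 0, 1, 0, 0, 0, 0, 1, 0, 0, 0, 0, 1], [1, 1, 2, 2, 2, 3], 4, false),
    ([0, 0, 0, 0, 0, 1, 1, 1, 1, 1, 2, 2, 2, 2, 2, 0, 2, 0, 0, 0, 0, 1, 1, 1, 1, 1, 2, 2, 2, 2, 2, 2, 0, 0, 0, 0, 0, 1, 1, 1, 1, 1, 2, 2, 2, 2, 2, 0, 0, 0, 0, 0, 0, 0, 0, 0, 1, 0, 0, 0, 0, 1, 0, 0, 0, 0, 1, 0, 0, 0, 0, 1], [1, 2, 2, 2, 3], 4, false),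
    ([0, 0, 0, 0, 0, 1, 1, 1, 1, 1, 2, 2, 2, 2, 2, 0, 2, 0, 0, 0, 0, 1, 1, 1, 1, 1, 2, 2, 2, 2, 2, 2, 0, 0, 0, 0, 0, 1, 1, 1, 1, 1, 2, 2, 2, 2, 2, 0, 0, 0, 0, 0, 0, 0, 0, 0, 1, 0, 0, 0, 0, 1, 0, 0, 0, 0, 1, 0, 0, 0, 0, 1, 0, 0, 0, 0, 1], [2, 2, 2, 3], 4, false),
    ([0, 0, 0, 0, 0, 1, 1, 1, 1, 1, 2, 2, 2, 2, 2, 0, 2, 0, 0, 0, 0, 1, 1, 1, 1, 1, 2, 2, 2, 2, 2, 2, 0, 0, 0, 0, 0, 1, 1, 1, 1, 1, 2, 2, 2, 2, 2, 0, 0, 0, 0, 0, 0, 0, 0, 0, 1, 0, 0, 0, 0, 1, 0, 0, 0, 0, 1, 0, 0, 0, 0, 1, 0, 0, 0, 0], [0, 0, 0, 1, 2, 2, 2, 2, 3], 1, false),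
    ([0, 0, 0, 0, 0, 1, 1, 1, 1, 1, 2, 2, 2, 2, 2, 0, 2, 0, 0, 0, 0, 1, 1, 1, 1, 1, 2, 2, 2, 2, 2, 2, 0, 0, 0, 0, 0, 1, 1, 1, 1, 1, 2, 2, 2, 2, 2, 0, 0, 0, 0, 0, 0, 0, 0, 0, 1, 0, 0, 0, 0, 1, 0, 0, 0, 0, 1, 0, 0, 0, 0, 1, 0, 0, 0, 0, 0], [0, 0, 1, 2, 2, 2, 2, 3], 1, false),
    ([0, 0, 0, 0, 0, 1, 1, 1, 1, 1, 2, 2, 2, 2, 2, 0, 2, 0, 0, 0, 0, 1, 1, 1, 1, 1, 2, 2, 2, 2, 2, 2, 0, 0, 0, 0, 0, 1, 1, 1, 1, 1, 2, 2, 2, 2, 2, 0, 0, 0, 0, 0, 0, 0, 0, 0, 1, 0, 0, 0, 0, 1, 0, 0, 0, 0, 1, 0, 0, 0, 0, 1, 0, 0, 0, 0, 0, 0], [0, 1, 2, 2, 2, 2, 3], 1, false),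
    ([0, 0, 0, 0, 0, 1, 1, 1, 1, 1, 2, 2, 2, 2, 2, 0, 2, 0, 0, 0, 0, 1, 1, 1, 1, 1, 2, 2, 2, 2, 2, 2, 0, 0, 0, 0, 0, 1, 1, 1, 1, 1, 2, 2, 2, 2, 2, 0, 0, 0, 0, 0, 0, 0, 0, 0, 1, 0, 0, 0, 0, 1, 0, 0, 0, 0, 1, 0, 0, 0, 0, 1, 0, 0, 0, 0, 0, 0, 0], [1, 2, 2, 2, 2, 3], 1, false),
    ([0, 0, 0, 0, 0, 1, 1, 1, 1, 1, 2, 2, 2, 2, 2, 0, 2, 0, 0, 0, 0, 1, 1, 1, 1, 1, 2, 2, 2, 2, 2, 2, 0, 0, 0, 0, 0, 1, 1, 1, 1, 1, 2, 2, 2, 2, 2, 0, 0, 0, 0, 0, 0, 0, 0, 0, 1, 0, 0, 0, 0, 1, 0, 0, 0, 0, 1, 0, 0, 0, 0, 1, 0], [1, 1, 2, 2, 2, 2, 3], 0, false),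
    ([0, 0, 0, 0, 0, 1, 1, 1, 1, 1, 2, 2, 2, 2, 2, 0, 2, 0, 0, 0, 0, 1, 1, 1, 1, 1, 2, 2, 2, 2, 2, 2, 0, 0, 0, 0, 0, 1, 1, 1, 1, 1, 2, 2, 2, 2, 2, 0, 0, 0, 0, 0, 0, 0, 0, 0, 1, 0, 0, 0, 0, 1, 0, 0, 0, 0, 1, 0, 0, 0, 0], [1, 1, 2, 2, 2, 2, 3], 1, false),
    ([0, 0, 0, 0, 0, 1, 1, 1, 1, 1, 2, 2, 2, 2, 2, 0, 2, 0, 0, 0, 0, 1, 1, 1, 1, 1, 2, 2, 2, 2, 2, 2, 0, 0, 0, 0, 0, 1, 1, 1, 1, 1, 2, 2, 2, 2, 2, 0, 0, 0, 0, 0, 0, 0, 0, 0, 1, 0, 0, 0, 0, 1, 0, 0, 0, 0], [0, 0, 0, 0, 1, 1, 1, 2, 2, 2, 2, 3], 1, false),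
    ([0, 0, 0, 0, 0, 1, 1, 1, 1, 1, 2, 2, 2, 2, 2, 0, 2, 0, 0, 0, 0, 1, 1, 1, 1, 1, 2, 2, 2, 2, 2, 2, 0, 0, 0, 0, 0, 1, 1, 1, 1, 1, 2, 2, 2, 2, 2, 0, 0, 0, 0, 0, 0, 0, 0, 0, 1, 0, 0, 0, 0, 1, 0, 0, 0, 0, 0], [0, 0, 0, 1, 1, 1, 2, 2, 2, 2, 3], 1, false),
    ([0, 0, 0, 0, 0, 1, 1, 1, 1, 1, 2, 2, 2, 2, 2, 0, 2, 0, 0, 0, 0, 1, 1, 1, 1, 1, 2, 2, 2, 2, 2, 2, 0, 0, 0, 0, 0, 1, 1, 1, 1, 1, 2, 2, 2, 2, 2, 0, 0, 0, 0, 0, 0, 0, 0, 0, 1, 0, 0, 0, 0, 1, 0, 0, 0, 0, 0, 0], [0, 0, 1, 1, 1, 2, 2, 2, 2, 3], 1, false),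
    ([0, 0, 0, 0, 0, 1, 1, 1, 1, 1, 2, 2, 2, 2, 2, 0, 2, 0, 0, 0, 0, 1, 1, 1, 1, 1, 2, 2, 2, 2, 2, 2, 0, 0, 0, 0, 0, 1, 1, 1, 1, 1, 2, 2, 2, 2, 2, 0, 0, 0, 0, 0, 0, 0, 0, 0, 1, 0, 0, 0, 0, 1, 0, 0, 0, 0, 0, 0, 0], [0, 1, 1, 1, 2, 2, 2, 2, 3], 1, false),
    ([0, 0, 0, 0, 0, 1, 1, 1, 1, 1, 2, 2, 2, 2, 2, 0, 2, 0, 0, 0, 0, 1, 1, 1, 1, 1, 2, 2, 2, 2, 2, 2, 0, 0, 0, 0, 0, 1, 1, 1, 1, 1, 2, 2, 2, 2, 2, 0, 0, 0, 0, 0, 0, 0, 0, 0, 1, 0, 0, 0, 0, 1, 0, 0, 0, 0, 0, 0, 0, 0], [1, 1, 1, 2, 2, 2, 2, 3], 1, false),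
    ([0, 0, 0, 0, 0, 1, 1, 1, 1, 1, 2, 2, 2, 2, 2, 0, 2, 0, 0, 0, 0, 1, 1, 1, 1, 1, 2, 2, 2, 2, 2, 2, 0, 0, 0, 0, 0, 1, 1, 1, 1, 1, 2, 2, 2, 2, 2, 0, 0, 0, 0, 0, 0, 0, 0, 0, 1, 0, 0, 0, 0, 1, 0, 0], [1, 1, 1, 1, 2, 2, 2, 2, 3], 0, false),
    ([0, 0, 0, 0, 0, 1, 1, 1, 1, 1, 2, 2, 2, 2, 2, 0, 2, 0, 0, 0, 0, 1, 1, 1, 1, 1, 2, 2, 2, 2, 2, 2, 0, 0, 0, 0, 0, 1, 1, 1, 1, 1, 2, 2, 2, 2, 2, 0, 0, 0, 0, 0, 0, 0, 0, 0, 1, 0, 0, 0, 0], [0, 1, 1, 1, 1, 2, 2, 2, 2, 3], 1, false),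
    ([0, 0, 0, 0, 0, 1, 1, 1, 1, 1, 2, 2, 2, 2, 2, 0, 2, 0, 0, 0, 0, 1, 1, 1, 1, 1, 2, 2, 2, 2, 2, 2, 0, 0, 0, 0, 0, 1, 1, 1, 1, 1, 2, 2, 2, 2, 2, 0, 0, 0, 0, 0, 0, 0, 0, 0, 1, 0, 0, 0, 0, 0], [1, 1, 1, 1, 2, 2, 2, 2, 3], 1, false),
    ([0, 0, 0, 0, 0, 1, 1, 1, 1, 1, 2, 2, 2, 2, 2, 0, 2, 0, 0, 0, 0, 1, 1, 1, 1, 1, 2, 2, 2, 2, 2, 2, 0, 0, 0, 0, 0, 1, 1, 1, 1, 1, 2, 2, 2, 2, 2, 0, 0, 0, 0, 0, 0, 0, 0, 0], [0, 0, 0, 0, 0, 1, 1, 1, 1, 1, 2, 2, 2, 2, 3], 1, false),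
    ([0, 0, 0, 0, 0, 1, 1, 1, 1, 1, 2, 2, 2, 2, 2, 0, 2, 0, 0, 0, 0, 1, 1, 1, 1, 1, 2, 2, 2, 2, 2, 2, 0, 0, 0, 0, 0, 1, 1, 1, 1, 1, 2, 2, 2, 2, 2, 0, 0, 0, 0, 0, 0, 0, 0, 0, 0], [0, 0, 0, 0, 1, 1, 1, 1, 1, 2, 2, 2, 2, 3], 1, false),
    ([0, 0, 0, 0, 0, 1, 1, 1, 1, 1, 2, 2, 2, 2, 2, 0, 2, 0, 0, 0, 0, 1, 1, 1, 1, 1, 2, 2, 2, 2, 2, 2, 0, 0, 0, 0, 0, 1, 1, 1, 1, 1, 2, 2, 2, 2, 2, 0, 0, 0, 0, 0, 0, 0, 0, 0, 0, 0], [0, 0, 0, 1, 1, 1, 1, 1, 2, 2, 2, 2, 3], 1, false),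
    ([0, 0, 0, 0, 0, 1, 1, 1, 1, 1, 2, 2, 2, 2, 2, 0, 2, 0, 0, 0, 0, 1, 1, 1, 1, 1, 2, 2, 2, 2, 2, 2, 0, 0, 0, 0, 0, 1, 1, 1, 1, 1, 2, 2, 2, 2, 2, 0, 0, 0, 0, 0, 0, 0, 0, 0, 0, 0, 0], [0, 0, 1, 1, 1, 1, 1, 2, 2, 2, 2, 3], 1, false),
    ([0, 0, 0, 0, 0, 1, 1, 1, 1, 1, 2, 2, 2, 2, 2, 0, 2, 0, 0, 0, 0, 1, 1, 1, 1, 1, 2, 2, 2, 2, 2, 2, 0, 0, 0, 0, 0, 1, 1, 1, 1, 1, 2, 2, 2, 2, 2, 0, 0, 0, 0, 0, 0, 0, 0, 0, 0, 0, 0, 0], [0, 1, 1, 1, 1, 1, 2, 2, 2, 2, 3], 1, false),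
    ([0, 0, 0, 0, 0, 1, 1, 1, 1, 1, 2, 2, 2, 2, 2, 0, 2, 0, 0, 0, 0, 1, 1, 1, 1, 1, 2, 2, 2, 2, 2, 2, 0, 0, 0, 0, 0, 1, 1, 1, 1, 1, 2, 2, 2, 2, 2, 0, 0, 0, 0, 0, 0, 0, 0, 0, 0, 0, 0, 0, 0], [1, 1, 1, 1, 1, 2, 2, 2, 2, 3], 1, false),
    ([0, 0, 0, 0, 0, 1, 1, 1, 1, 1, 2, 2, 2, 2, 2, 0, 2, 0, 0, 0, 0, 1, 1, 1, 1, 1, 2, 2, 2, 2, 2, 2, 0, 0, 0, 0, 0, 1, 1, 1, 1, 1, 2, 2, 2, 2, 2, 0, 0, 0, 0, 0, 0, 0, 0], [1, 1, 1, 1, 1, 1, 2, 2, 2, 2, 3], 0, false),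
    ([0, 0, 0, 0, 0, 1, 1, 1, 1, 1, 2, 2, 2, 2, 2, 0, 2, 0, 0, 0, 0, 1, 1, 1, 1, 1, 2, 2, 2, 2, 2, 2, 0, 0, 0, 0, 0, 1, 1, 1, 1, 1, 2, 2, 2, 2, 2, 0], [1, 1, 1, 1, 1, 1, 2, 2, 2, 2, 3], 0, false),
    ([0, 0, 0, 0, 0, 1, 1, 1, 1, 1, 2, 2, 2, 2, 2, 0, 2, 0, 0, 0, 0, 1, 1, 1, 1, 1, 2, 2, 2, 2, 2, 2, 0, 0, 0, 0, 0, 1, 1, 1, 1, 1, 2, 2, 2, 2], [1, 1, 1, 1, 1, 1, 2, 2, 2, 2, 3], 3, false),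
    ([0, 0, 0, 0, 0, 1, 1, 1, 1, 1, 2, 2, 2, 2, 2, 0, 2, 0, 0, 0, 0, 1, 1, 1, 1, 1, 2, 2, 2, 2, 2, 2, 0, 0, 0, 0, 0, 1, 1, 1, 1, 1, 2, 2, 2, 2, 0], [1, 1, 1, 1, 1, 2, 2, 2, 2, 3], 4, false),
    ([0, 0, 0, 0, 0, 1, 1, 1, 1, 1, 2, 2, 2, 2, 2, 0, 2, 0, 0, 0, 0, 1, 1, 1, 1, 1, 2, 2, 2, 2, 2, 2, 0, 0, 0, 0, 0, 1, 1, 1, 1, 1, 2, 2, 2, 2, 0, 0, 0, 0, 0, 1], [1, 1, 1, 1, 2, 2, 2, 2, 3], 4, false),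
    ([0, 0, 0, 0, 0, 1, 1, 1, 1, 1, 2, 2, 2, 2, 2, 0, 2, 0, 0, 0, 0, 1, 1, 1, 1, 1, 2, 2, 2, 2, 2, 2, 0, 0, 0, 0, 0, 1, 1, 1, 1, 1, 2, 2, 2, 2, 0, 0, 0, 0, 0, 1, 0, 0, 0, 0, 1], [1, 1, 1, 2, 2, 2, 2, 3], 4, false),
    ([0, 0, 0, 0, 0, 1, 1, 1, 1, 1, 2, 2, 2, 2, 2, 0, 2, 0, 0, 0, 0, 1, 1, 1, 1, 1, 2, 2, 2, 2, 2, 2, 0, 0, 0, 0, 0, 1, 1, 1, 1, 1, 2, 2, 2, 2, 0, 0, 0, 0, 0, 1, 0, 0, 0, 0, 1, 0, 0, 0, 0, 1], [1, 1, 2, 2, 2, 2, 3], 4, false),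
    ([0, 0, 0, 0, 0, 1, 1, 1, 1, 1, 2, 2, 2, 2, 2, 0, 2, 0, 0, 0, 0, 1, 1, 1, 1, 1, 2, 2, 2, 2, 2, 2, 0, 0, 0, 0, 0, 1, 1, 1, 1, 1, 2, 2, 2, 2, 0, 0, 0, 0, 0, 1, 0, 0, 0, 0, 1, 0, 0, 0, 0, 1, 0, 0, 0, 0, 1], [1, 2, 2, 2, 2, 3], 4, false),
    ([0, 0, 0, 0, 0, 1, 1, 1, 1, 1, 2, 2, 2, 2, 2, 0, 2, 0, 0, 0, 0, 1, 1, 1, 1, 1, 2, 2, 2, 2, 2, 2, 0, 0, 0, 0, 0, 1, 1, 1, 1, 1, 2, 2, 2, 2, 0, 0, 0, 0, 0, 1, 0, 0, 0, 0, 1, 0, 0, 0, 0, 1, 0, 0, 0, 0, 1, 0, 0, 0, 0, 1], [2, 2, 2, 2, 3], 4, false),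
    ([0, 0, 0, 0, 0, 1, 1, 1, 1, 1, 2, 2, 2, 2, 2, 0, 2, 0, 0, 0, 0, 1, 1, 1, 1, 1, 2, 2, 2, 2, 2, 2, 0, 0, 0, 0, 0, 1, 1, 1, 1, 1, 2, 2, 2, 2, 0, 0, 0, 0, 0, 1, 0, 0, 0, 0, 1, 0, 0, 0, 0, 1, 0, 0, 0, 0, 1, 0, 0, 0, 0], [0, 0, 0, 1, 2, 2, 2, 2, 2, 3], 1, false),
    ([0, 0, 0, 0, 0, 1, 1, 1, 1, 1, 2, 2, 2, 2, 2, 0, 2, 0, 0, 0, 0, 1, 1, 1, 1, 1, 2, 2, 2, 2, 2, 2, 0, 0, 0, 0, 0, 1, 1, 1, 1, 1, 2, 2, 2, 2, 0, 0, 0, 0, 0, 1, 0, 0, 0, 0, 1, 0, 0, 0, 0, 1, 0, 0, 0, 0, 1, 0, 0, 0, 0, 0], [0, 0, 1, 2, 2, 2, 2, 2, 3], 1, false),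
    ([0, 0, 0, 0, 0, 1, 1, 1, 1, 1, 2, 2, 2, 2, 2, 0, 2, 0, 0, 0, 0, 1, 1, 1, 1, 1, 2, 2, 2, 2, 2, 2, 0, 0, 0, 0, 0, 1, 1, 1, 1, 1, 2, 2, 2, 2, 0, 0, 0, 0, 0, 1, 0, 0, 0, 0, 1, 0, 0, 0, 0, 1, 0, 0, 0, 0, 1, 0, 0, 0, 0, 0, 0], [0, 1, 2, 2, 2, 2, 2, 3], 1, false),
    ([0, 0, 0, 0, 0, 1, 1, 1, 1, 1, 2, 2, 2, 2, 2, 0, 2, 0, 0, 0, 0, 1, 1, 1, 1, 1, 2, 2, 2, 2, 2, 2, 0, 0, 0, 0, 0, 1, 1, 1, 1, 1, 2, 2, 2, 2, 0, 0, 0, 0, 0, 1, 0, 0, 0, 0, 1, 0, 0, 0, 0, 1, 0, 0, 0, 0, 1, 0, 0, 0, 0, 0, 0, 0], [1, 2, 2, 2, 2, 2, 3], 1, false),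
    ([0, 0, 0, 0, 0, 1, 1, 1, 1, 1, 2, 2, 2, 2, 2, 0, 2, 0, 0, 0, 0, 1, 1, 1, 1, 1, 2, 2, 2, 2, 2, 2, 0, 0, 0, 0, 0, 1, 1, 1, 1, 1, 2, 2, 2, 2, 0, 0, 0, 0, 0, 1, 0, 0, 0, 0, 1, 0, 0, 0, 0, 1, 0, 0, 0, 0, 1, 0], [1, 1, 2, 2, 2, 2, 2, 3], 0, false),
    ([0, 0, 0, 0, 0, 1, 1, 1, 1, 1, 2, 2, 2, 2, 2, 0, 2, 0, 0, 0, 0, 1, 1, 1, 1, 1, 2, 2, 2, 2, 2, 2, 0, 0, 0, 0, 0, 1, 1, 1, 1, 1, 2, 2, 2, 2, 0, 0, 0, 0, 0, 1, 0, 0, 0, 0, 1, 0, 0, 0, 0, 1, 0, 0, 0, 0], [1, 1, 2, 2, 2, 2, 2, 3], 1, false),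
    ([0, 0, 0, 0, 0, 1, 1, 1, 1, 1, 2, 2, 2, 2, 2, 0, 2, 0, 0, 0, 0, 1, 1, 1, 1, 1, 2, 2, 2, 2, 2, 2, 0, 0, 0, 0, 0, 1, 1, 1, 1, 1, 2, 2, 2, 2, 0, 0, 0, 0, 0, 1, 0, 0, 0, 0, 1, 0, 0, 0, 0], [0, 0, 0, 0, 1, 1, 1, 2, 2, 2, 2, 2, 3], 1, false)]

/-- Part of a closed path for the prime 7. -/
def path7_4_6 : List SchurPath.Step :=
  [([0, 0, 0, 0, 0, 1, 1, 1, 1, 1, 2, 2, 2, 2, 2, 0, 2, 0, 0, 0, 0, 1, 1, 1, 1, 1, 2, 2, 2, 2, 2, 2, 0, 0, 0, 0, 0, 1, 1, 1, 1, 1, 2, 2, 2, 2, 0, 0, 0, 0, 0, 1, 0, 0, 0, 0, 1, 0, 0, 0, 0, 0], [0, 0, 0, 1, 1, 1, 2, 2, 2, 2, 2, 3], 1, false),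
    ([0, 0, 0, 0, 0, 1, 1, 1, 1, 1, 2, 2, 2, 2, 2, 0, 2, 0, 0, 0, 0, 1, 1, 1, 1, 1, 2, 2, 2, 2, 2, 2, 0, 0, 0, 0, 0, 1, 1, 1, 1, 1, 2, 2, 2, 2, 0, 0, 0, 0, 0, 1, 0, 0, 0, 0, 1, 0, 0, 0, 0, 0, 0], [0, 0, 1, 1, 1, 2, 2, 2, 2, 2, 3], 1, false),
    ([0, 0, 0, 0, 0, 1, 1, 1, 1, 1, 2, 2, 2, 2, 2, 0, 2, 0, 0, 0, 0, 1, 1, 1, 1, 1, 2, 2, 2, 2, 2, 2, 0, 0, 0, 0, 0, 1, 1, 1, 1, 1, 2, 2, 2, 2, 0, 0, 0, 0, 0, 1, 0, 0, 0, 0, 1, 0, 0, 0, 0, 0, 0, 0], [0, 1, 1, 1, 2, 2, 2, 2, 2, 3], 1, false),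
    ([0, 0, 0, 0, 0, 1, 1, 1, 1, 1, 2, 2, 2, 2, 2, 0, 2, 0, 0, 0, 0, 1, 1, 1, 1, 1, 2, 2, 2, 2, 2, 2, 0, 0, 0, 0, 0, 1, 1, 1, 1, 1, 2, 2, 2, 2, 0, 0, 0, 0, 0, 1, 0, 0, 0, 0, 1, 0, 0, 0, 0, 0, 0, 0, 0], [1, 1, 1, 2, 2, 2, 2, 2, 3], 1, false),
    ([0, 0, 0, 0, 0, 1, 1, 1, 1, 1, 2, 2, 2, 2, 2, 0, 2, 0, 0, 0, 0, 1, 1, 1, 1, 1, 2, 2, 2, 2, 2, 2, 0, 0, 0, 0, 0, 1, 1, 1, 1, 1, 2, 2, 2, 2, 0, 0, 0, 0, 0, 1, 0, 0, 0, 0, 1, 0, 0], [1, 1, 1, 1, 2, 2, 2, 2, 2, 3], 0, false),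
    ([0, 0, 0, 0, 0, 1, 1, 1, 1, 1, 2, 2, 2, 2, 2, 0, 2, 0, 0, 0, 0, 1, 1, 1, 1, 1, 2, 2, 2, 2, 2, 2, 0, 0, 0, 0, 0, 1, 1, 1, 1, 1, 2, 2, 2, 2, 0, 0, 0, 0, 0, 1, 0, 0, 0, 0], [0, 1, 1, 1, 1, 2, 2, 2, 2, 2, 3], 1, false),
    ([0, 0, 0, 0, 0, 1, 1, 1, 1, 1, 2, 2, 2, 2, 2, 0, 2, 0, 0, 0, 0, 1, 1, 1, 1, 1, 2, 2, 2, 2, 2, 2, 0, 0, 0, 0, 0, 1, 1, 1, 1, 1, 2, 2, 2, 2, 0, 0, 0, 0, 0, 1, 0, 0, 0, 0, 0], [1, 1, 1, 1, 2, 2, 2, 2, 2, 3], 1, false),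
    ([0, 0, 0, 0, 0, 1, 1, 1, 1, 1, 2, 2, 2, 2, 2, 0, 2, 0, 0, 0, 0, 1, 1, 1, 1, 1, 2, 2, 2, 2, 2, 2, 0, 0, 0, 0, 0, 1, 1, 1, 1, 1, 2, 2, 2, 2, 0, 0, 0, 0, 0], [0, 0, 0, 0, 0, 1, 1, 1, 1, 1, 2, 2, 2, 2, 2, 3], 1, false),
    ([0, 0, 0, 0, 0, 1, 1, 1, 1, 1, 2, 2, 2, 2, 2, 0, 2, 0, 0, 0, 0, 1, 1, 1, 1, 1, 2, 2, 2, 2, 2, 2, 0, 0, 0, 0, 0, 1, 1, 1, 1, 1, 2, 2, 2, 2, 0, 0, 0, 0, 0, 0], [0, 0, 0, 0, 1, 1, 1, 1, 1, 2, 2, 2, 2, 2, 3], 1, false),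
    ([0, 0, 0, 0, 0, 1, 1, 1, 1, 1, 2, 2, 2, 2, 2, 0, 2, 0, 0, 0, 0, 1, 1, 1, 1, 1, 2, 2, 2, 2, 2, 2, 0, 0, 0, 0, 0, 1, 1, 1, 1, 1, 2, 2, 2, 2, 0, 0, 0, 0, 0, 0, 0], [0, 0, 0, 1, 1, 1, 1, 1, 2, 2, 2, 2, 2, 3], 1, false),
    ([0, 0, 0, 0, 0, 1, 1, 1, 1, 1, 2, 2, 2, 2, 2, 0, 2, 0, 0, 0, 0, 1, 1, 1, 1, 1, 2, 2, 2, 2, 2, 2, 0, 0, 0, 0, 0, 1, 1, 1, 1, 1, 2, 2, 2, 2, 0, 0, 0, 0, 0, 0, 0, 0], [0, 0, 1, 1, 1, 1, 1, 2, 2, 2, 2, 2, 3], 1, false),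
    ([0, 0, 0, 0, 0, 1, 1, 1, 1, 1, 2, 2, 2, 2, 2, 0, 2, 0, 0, 0, 0, 1, 1, 1, 1, 1, 2, 2, 2, 2, 2, 2, 0, 0, 0, 0, 0, 1, 1, 1, 1, 1, 2, 2, 2, 2, 0, 0, 0, 0, 0, 0, 0, 0, 0], [0, 1, 1, 1, 1, 1, 2, 2, 2, 2, 2, 3], 1, false),
    ([0, 0, 0, 0, 0, 1, 1, 1, 1, 1, 2, 2, 2, 2, 2, 0, 2, 0, 0, 0, 0, 1, 1, 1, 1, 1, 2, 2, 2, 2, 2, 2, 0, 0, 0, 0, 0, 1, 1, 1, 1, 1, 2, 2, 2, 2, 0, 0, 0, 0, 0, 0, 0, 0, 0, 0], [1, 1, 1, 1, 1, 2, 2, 2, 2, 2, 3], 1, false),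
    ([0, 0, 0, 0, 0, 1, 1, 1, 1, 1, 2, 2, 2, 2, 2, 0, 2, 0, 0, 0, 0, 1, 1, 1, 1, 1, 2, 2, 2, 2, 2, 2, 0, 0, 0, 0, 0, 1, 1, 1, 1, 1, 2, 2, 2, 2, 0, 0, 0, 0], [1, 1, 1, 1, 1, 1, 2, 2, 2, 2, 2, 3], 0, false),
    ([0, 0, 0, 0, 0, 1, 1, 1, 1, 1, 2, 2, 2, 2, 2, 0, 2, 0, 0, 0, 0, 1, 1, 1, 1, 1, 2, 2, 2, 2, 2, 2, 0, 0, 0, 0, 0, 1, 1, 1, 1, 1, 2, 2, 2], [0, 0, 0, 1, 1, 1, 1, 1, 1, 2, 2, 2, 2, 2, 3], 3, false),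
    ([0, 0, 0, 0, 0, 1, 1, 1, 1, 1, 2, 2, 2, 2, 2, 0, 2, 0, 0, 0, 0, 1, 1, 1, 1, 1, 2, 2, 2, 2, 2, 2, 0, 0, 0, 0, 0, 1, 1, 1, 1, 1, 2, 2, 2, 0], [0, 0, 1, 1, 1, 1, 1, 1, 2, 2, 2, 2, 2, 3], 3, false),
    ([0, 0, 0, 0, 0, 1, 1, 1, 1, 1, 2, 2, 2, 2, 2, 0, 2, 0, 0, 0, 0, 1, 1, 1, 1, 1, 2, 2, 2, 2, 2, 2, 0, 0, 0, 0, 0, 1, 1, 1, 1, 1, 2, 2, 2, 0, 0], [0, 1, 1, 1, 1, 1, 1, 2, 2, 2, 2, 2, 3], 3, false),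
    ([0, 0, 0, 0, 0, 1, 1, 1, 1, 1, 2, 2, 2, 2, 2, 0, 2, 0, 0, 0, 0, 1, 1, 1, 1, 1, 2, 2, 2, 2, 2, 2, 0, 0, 0, 0, 0, 1, 1, 1, 1, 1, 2, 2, 2, 0, 0, 0], [1, 1, 1, 1, 1, 1, 2, 2, 2, 2, 2, 3], 3, false),
    ([0, 0, 0, 0, 0, 1, 1, 1, 1, 1, 2, 2, 2, 2, 2, 0, 2, 0, 0, 0, 0, 1, 1, 1, 1, 1, 2, 2, 2, 2, 2, 2, 0, 0, 0, 0, 0, 1, 1, 1, 1, 1, 2, 2, 2, 0, 0, 0, 0], [1, 1, 1, 1, 1, 2, 2, 2, 2, 2, 3], 4, false),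
    ([0, 0, 0, 0, 0, 1, 1, 1, 1, 1, 2, 2, 2, 2, 2, 0, 2, 0, 0, 0, 0, 1, 1, 1, 1, 1, 2, 2, 2, 2, 2, 2, 0, 0, 0, 0, 0, 1, 1, 1, 1, 1, 2, 2, 2, 0, 0, 0, 0, 0, 0, 0, 0, 1], [1, 1, 1, 1, 2, 2, 2, 2, 2, 3], 4, false),
    ([0, 0, 0, 0, 0, 1, 1, 1, 1, 1, 2, 2, 2, 2, 2, 0, 2, 0, 0, 0, 0, 1, 1, 1, 1, 1, 2, 2, 2, 2, 2, 2, 0, 0, 0, 0, 0, 1, 1, 1, 1, 1, 2, 2, 2, 0, 0, 0, 0, 0, 0, 0, 0, 1, 0, 0, 0, 0, 1], [1, 1, 1, 2, 2, 2, 2, 2, 3], 4, false),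
    ([0, 0, 0, 0, 0, 1, 1, 1, 1, 1, 2, 2, 2, 2, 2, 0, 2, 0, 0, 0, 0, 1, 1, 1, 1, 1, 2, 2, 2, 2, 2, 2, 0, 0, 0, 0, 0, 1, 1, 1, 1, 1, 2, 2, 2, 0, 0, 0, 0, 0, 0, 0, 0, 1, 0, 0, 0, 0, 1, 0, 0, 0, 0, 1], [1, 1, 2, 2, 2, 2, 2, 3], 4, false),
    ([0, 0, 0, 0, 0, 1, 1, 1, 1, 1, 2, 2, 2, 2, 2, 0, 2, 0, 0, 0, 0, 1, 1, 1, 1, 1, 2, 2, 2, 2, 2, 2, 0, 0, 0, 0, 0, 1, 1, 1, 1, 1, 2, 2, 2, 0, 0, 0, 0, 0, 0, 0, 0, 1, 0, 0, 0, 0, 1, 0, 0, 0, 0, 1, 0, 0, 0, 0, 1], [1, 2, 2, 2, 2, 2, 3], 4, false),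
    ([0, 0, 0, 0, 0, 1, 1, 1, 1, 1, 2, 2, 2, 2, 2, 0, 2, 0, 0, 0, 0, 1, 1, 1, 1, 1, 2, 2, 2, 2, 2, 2, 0, 0, 0, 0, 0, 1, 1, 1, 1, 1, 2, 2, 2, 0, 0, 0, 0, 0, 0, 0, 0, 1, 0, 0, 0, 0, 1, 0, 0, 0, 0, 1, 0, 0, 0, 0, 1, 0, 0, 0, 0, 1], [2, 2, 2, 2, 2, 3], 4, false),
    ([0, 0, 0, 0, 0, 1, 1, 1, 1, 1, 2, 2, 2, 2, 2, 0, 2, 0, 0, 0, 0, 1, 1, 1, 1, 1, 2, 2, 2, 2, 2, 2, 0, 0, 0, 0, 0, 1, 1, 1, 1, 1, 2, 2, 2, 0, 0, 0, 0, 0, 0, 0, 0, 1, 0, 0, 0, 0, 1, 0, 0, 0, 0, 1, 0, 0, 0, 0, 1, 0, 0, 0, 0], [0, 0, 0, 1, 2, 2, 2, 2, 2, 2, 3], 1, false),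
    ([0, 0, 0, 0, 0, 1, 1, 1, 1, 1, 2, 2, 2, 2, 2, 0, 2, 0, 0, 0, 0, 1, 1, 1, 1, 1, 2, 2, 2, 2, 2, 2, 0, 0, 0, 0, 0, 1, 1, 1, 1, 1, 2, 2, 2, 0, 0, 0, 0, 0, 0, 0, 0, 1, 0, 0, 0, 0, 1, 0, 0, 0, 0, 1, 0, 0, 0, 0, 1, 0, 0, 0, 0, 0], [0, 0, 1, 2, 2, 2, 2, 2, 2, 3], 1, false),
    ([0, 0, 0, 0, 0, 1, 1, 1, 1, 1, 2, 2, 2, 2, 2, 0, 2, 0, 0, 0, 0, 1, 1, 1, 1, 1, 2, 2, 2, 2, 2, 2, 0, 0, 0, 0, 0, 1, 1, 1, 1, 1, 2, 2, 2, 0, 0, 0, 0, 0, 0, 0, 0, 1, 0, 0, 0, 0, 1, 0, 0, 0, 0, 1, 0, 0, 0, 0, 1, 0, 0, 0, 0, 0, 0], [0, 1, 2, 2, 2, 2, 2, 2, 3], 1, false),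
    ([0, 0, 0, 0, 0, 1, 1, 1, 1, 1, 2, 2, 2, 2, 2, 0, 2, 0, 0, 0, 0, 1, 1, 1, 1, 1, 2, 2, 2, 2, 2, 2, 0, 0, 0, 0, 0, 1, 1, 1, 1, 1, 2, 2, 2, 0, 0, 0, 0, 0, 0, 0, 0, 1, 0, 0, 0, 0, 1, 0, 0, 0, 0, 1, 0, 0, 0, 0, 1, 0, 0, 0, 0, 0, 0, 0], [1, 2, 2, 2, 2, 2, 2, 3], 1, false),
    ([0, 0, 0, 0, 0, 1, 1, 1, 1, 1, 2, 2, 2, 2, 2, 0, 2, 0, 0, 0, 0, 1, 1, 1, 1, 1, 2, 2, 2, 2, 2, 2, 0, 0, 0, 0, 0, 1, 1, 1, 1, 1, 2, 2, 2, 0, 0, 0, 0, 0, 0, 0, 0, 1, 0, 0, 0, 0, 1, 0, 0, 0, 0, 1, 0, 0, 0, 0, 1, 0], [1, 1, 2, 2, 2, 2, 2, 2, 3], 0, false),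
    ([0, 0, 0, 0, 0, 1, 1, 1, 1, 1, 2, 2, 2, 2, 2, 0, 2, 0, 0, 0, 0, 1, 1, 1, 1, 1, 2, 2, 2, 2, 2, 2, 0, 0, 0, 0, 0, 1, 1, 1, 1, 1, 2, 2, 2, 0, 0, 0, 0, 0, 0, 0, 0, 1, 0, 0, 0, 0, 1, 0, 0, 0, 0, 1, 0, 0, 0, 0], [1, 1, 2, 2, 2, 2, 2, 2, 3], 1, false),
    ([0, 0, 0, 0, 0, 1, 1, 1, 1, 1, 2, 2, 2, 2, 2, 0, 2, 0, 0, 0, 0, 1, 1, 1, 1, 1, 2, 2, 2, 2, 2, 2, 0, 0, 0, 0, 0, 1, 1, 1, 1, 1, 2, 2, 2, 0, 0, 0, 0, 0, 0, 0, 0, 1, 0, 0, 0, 0, 1, 0, 0, 0, 0], [0, 0, 0, 0, 1, 1, 1, 2, 2, 2, 2, 2, 2, 3], 1, false),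
    ([0, 0, 0, 0, 0, 1, 1, 1, 1, 1, 2, 2, 2, 2, 2, 0, 2, 0, 0, 0, 0, 1, 1, 1, 1, 1, 2, 2, 2, 2, 2, 2, 0, 0, 0, 0, 0, 1, 1, 1, 1, 1, 2, 2, 2, 0, 0, 0, 0, 0, 0, 0, 0, 1, 0, 0, 0, 0, 1, 0, 0, 0, 0, 0], [0, 0, 0, 1, 1, 1, 2, 2, 2, 2, 2, 2, 3], 1, false),
    ([0, 0, 0, 0, 0, 1, 1, 1, 1, 1, 2, 2, 2, 2, 2, 0, 2, 0, 0, 0, 0, 1, 1, 1, 1, 1, 2, 2, 2, 2, 2, 2, 0, 0, 0, 0, 0, 1, 1, 1, 1, 1, 2, 2, 2, 0, 0, 0, 0, 0, 0, 0, 0, 1, 0, 0, 0, 0, 1, 0, 0, 0, 0, 0, 0], [0, 0, 1, 1, 1, 2, 2, 2, 2, 2, 2, 3], 1, false),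
    ([0, 0, 0, 0, 0, 1, 1, 1, 1, 1, 2, 2, 2, 2, 2, 0, 2, 0, 0, 0, 0, 1, 1, 1, 1, 1, 2, 2, 2, 2, 2, 2, 0, 0, 0, 0, 0, 1, 1, 1, 1, 1, 2, 2, 2, 0, 0, 0, 0, 0, 0, 0, 0, 1, 0, 0, 0, 0, 1, 0, 0, 0, 0, 0, 0, 0], [0, 1, 1, 1, 2, 2, 2, 2, 2, 2, 3], 1, false),
    ([0, 0, 0, 0, 0, 1, 1, 1, 1, 1, 2, 2, 2, 2, 2, 0, 2, 0, 0, 0, 0, 1, 1, 1, 1, 1, 2, 2, 2, 2, 2, 2, 0, 0, 0, 0, 0, 1, 1, 1, 1, 1, 2, 2, 2, 0, 0, 0, 0, 0, 0, 0, 0, 1, 0, 0, 0, 0, 1, 0, 0, 0, 0, 0, 0, 0, 0], [1, 1, 1, 2, 2, 2, 2, 2, 2, 3], 1, false),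
    ([0, 0, 0, 0, 0, 1, 1, 1, 1, 1, 2, 2, 2, 2, 2, 0, 2, 0, 0, 0, 0, 1, 1, 1, 1, 1, 2, 2, 2, 2, 2, 2, 0, 0, 0, 0, 0, 1, 1, 1, 1, 1, 2, 2, 2, 0, 0, 0, 0, 0, 0, 0, 0, 1, 0, 0, 0, 0, 1, 0, 0], [1, 1, 1, 1, 2, 2, 2, 2, 2, 2, 3], 0, false),
    ([0, 0, 0, 0, 0, 1, 1, 1, 1, 1, 2, 2, 2, 2, 2, 0, 2, 0, 0, 0, 0, 1, 1, 1, 1, 1, 2, 2, 2, 2, 2, 2, 0, 0, 0, 0, 0, 1, 1, 1, 1, 1, 2, 2, 2, 0, 0, 0, 0, 0, 0, 0, 0, 1, 0, 0, 0, 0], [0, 1, 1, 1, 1, 2, 2, 2, 2, 2, 2, 3], 1, false),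
    ([0, 0, 0, 0, 0, 1, 1, 1, 1, 1, 2, 2, 2, 2, 2, 0, 2, 0, 0, 0, 0, 1, 1, 1, 1, 1, 2, 2, 2, 2, 2, 2, 0, 0, 0, 0, 0, 1, 1, 1, 1, 1, 2, 2, 2, 0, 0, 0, 0, 0, 0, 0, 0, 1, 0, 0, 0, 0, 0], [1, 1, 1, 1, 2, 2, 2, 2, 2, 2, 3], 1, false),
    ([0, 0, 0, 0, 0, 1, 1, 1, 1, 1, 2, 2, 2, 2, 2, 0, 2, 0, 0, 0, 0, 1, 1, 1, 1, 1, 2, 2, 2, 2, 2, 2, 0, 0, 0, 0, 0, 1, 1, 1, 1, 1, 2, 2, 2, 0, 0, 0, 0, 0, 0, 0, 0], [0, 0, 0, 0, 0, 1, 1, 1, 1, 1, 2, 2, 2, 2, 2, 2, 3], 1, false),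
    ([0, 0, 0, 0, 0, 1, 1, 1, 1, 1, 2, 2, 2, 2, 2, 0, 2, 0, 0, 0, 0, 1, 1, 1, 1, 1, 2, 2, 2, 2, 2, 2, 0, 0, 0, 0, 0, 1, 1, 1, 1, 1, 2, 2, 2, 0, 0, 0, 0, 0, 0, 0, 0, 0], [0, 0, 0, 0, 1, 1, 1, 1, 1, 2, 2, 2, 2, 2, 2, 3], 1, false),
    ([0, 0, 0, 0, 0, 1, 1, 1, 1, 1, 2, 2, 2, 2, 2, 0, 2, 0, 0, 0, 0, 1, 1, 1, 1, 1, 2, 2, 2, 2, 2, 2, 0, 0, 0, 0, 0, 1, 1, 1, 1, 1, 2, 2, 2, 0, 0, 0, 0, 0, 0, 0, 0, 0, 0], [0, 0, 0, 1, 1, 1, 1, 1, 2, 2, 2, 2, 2, 2, 3], 1, false),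
    ([0, 0, 0, 0, 0, 1, 1, 1, 1, 1, 2, 2, 2, 2, 2, 0, 2, 0, 0, 0, 0, 1, 1, 1, 1, 1, 2, 2, 2, 2, 2, 2, 0, 0, 0, 0, 0, 1, 1, 1, 1, 1, 2, 2, 2, 0, 0, 0, 0, 0, 0, 0, 0, 0, 0, 0], [0, 0, 1, 1, 1, 1, 1, 2, 2, 2, 2, 2, 2, 3], 1, false),
    ([0, 0, 0, 0, 0, 1, 1, 1, 1, 1, 2, 2, 2, 2, 2, 0, 2, 0, 0, 0, 0, 1, 1, 1, 1, 1, 2, 2, 2, 2, 2, 2, 0, 0, 0, 0, 0, 1, 1, 1, 1, 1, 2, 2, 2, 0, 0, 0, 0, 0, 0, 0, 0, 0, 0, 0, 0], [0, 1, 1, 1, 1, 1, 2, 2, 2, 2, 2, 2, 3], 1, false),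
    ([0, 0, 0, 0, 0, 1, 1, 1, 1, 1, 2, 2, 2, 2, 2, 0, 2, 0, 0, 0, 0, 1, 1, 1, 1, 1, 2, 2, 2, 2, 2, 2, 0, 0, 0, 0, 0, 1, 1, 1, 1, 1, 2, 2, 2, 0, 0, 0, 0, 0, 0, 0, 0, 0, 0, 0, 0, 0], [1, 1, 1, 1, 1, 2, 2, 2, 2, 2, 2, 3], 1, false),
    ([0, 0, 0, 0, 0, 1, 1, 1, 1, 1, 2, 2, 2, 2, 2, 0, 2, 0, 0, 0, 0, 1, 1, 1, 1, 1, 2, 2, 2, 2, 2, 2, 0, 0, 0, 0, 0, 1, 1, 1, 1, 1, 2, 2, 2, 0, 0, 0, 0, 0, 0, 0], [1, 1, 1, 1, 1, 1, 2, 2, 2, 2, 2, 2, 3], 0, false),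
    ([0, 0, 0, 0, 0, 1, 1, 1, 1, 1, 2, 2, 2, 2, 2, 0, 2, 0, 0, 0, 0, 1, 1, 1, 1, 1, 2, 2, 2, 2, 2, 2, 0, 0, 0, 0, 0, 1, 1, 1, 1, 1, 2, 2, 2], [1, 1, 1, 1, 1, 1, 2, 2, 2, 2, 2, 2, 3], 0, false),
    ([0, 0, 0, 0, 0, 1, 1, 1, 1, 1, 2, 2, 2, 2, 2, 0, 2, 0, 0, 0, 0, 1, 1, 1, 1, 1, 2, 2, 2, 2, 2, 2, 0, 0, 0, 0, 0, 1, 1, 1, 1, 1, 2, 2], [1, 1, 1, 1, 1, 2, 2, 2, 2, 2, 2, 3], 4, false),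
    ([0, 0, 0, 0, 0, 1, 1, 1, 1, 1, 2, 2, 2, 2, 2, 0, 2, 0, 0, 0, 0, 1, 1, 1, 1, 1, 2, 2, 2, 2, 2, 2, 0, 0, 0, 0, 0, 1, 1, 1, 1, 1, 2, 2, 0, 0, 0, 0, 1], [1, 1, 1, 1, 2, 2, 2, 2, 2, 2, 3], 4, false),
    ([0, 0, 0, 0, 0, 1, 1, 1, 1, 1, 2, 2, 2, 2, 2, 0, 2, 0, 0, 0, 0, 1, 1, 1, 1, 1, 2, 2, 2, 2, 2, 2, 0, 0, 0, 0, 0, 1, 1, 1, 1, 1, 2, 2, 0, 0, 0, 0, 1, 0, 0, 0, 0, 1], [1, 1, 1, 2, 2, 2, 2, 2, 2, 3], 4, false),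
    ([0, 0, 0, 0, 0, 1, 1, 1, 1, 1, 2, 2, 2, 2, 2, 0, 2, 0, 0, 0, 0, 1, 1, 1, 1, 1, 2, 2, 2, 2, 2, 2, 0, 0, 0, 0, 0, 1, 1, 1, 1, 1, 2, 2, 0, 0, 0, 0, 1, 0, 0, 0, 0, 1, 0, 0, 0, 0, 1], [1, 1, 2, 2, 2, 2, 2, 2, 3], 4, false),
    ([0, 0, 0, 0, 0, 1, 1, 1, 1, 1, 2, 2, 2, 2, 2, 0, 2, 0, 0, 0, 0, 1, 1, 1, 1, 1, 2, 2, 2, 2, 2, 2, 0, 0, 0, 0, 0, 1, 1, 1, 1, 1, 2, 2, 0, 0, 0, 0, 1, 0, 0, 0, 0, 1, 0, 0, 0, 0, 1, 0, 0, 0, 0, 1], [1, 2, 2, 2, 2, 2, 2, 3], 4, false),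
    ([0, 0, 0, 0, 0, 1, 1, 1, 1, 1, 2, 2, 2, 2, 2, 0, 2, 0, 0, 0, 0, 1, 1, 1, 1, 1, 2, 2, 2, 2, 2, 2, 0, 0, 0, 0, 0, 1, 1, 1, 1, 1, 2, 2, 0, 0, 0, 0, 1, 0, 0, 0, 0, 1, 0, 0, 0, 0, 1, 0, 0, 0, 0, 1, 0, 0, 0, 0, 1], [2, 2, 2, 2, 2, 2, 3], 4, false),
    ([0, 0, 0, 0, 0, 1, 1, 1, 1, 1, 2, 2, 2, 2, 2, 0, 2, 0, 0, 0, 0, 1, 1, 1, 1, 1, 2, 2, 2, 2, 2, 2, 0, 0, 0, 0, 0, 1, 1, 1, 1, 1, 2, 2, 0, 0, 0, 0, 1, 0, 0, 0, 0, 1, 0, 0, 0, 0, 1, 0, 0, 0, 0, 1, 0, 0, 0, 0, 1, 0, 0, 0, 0, 1], [3], 5, false),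
    ([0, 0, 0, 0, 0, 1, 1, 1, 1, 1, 2, 2, 2, 2, 2, 0, 2, 0, 0, 0, 0, 1, 1, 1, 1, 1, 2, 2, 2, 2, 2, 2, 0, 0, 0, 0, 0, 1, 1, 1, 1, 1, 2, 2, 0, 0, 0, 0, 1, 0, 0, 0, 0, 1, 0, 0, 0, 0, 1, 0, 0, 0, 0, 1, 0, 0, 0, 0], [0, 0, 0, 1, 3], 1, false),
    ([0, 0, 0, 0, 0, 1, 1, 1, 1, 1, 2, 2, 2, 2, 2, 0, 2, 0, 0, 0, 0, 1, 1, 1, 1, 1, 2, 2, 2, 2, 2, 2, 0, 0, 0, 0, 0, 1, 1, 1, 1, 1, 2, 2, 0, 0, 0, 0, 1, 0, 0, 0, 0, 1, 0, 0, 0, 0, 1, 0, 0, 0, 0, 1, 0, 0, 0, 0, 0], [0, 0, 1, 3], 1, false),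
    ([0, 0, 0, 0, 0, 1, 1, 1, 1, 1, 2, 2, 2, 2, 2, 0, 2, 0, 0, 0, 0, 1, 1, 1, 1, 1, 2, 2, 2, 2, 2, 2, 0, 0, 0, 0, 0, 1, 1, 1, 1, 1, 2, 2, 0, 0, 0, 0, 1, 0, 0, 0, 0, 1, 0, 0, 0, 0, 1, 0, 0, 0, 0, 1, 0, 0, 0, 0, 0, 0], [0, 1, 3], 1, false),
    ([0, 0, 0, 0, 0, 1, 1, 1, 1, 1, 2, 2, 2, 2, 2, 0, 2, 0, 0, 0, 0, 1, 1, 1, 1, 1, 2, 2, 2, 2, 2, 2, 0, 0, 0, 0, 0, 1, 1, 1, 1, 1, 2, 2, 0, 0, 0, 0, 1, 0, 0, 0, 0, 1, 0, 0, 0, 0, 1, 0, 0, 0, 0, 1, 0, 0, 0, 0, 0, 0, 0], [1, 3], 1, false),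
    ([0, 0, 0, 0, 0, 1, 1, 1, 1, 1, 2, 2, 2, 2, 2, 0, 2, 0, 0, 0, 0, 1, 1, 1, 1, 1, 2, 2, 2, 2, 2, 2, 0, 0, 0, 0, 0, 1, 1, 1, 1, 1, 2, 2, 0, 0, 0, 0, 1, 0, 0, 0, 0, 1, 0, 0, 0, 0, 1, 0, 0, 0, 0, 1, 0], [1, 1, 3], 0, false),
    ([0, 0, 0, 0, 0, 1, 1, 1, 1, 1, 2, 2, 2, 2, 2, 0, 2, 0, 0, 0, 0, 1, 1, 1, 1, 1, 2, 2, 2, 2, 2, 2, 0, 0, 0, 0, 0, 1, 1, 1, 1, 1, 2, 2, 0, 0, 0, 0, 1, 0, 0, 0, 0, 1, 0, 0, 0, 0, 1, 0, 0, 0, 0], [1, 1, 3], 1, false),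
    ([0, 0, 0, 0, 0, 1, 1, 1, 1, 1, 2, 2, 2, 2, 2, 0, 2, 0, 0, 0, 0, 1, 1, 1, 1, 1, 2, 2, 2, 2, 2, 2, 0, 0, 0, 0, 0, 1, 1, 1, 1, 1, 2, 2, 0, 0, 0, 0, 1, 0, 0, 0, 0, 1, 0, 0, 0, 0], [0, 0, 0, 0, 1, 1, 1, 3], 1, false)]

/-- Part of a closed path for the prime 7. -/
def path7_4_7 : List SchurPath.Step :=
  [([0, 0, 0, 0, 0, 1, 1, 1, 1, 1, 2, 2, 2, 2, 2, 0, 2, 0, 0, 0, 0, 1, 1, 1, 1, 1, 2, 2, 2, 2, 2, 2, 0, 0, 0, 0, 0, 1, 1, 1, 1, 1, 2, 2, 0, 0, 0, 0, 1, 0, 0, 0, 0, 1, 0, 0, 0, 0, 0], [0, 0, 0, 1, 1, 1, 3], 1, false),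
    ([0, 0, 0, 0, 0, 1, 1, 1, 1, 1, 2, 2, 2, 2, 2, 0, 2, 0, 0, 0, 0, 1, 1, 1, 1, 1, 2, 2, 2, 2, 2, 2, 0, 0, 0, 0, 0, 1, 1, 1, 1, 1, 2, 2, 0, 0, 0, 0, 1, 0, 0, 0, 0, 1, 0, 0, 0, 0, 0, 0], [0, 0, 1, 1, 1, 3], 1, false),
    ([0, 0, 0, 0, 0, 1, 1, 1, 1, 1, 2, 2, 2, 2, 2, 0, 2, 0, 0, 0, 0, 1, 1, 1, 1, 1, 2, 2, 2, 2, 2, 2, 0, 0, 0, 0, 0, 1, 1, 1, 1, 1, 2, 2, 0, 0, 0, 0, 1, 0, 0, 0, 0, 1, 0, 0, 0, 0, 0, 0, 0], [0, 1, 1, 1, 3], 1, false),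
    ([0, 0, 0, 0, 0, 1, 1, 1, 1, 1, 2, 2, 2, 2, 2, 0, 2, 0, 0, 0, 0, 1, 1, 1, 1, 1, 2, 2, 2, 2, 2, 2, 0, 0, 0, 0, 0, 1, 1, 1, 1, 1, 2, 2, 0, 0, 0, 0, 1, 0, 0, 0, 0, 1, 0, 0, 0, 0, 0, 0, 0, 0], [1, 1, 1, 3], 1, false),
    ([0, 0, 0, 0, 0, 1, 1, 1, 1, 1, 2, 2, 2, 2, 2, 0, 2, 0, 0, 0, 0, 1, 1, 1, 1, 1, 2, 2, 2, 2, 2, 2, 0, 0, 0, 0, 0, 1, 1, 1, 1, 1, 2, 2, 0, 0, 0, 0, 1, 0, 0, 0, 0, 1, 0, 0], [1, 1, 1, 1, 3], 0, false),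
    ([0, 0, 0, 0, 0, 1, 1, 1, 1, 1, 2, 2, 2, 2, 2, 0, 2, 0, 0, 0, 0, 1, 1, 1, 1, 1, 2, 2, 2, 2, 2, 2, 0, 0, 0, 0, 0, 1, 1, 1, 1, 1, 2, 2, 0, 0, 0, 0, 1, 0, 0, 0, 0], [0, 1, 1, 1, 1, 3], 1, false),
    ([0, 0, 0, 0, 0, 1, 1, 1, 1, 1, 2, 2, 2, 2, 2, 0, 2, 0, 0, 0, 0, 1, 1, 1, 1, 1, 2, 2, 2, 2, 2, 2, 0, 0, 0, 0, 0, 1, 1, 1, 1, 1, 2, 2, 0, 0, 0, 0, 1, 0, 0, 0, 0, 0], [1, 1, 1, 1, 3], 1, false),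
    ([0, 0, 0, 0, 0, 1, 1, 1, 1, 1, 2, 2, 2, 2, 2, 0, 2, 0, 0, 0, 0, 1, 1, 1, 1, 1, 2, 2, 2, 2, 2, 2, 0, 0, 0, 0, 0, 1, 1, 1, 1, 1, 2, 2, 0, 0, 0, 0], [0, 0, 0, 0, 0, 1, 1, 1, 1, 1, 3], 1, false),
    ([0, 0, 0, 0, 0, 1, 1, 1, 1, 1, 2, 2, 2, 2, 2, 0, 2, 0, 0, 0, 0, 1, 1, 1, 1, 1, 2, 2, 2, 2, 2, 2, 0, 0, 0, 0, 0, 1, 1, 1, 1, 1, 2, 2, 0, 0, 0, 0, 0], [0, 0, 0, 0, 1, 1, 1, 1, 1, 3], 1, false),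
    ([0, 0, 0, 0, 0, 1, 1, 1, 1, 1, 2, 2, 2, 2, 2, 0, 2, 0, 0, 0, 0, 1, 1, 1, 1, 1, 2, 2, 2, 2, 2, 2, 0, 0, 0, 0, 0, 1, 1, 1, 1, 1, 2, 2, 0, 0, 0, 0, 0, 0], [0, 0, 0, 1, 1, 1, 1, 1, 3], 1, false),
    ([0, 0, 0, 0, 0, 1, 1, 1, 1, 1, 2, 2, 2, 2, 2, 0, 2, 0, 0, 0, 0, 1, 1, 1, 1, 1, 2, 2, 2, 2, 2, 2, 0, 0, 0, 0, 0, 1, 1, 1, 1, 1, 2, 2, 0, 0, 0, 0, 0, 0, 0], [0, 0, 1, 1, 1, 1, 1, 3], 1, false),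
    ([0, 0, 0, 0, 0, 1, 1, 1, 1, 1, 2, 2, 2, 2, 2, 0, 2, 0, 0, 0, 0, 1, 1, 1, 1, 1, 2, 2, 2, 2, 2, 2, 0, 0, 0, 0, 0, 1, 1, 1, 1, 1, 2, 2, 0, 0, 0, 0, 0, 0, 0, 0], [0, 1, 1, 1, 1, 1, 3], 1, false),
    ([0, 0, 0, 0, 0, 1, 1, 1, 1, 1, 2, 2, 2, 2, 2, 0, 2, 0, 0, 0, 0, 1, 1, 1, 1, 1, 2, 2, 2, 2, 2, 2, 0, 0, 0, 0, 0, 1, 1, 1, 1, 1, 2, 2, 0, 0, 0, 0, 0, 0, 0, 0, 0], [1, 1, 1, 1, 1, 3], 1, false),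
    ([0, 0, 0, 0, 0, 1, 1, 1, 1, 1, 2, 2, 2, 2, 2, 0, 2, 0, 0, 0, 0, 1, 1, 1, 1, 1, 2, 2, 2, 2, 2, 2, 0, 0, 0, 0, 0, 1, 1, 1, 1, 1, 2, 2, 0, 0, 0], [1, 1, 1, 1, 1, 1, 3], 0, false),
    ([0, 0, 0, 0, 0, 1, 1, 1, 1, 1, 2, 2, 2, 2, 2, 0, 2, 0, 0, 0, 0, 1, 1, 1, 1, 1, 2, 2, 2, 2, 2, 2, 0, 0, 0, 0, 0, 1, 1, 1, 1, 1, 2], [0, 0, 1, 1, 1, 1, 1, 1, 3], 3, false),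
    ([0, 0, 0, 0, 0, 1, 1, 1, 1, 1, 2, 2, 2, 2, 2, 0, 2, 0, 0, 0, 0, 1, 1, 1, 1, 1, 2, 2, 2, 2, 2, 2, 0, 0, 0, 0, 0, 1, 1, 1, 1, 1, 2, 0], [0, 1, 1, 1, 1, 1, 1, 3], 3, false),
    ([0, 0, 0, 0, 0, 1, 1, 1, 1, 1, 2, 2, 2, 2, 2, 0, 2, 0, 0, 0, 0, 1, 1, 1, 1, 1, 2, 2, 2, 2, 2, 2, 0, 0, 0, 0, 0, 1, 1, 1, 1, 1, 2, 0, 0], [1, 1, 1, 1, 1, 1, 3], 3, false),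
    ([0, 0, 0, 0, 0, 1, 1, 1, 1, 1, 2, 2, 2, 2, 2, 0, 2, 0, 0, 0, 0, 1, 1, 1, 1, 1, 2, 2, 2, 2, 2, 2, 0, 0, 0, 0, 0, 1, 1, 1, 1, 1, 2, 0, 0, 0], [1, 1, 1, 1, 1, 3], 4, false),
    ([0, 0, 0, 0, 0, 1, 1, 1, 1, 1, 2, 2, 2, 2, 2, 0, 2, 0, 0, 0, 0, 1, 1, 1, 1, 1, 2, 2, 2, 2, 2, 2, 0, 0, 0, 0, 0, 1, 1, 1, 1, 1, 2, 0, 0, 0, 0, 0, 0, 0, 1], [1, 1, 1, 1, 3], 4, false),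
    ([0, 0, 0, 0, 0, 1, 1, 1, 1, 1, 2, 2, 2, 2, 2, 0, 2, 0, 0, 0, 0, 1, 1, 1, 1, 1, 2, 2, 2, 2, 2, 2, 0, 0, 0, 0, 0, 1, 1, 1, 1, 1, 2, 0, 0, 0, 0, 0, 0, 0, 1, 0, 0, 0, 0, 1], [1, 1, 1, 3], 4, false),
    ([0, 0, 0, 0, 0, 1, 1, 1, 1, 1, 2, 2, 2, 2, 2, 0, 2, 0, 0, 0, 0, 1, 1, 1, 1, 1, 2, 2, 2, 2, 2, 2, 0, 0, 0, 0, 0, 1, 1, 1, 1, 1, 2, 0, 0, 0, 0, 0, 0, 0, 1, 0, 0, 0, 0, 1, 0, 0, 0, 0, 1], [1, 1, 3], 4, false),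
    ([0, 0, 0, 0, 0, 1, 1, 1, 1, 1, 2, 2, 2, 2, 2, 0, 2, 0, 0, 0, 0, 1, 1, 1, 1, 1, 2, 2, 2, 2, 2, 2, 0, 0, 0, 0, 0, 1, 1, 1, 1, 1, 2, 0, 0, 0, 0, 0, 0, 0, 1, 0, 0, 0, 0, 1, 0, 0, 0, 0, 1, 0, 0, 0, 0, 1], [1, 3], 4, false),
    ([0, 0, 0, 0, 0, 1, 1, 1, 1, 1, 2, 2, 2, 2, 2, 0, 2, 0, 0, 0, 0, 1, 1, 1, 1, 1, 2, 2, 2, 2, 2, 2, 0, 0, 0, 0, 0, 1, 1, 1, 1, 1, 2, 0, 0, 0, 0, 0, 0, 0, 1, 0, 0, 0, 0, 1, 0, 0, 0, 0, 1, 0, 0, 0, 0, 1, 0, 0, 0, 0, 1], [3], 4, false),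
    ([0, 0, 0, 0, 0, 1, 1, 1, 1, 1, 2, 2, 2, 2, 2, 0, 2, 0, 0, 0, 0, 1, 1, 1, 1, 1, 2, 2, 2, 2, 2, 2, 0, 0, 0, 0, 0, 1, 1, 1, 1, 1, 2, 0, 0, 0, 0, 0, 0, 0, 1, 0, 0, 0, 0, 1, 0, 0, 0, 0, 1, 0, 0, 0, 0, 1, 0, 0, 0, 0], [0, 0, 0, 1, 2, 3], 1, false),
    ([0, 0, 0, 0, 0, 1, 1, 1, 1, 1, 2, 2, 2, 2, 2, 0, 2, 0, 0, 0, 0, 1, 1, 1, 1, 1, 2, 2, 2, 2, 2, 2, 0, 0, 0, 0, 0, 1, 1, 1, 1, 1, 2, 0, 0, 0, 0, 0, 0, 0, 1, 0, 0, 0, 0, 1, 0, 0, 0, 0, 1, 0, 0, 0, 0, 1, 0, 0, 0, 0, 0], [0, 0, 1, 2, 3], 1, false),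
    ([0, 0, 0, 0, 0, 1, 1, 1, 1, 1, 2, 2, 2, 2, 2, 0, 2, 0, 0, 0, 0, 1, 1, 1, 1, 1, 2, 2, 2, 2, 2, 2, 0, 0, 0, 0, 0, 1, 1, 1, 1, 1, 2, 0, 0, 0, 0, 0, 0, 0, 1, 0, 0, 0, 0, 1, 0, 0, 0, 0, 1, 0, 0, 0, 0, 1, 0, 0, 0, 0, 0, 0], [0, 1, 2, 3], 1, false),
    ([0, 0, 0, 0, 0, 1, 1, 1, 1, 1, 2, 2, 2, 2, 2, 0, 2, 0, 0, 0, 0, 1, 1, 1, 1, 1, 2, 2, 2, 2, 2, 2, 0, 0, 0, 0, 0, 1, 1, 1, 1, 1, 2, 0, 0, 0, 0, 0, 0, 0, 1, 0, 0, 0, 0, 1, 0, 0, 0, 0, 1, 0, 0, 0, 0, 1, 0, 0, 0, 0, 0, 0, 0], [1, 2, 3], 1, false),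
    ([0, 0, 0, 0, 0, 1, 1, 1, 1, 1, 2, 2, 2, 2, 2, 0, 2, 0, 0, 0, 0, 1, 1, 1, 1, 1, 2, 2, 2, 2, 2, 2, 0, 0, 0, 0, 0, 1, 1, 1, 1, 1, 2, 0, 0, 0, 0, 0, 0, 0, 1, 0, 0, 0, 0, 1, 0, 0, 0, 0, 1, 0, 0, 0, 0, 1, 0], [1, 1, 2, 3], 0, false),
    ([0, 0, 0, 0, 0, 1, 1, 1, 1, 1, 2, 2, 2, 2, 2, 0, 2, 0, 0, 0, 0, 1, 1, 1, 1, 1, 2, 2, 2, 2, 2, 2, 0, 0, 0, 0, 0, 1, 1, 1, 1, 1, 2, 0, 0, 0, 0, 0, 0, 0, 1, 0, 0, 0, 0, 1, 0, 0, 0, 0, 1, 0, 0, 0, 0], [1, 1, 2, 3], 1, false),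
    ([0, 0, 0, 0, 0, 1, 1, 1, 1, 1, 2, 2, 2, 2, 2, 0, 2, 0, 0, 0, 0, 1, 1, 1, 1, 1, 2, 2, 2, 2, 2, 2, 0, 0, 0, 0, 0, 1, 1, 1, 1, 1, 2, 0, 0, 0, 0, 0, 0, 0, 1, 0, 0, 0, 0, 1, 0, 0, 0, 0], [0, 0, 0, 0, 1, 1, 1, 2, 3], 1, false),
    ([0, 0, 0, 0, 0, 1, 1, 1, 1, 1, 2, 2, 2, 2, 2, 0, 2, 0, 0, 0, 0, 1, 1, 1, 1, 1, 2, 2, 2, 2, 2, 2, 0, 0, 0, 0, 0, 1, 1, 1, 1, 1, 2, 0, 0, 0, 0, 0, 0, 0, 1, 0, 0, 0, 0, 1, 0, 0, 0, 0, 0], [0, 0, 0, 1, 1, 1, 2, 3], 1, false),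
    ([0, 0, 0, 0, 0, 1, 1, 1, 1, 1, 2, 2, 2, 2, 2, 0, 2, 0, 0, 0, 0, 1, 1, 1, 1, 1, 2, 2, 2, 2, 2, 2, 0, 0, 0, 0, 0, 1, 1, 1, 1, 1, 2, 0, 0, 0, 0, 0, 0, 0, 1, 0, 0, 0, 0, 1, 0, 0, 0, 0, 0, 0], [0, 0, 1, 1, 1, 2, 3], 1, false),
    ([0, 0, 0, 0, 0, 1, 1, 1, 1, 1, 2, 2, 2, 2, 2, 0, 2, 0, 0, 0, 0, 1, 1, 1, 1, 1, 2, 2, 2, 2, 2, 2, 0, 0, 0, 0, 0, 1, 1, 1, 1, 1, 2, 0, 0, 0, 0, 0, 0, 0, 1, 0, 0, 0, 0, 1, 0, 0, 0, 0, 0, 0, 0], [0, 1, 1, 1, 2, 3], 1, false),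
    ([0, 0, 0, 0, 0, 1, 1, 1, 1, 1, 2, 2, 2, 2, 2, 0, 2, 0, 0, 0, 0, 1, 1, 1, 1, 1, 2, 2, 2, 2, 2, 2, 0, 0, 0, 0, 0, 1, 1, 1, 1, 1, 2, 0, 0, 0, 0, 0, 0, 0, 1, 0, 0, 0, 0, 1, 0, 0, 0, 0, 0, 0, 0, 0], [1, 1, 1, 2, 3], 1, false),
    ([0, 0, 0, 0, 0, 1, 1, 1, 1, 1, 2, 2, 2, 2, 2, 0, 2, 0, 0, 0, 0, 1, 1, 1, 1, 1, 2, 2, 2, 2, 2, 2, 0, 0, 0, 0, 0, 1, 1, 1, 1, 1, 2, 0, 0, 0, 0, 0, 0, 0, 1, 0, 0, 0, 0, 1, 0, 0], [1, 1, 1, 1, 2, 3], 0, false),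
    ([0, 0, 0, 0, 0, 1, 1, 1, 1, 1, 2, 2, 2, 2, 2, 0, 2, 0, 0, 0, 0, 1, 1, 1, 1, 1, 2, 2, 2, 2, 2, 2, 0, 0, 0, 0, 0, 1, 1, 1, 1, 1, 2, 0, 0, 0, 0, 0, 0, 0, 1, 0, 0, 0, 0], [0, 1, 1, 1, 1, 2, 3], 1, false),
    ([0, 0, 0, 0, 0, 1, 1, 1, 1, 1, 2, 2, 2, 2, 2, 0, 2, 0, 0, 0, 0, 1, 1, 1, 1, 1, 2, 2, 2, 2, 2, 2, 0, 0, 0, 0, 0, 1, 1, 1, 1, 1, 2, 0, 0, 0, 0, 0, 0, 0, 1, 0, 0, 0, 0, 0], [1, 1, 1, 1, 2, 3], 1, false),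
    ([0, 0, 0, 0, 0, 1, 1, 1, 1, 1, 2, 2, 2, 2, 2, 0, 2, 0, 0, 0, 0, 1, 1, 1, 1, 1, 2, 2, 2, 2, 2, 2, 0, 0, 0, 0, 0, 1, 1, 1, 1, 1, 2, 0, 0, 0, 0, 0, 0, 0], [0, 0, 0, 0, 0, 1, 1, 1, 1, 1, 2, 3], 1, false),
    ([0, 0, 0, 0, 0, 1, 1, 1, 1, 1, 2, 2, 2, 2, 2, 0, 2, 0, 0, 0, 0, 1, 1, 1, 1, 1, 2, 2, 2, 2, 2, 2, 0, 0, 0, 0, 0, 1, 1, 1, 1, 1, 2, 0, 0, 0, 0, 0, 0, 0, 0], [0, 0, 0, 0, 1, 1, 1, 1, 1, 2, 3], 1, false),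
    ([0, 0, 0, 0, 0, 1, 1, 1, 1, 1, 2, 2, 2, 2, 2, 0, 2, 0, 0, 0, 0, 1, 1, 1, 1, 1, 2, 2, 2, 2, 2, 2, 0, 0, 0, 0, 0, 1, 1, 1, 1, 1, 2, 0, 0, 0, 0, 0, 0, 0, 0, 0], [0, 0, 0, 1, 1, 1, 1, 1, 2, 3], 1, false),
    ([0, 0, 0, 0, 0, 1, 1, 1, 1, 1, 2, 2, 2, 2, 2, 0, 2, 0, 0, 0, 0, 1, 1, 1, 1, 1, 2, 2, 2, 2, 2, 2, 0, 0, 0, 0, 0, 1, 1, 1, 1, 1, 2, 0, 0, 0, 0, 0, 0, 0, 0, 0, 0], [0, 0, 1, 1, 1, 1, 1, 2, 3], 1, false),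
    ([0, 0, 0, 0, 0, 1, 1, 1, 1, 1, 2, 2, 2, 2, 2, 0, 2, 0, 0, 0, 0, 1, 1, 1, 1, 1, 2, 2, 2, 2, 2, 2, 0, 0, 0, 0, 0, 1, 1, 1, 1, 1, 2, 0, 0, 0, 0, 0, 0, 0, 0, 0, 0, 0], [0, 1, 1, 1, 1, 1, 2, 3], 1, false),
    ([0, 0, 0, 0, 0, 1, 1, 1, 1, 1, 2, 2, 2, 2, 2, 0, 2, 0, 0, 0, 0, 1, 1, 1, 1, 1, 2, 2, 2, 2, 2, 2, 0, 0, 0, 0, 0, 1, 1, 1, 1, 1, 2, 0, 0, 0, 0, 0, 0, 0, 0, 0, 0, 0, 0], [1, 1, 1, 1, 1, 2, 3], 1, false),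
    ([0, 0, 0, 0, 0, 1, 1, 1, 1, 1, 2, 2, 2, 2, 2, 0, 2, 0, 0, 0, 0, 1, 1, 1, 1, 1, 2, 2, 2, 2, 2, 2, 0, 0, 0, 0, 0, 1, 1, 1, 1, 1, 2, 0, 0, 0, 0, 0, 0], [1, 1, 1, 1, 1, 1, 2, 3], 0, false),
    ([0, 0, 0, 0, 0, 1, 1, 1, 1, 1, 2, 2, 2, 2, 2, 0, 2, 0, 0, 0, 0, 1, 1, 1, 1, 1, 2, 2, 2, 2, 2, 2, 0, 0, 0, 0, 0, 1, 1, 1, 1, 1], [0, 0, 0, 0, 0, 1, 1, 1, 1, 1, 1, 2, 3], 3, false),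
    ([0, 0, 0, 0, 0, 1, 1, 1, 1, 1, 2, 2, 2, 2, 2, 0, 2, 0, 0, 0, 0, 1, 1, 1, 1, 1, 2, 2, 2, 2, 2, 2, 0, 0, 0, 0, 0, 1, 1, 1, 1, 1, 0], [0, 0, 0, 0, 1, 1, 1, 1, 1, 1, 2, 3], 3, false),
    ([0, 0, 0, 0, 0, 1, 1, 1, 1, 1, 2, 2, 2, 2, 2, 0, 2, 0, 0, 0, 0, 1, 1, 1, 1, 1, 2, 2, 2, 2, 2, 2, 0, 0, 0, 0, 0, 1, 1, 1, 1, 1, 0, 0], [0, 0, 0, 1, 1, 1, 1, 1, 1, 2, 3], 3, false),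
    ([0, 0, 0, 0, 0, 1, 1, 1, 1, 1, 2, 2, 2, 2, 2, 0, 2, 0, 0, 0, 0, 1, 1, 1, 1, 1, 2, 2, 2, 2, 2, 2, 0, 0, 0, 0, 0, 1, 1, 1, 1, 1, 0, 0, 0], [0, 0, 1, 1, 1, 1, 1, 1, 2, 3], 3, false),
    ([0, 0, 0, 0, 0, 1, 1, 1, 1, 1, 2, 2, 2, 2, 2, 0, 2, 0, 0, 0, 0, 1, 1, 1, 1, 1, 2, 2, 2, 2, 2, 2, 0, 0, 0, 0, 0, 1, 1, 1, 1, 1, 0, 0, 0, 0], [0, 1, 1, 1, 1, 1, 1, 2, 3], 3, false),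
    ([0, 0, 0, 0, 0, 1, 1, 1, 1, 1, 2, 2, 2, 2, 2, 0, 2, 0, 0, 0, 0, 1, 1, 1, 1, 1, 2, 2, 2, 2, 2, 2, 0, 0, 0, 0, 0, 1, 1, 1, 1, 1, 0, 0, 0, 0, 0], [1, 1, 1, 1, 1, 1, 2, 3], 3, false),
    ([0, 0, 0, 0, 0, 1, 1, 1, 1, 1, 2, 2, 2, 2, 2, 0, 2, 0, 0, 0, 0, 1, 1, 1, 1, 1, 2, 2, 2, 2, 2, 2, 0, 0, 0, 0, 0, 1, 1, 1, 1, 1, 0, 0, 0, 0, 0, 0], [1, 1, 1, 1, 1, 2, 3], 4, false),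
    ([0, 0, 0, 0, 0, 1, 1, 1, 1, 1, 2, 2, 2, 2, 2, 0, 2, 0, 0, 0, 0, 1, 1, 1, 1, 1, 2, 2, 2, 2, 2, 2, 0, 0, 0, 0, 0, 1, 1, 1, 1, 1, 0, 0, 0, 0, 0, 0, 0, 0, 0, 0, 1], [1, 1, 1, 1, 2, 3], 4, false),
    ([0, 0, 0, 0, 0, 1, 1, 1, 1, 1, 2, 2, 2, 2, 2, 0, 2, 0, 0, 0, 0, 1, 1, 1, 1, 1, 2, 2, 2, 2, 2, 2, 0, 0, 0, 0, 0, 1, 1, 1, 1, 1, 0, 0, 0, 0, 0, 0, 0, 0, 0, 0, 1, 0, 0, 0, 0, 1], [1, 1, 1, 2, 3], 4, false),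
    ([0, 0, 0, 0, 0, 1, 1, 1, 1, 1, 2, 2, 2, 2, 2, 0, 2, 0, 0, 0, 0, 1, 1, 1, 1, 1, 2, 2, 2, 2, 2, 2, 0, 0, 0, 0, 0, 1, 1, 1, 1, 1, 0, 0, 0, 0, 0, 0, 0, 0, 0, 0, 1, 0, 0, 0, 0, 1, 0, 0, 0, 0, 1], [1, 1, 2, 3], 4, false),
    ([0, 0, 0, 0, 0, 1, 1, 1, 1, 1, 2, 2, 2, 2, 2, 0, 2, 0, 0, 0, 0, 1, 1, 1, 1, 1, 2, 2, 2, 2, 2, 2, 0, 0, 0, 0, 0, 1, 1, 1, 1, 1, 0, 0, 0, 0, 0, 0, 0, 0, 0, 0, 1, 0, 0, 0, 0, 1, 0, 0, 0, 0, 1, 0, 0, 0, 0, 1], [1, 2, 3], 4, false),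
    ([0, 0, 0, 0, 0, 1, 1, 1, 1, 1, 2, 2, 2, 2, 2, 0, 2, 0, 0, 0, 0, 1, 1, 1, 1, 1, 2, 2, 2, 2, 2, 2, 0, 0, 0, 0, 0, 1, 1, 1, 1, 1, 0, 0, 0, 0, 0, 0, 0, 0, 0, 0, 1, 0, 0, 0, 0, 1, 0, 0, 0, 0, 1, 0, 0, 0, 0, 1, 0, 0, 0, 0, 1], [2, 3], 4, false),
    ([0, 0, 0, 0, 0, 1, 1, 1, 1, 1, 2, 2, 2, 2, 2, 0, 2, 0, 0, 0, 0, 1, 1, 1, 1, 1, 2, 2, 2, 2, 2, 2, 0, 0, 0, 0, 0, 1, 1, 1, 1, 1, 0, 0, 0, 0, 0, 0, 0, 0, 0, 0, 1, 0, 0, 0, 0, 1, 0, 0, 0, 0, 1, 0, 0, 0, 0, 1, 0, 0, 0, 0], [0, 0, 0, 1, 2, 2, 3], 1, false),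
    ([0, 0, 0, 0, 0, 1, 1, 1, 1, 1, 2, 2, 2, 2, 2, 0, 2, 0, 0, 0, 0, 1, 1, 1, 1, 1, 2, 2, 2, 2, 2, 2, 0, 0, 0, 0, 0, 1, 1, 1, 1, 1, 0, 0, 0, 0, 0, 0, 0, 0, 0, 0, 1, 0, 0, 0, 0, 1, 0, 0, 0, 0, 1, 0, 0, 0, 0, 1, 0, 0, 0, 0, 0], [0, 0, 1, 2, 2, 3], 1, false),
    ([0, 0, 0, 0, 0, 1, 1, 1, 1, 1, 2, 2, 2, 2, 2, 0, 2, 0, 0, 0, 0, 1, 1, 1, 1, 1, 2, 2, 2, 2, 2, 2, 0, 0, 0, 0, 0, 1, 1, 1, 1, 1, 0, 0, 0, 0, 0, 0, 0, 0, 0, 0, 1, 0, 0, 0, 0, 1, 0, 0, 0, 0, 1, 0, 0, 0, 0, 1, 0, 0, 0, 0, 0, 0], [0, 1, 2, 2, 3], 1, false),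
    ([0, 0, 0, 0, 0, 1, 1, 1, 1, 1, 2, 2, 2, 2, 2, 0, 2, 0, 0, 0, 0, 1, 1, 1, 1, 1, 2, 2, 2, 2, 2, 2, 0, 0, 0, 0, 0, 1, 1, 1, 1, 1, 0, 0, 0, 0, 0, 0, 0, 0, 0, 0, 1, 0, 0, 0, 0, 1, 0, 0, 0, 0, 1, 0, 0, 0, 0, 1, 0, 0, 0, 0, 0, 0, 0], [1, 2, 2, 3], 1, false)]

/-- Part of a closed path for the prime 7. -/
def path7_4_8 : List SchurPath.Step :=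
  [([0, 0, 0, 0, 0, 1, 1, 1, 1, 1, 2, 2, 2, 2, 2, 0, 2, 0, 0, 0, 0, 1, 1, 1, 1, 1, 2, 2, 2, 2, 2, 2, 0, 0, 0, 0, 0, 1, 1, 1, 1, 1, 0, 0, 0, 0, 0, 0, 0, 0, 0, 0, 1, 0, 0, 0, 0, 1, 0, 0, 0, 0, 1, 0, 0, 0, 0, 1, 0], [1, 1, 2, 2, 3], 0, false),
    ([0, 0, 0, 0, 0, 1, 1, 1, 1, 1, 2, 2, 2, 2, 2, 0, 2, 0, 0, 0, 0, 1, 1, 1, 1, 1, 2, 2, 2, 2, 2, 2, 0, 0, 0, 0, 0, 1, 1, 1, 1, 1, 0, 0, 0, 0, 0, 0, 0, 0, 0, 0, 1, 0, 0, 0, 0, 1, 0, 0, 0, 0, 1, 0, 0, 0, 0], [1, 1, 2, 2, 3], 1, false),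
    ([0, 0, 0, 0, 0, 1, 1, 1, 1, 1, 2, 2, 2, 2, 2, 0, 2, 0, 0, 0, 0, 1, 1, 1, 1, 1, 2, 2, 2, 2, 2, 2, 0, 0, 0, 0, 0, 1, 1, 1, 1, 1, 0, 0, 0, 0, 0, 0, 0, 0, 0, 0, 1, 0, 0, 0, 0, 1, 0, 0, 0, 0], [0, 0, 0, 0, 1, 1, 1, 2, 2, 3], 1, false),
    ([0, 0, 0, 0, 0, 1, 1, 1, 1, 1, 2, 2, 2, 2, 2, 0, 2, 0, 0, 0, 0, 1, 1, 1, 1, 1, 2, 2, 2, 2, 2, 2, 0, 0, 0, 0, 0, 1, 1, 1, 1, 1, 0, 0, 0, 0, 0, 0, 0, 0, 0, 0, 1, 0, 0, 0, 0, 1, 0, 0, 0, 0, 0], [0, 0, 0, 1, 1, 1, 2, 2, 3], 1, false),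
    ([0, 0, 0, 0, 0, 1, 1, 1, 1, 1, 2, 2, 2, 2, 2, 0, 2, 0, 0, 0, 0, 1, 1, 1, 1, 1, 2, 2, 2, 2, 2, 2, 0, 0, 0, 0, 0, 1, 1, 1, 1, 1, 0, 0, 0, 0, 0, 0, 0, 0, 0, 0, 1, 0, 0, 0, 0, 1, 0, 0, 0, 0, 0, 0], [0, 0, 1, 1, 1, 2, 2, 3], 1, false),
    ([0, 0, 0, 0, 0, 1, 1, 1, 1, 1, 2, 2, 2, 2, 2, 0, 2, 0, 0, 0, 0, 1, 1, 1, 1, 1, 2, 2, 2, 2, 2, 2, 0, 0, 0, 0, 0, 1, 1, 1, 1, 1, 0, 0, 0, 0, 0, 0, 0, 0, 0, 0, 1, 0, 0, 0, 0, 1, 0, 0, 0, 0, 0, 0, 0], [0, 1, 1, 1, 2, 2, 3], 1, false),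
    ([0, 0, 0, 0, 0, 1, 1, 1, 1, 1, 2, 2, 2, 2, 2, 0, 2, 0, 0, 0, 0, 1, 1, 1, 1, 1, 2, 2, 2, 2, 2, 2, 0, 0, 0, 0, 0, 1, 1, 1, 1, 1, 0, 0, 0, 0, 0, 0, 0, 0, 0, 0, 1, 0, 0, 0, 0, 1, 0, 0, 0, 0, 0, 0, 0, 0], [1, 1, 1, 2, 2, 3], 1, false),
    ([0, 0, 0, 0, 0, 1, 1, 1, 1, 1, 2, 2, 2, 2, 2, 0, 2, 0, 0, 0, 0, 1, 1, 1, 1, 1, 2, 2, 2, 2, 2, 2, 0, 0, 0, 0, 0, 1, 1, 1, 1, 1, 0, 0, 0, 0, 0, 0, 0, 0, 0, 0, 1, 0, 0, 0, 0, 1, 0, 0], [1, 1, 1, 1, 2, 2, 3], 0, false),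
    ([0, 0, 0, 0, 0, 1, 1, 1, 1, 1, 2, 2, 2, 2, 2, 0, 2, 0, 0, 0, 0, 1, 1, 1, 1, 1, 2, 2, 2, 2, 2, 2, 0, 0, 0, 0, 0, 1, 1, 1, 1, 1, 0, 0, 0, 0, 0, 0, 0, 0, 0, 0, 1, 0, 0, 0, 0], [0, 1, 1, 1, 1, 2, 2, 3], 1, false),
    ([0, 0, 0, 0, 0, 1, 1, 1, 1, 1, 2, 2, 2, 2, 2, 0, 2, 0, 0, 0, 0, 1, 1, 1, 1, 1, 2, 2, 2, 2, 2, 2, 0, 0, 0, 0, 0, 1, 1, 1, 1, 1, 0, 0, 0, 0, 0, 0, 0, 0, 0, 0, 1, 0, 0, 0, 0, 0], [1, 1, 1, 1, 2, 2, 3], 1, false),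
    ([0, 0, 0, 0, 0, 1, 1, 1, 1, 1, 2, 2, 2, 2, 2, 0, 2, 0, 0, 0, 0, 1, 1, 1, 1, 1, 2, 2, 2, 2, 2, 2, 0, 0, 0, 0, 0, 1, 1, 1, 1, 1, 0, 0, 0, 0, 0, 0, 0, 0, 0, 0], [0, 0, 0, 0, 0, 1, 1, 1, 1, 1, 2, 2, 3], 1, false),
    ([0, 0, 0, 0, 0, 1, 1, 1, 1, 1, 2, 2, 2, 2, 2, 0, 2, 0, 0, 0, 0, 1, 1, 1, 1, 1, 2, 2, 2, 2, 2, 2, 0, 0, 0, 0, 0, 1, 1, 1, 1, 1, 0, 0, 0, 0, 0, 0, 0, 0, 0, 0, 0], [0, 0, 0, 0, 1, 1, 1, 1, 1, 2, 2, 3], 1, false),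
    ([0, 0, 0, 0, 0, 1, 1, 1, 1, 1, 2, 2, 2, 2, 2, 0, 2, 0, 0, 0, 0, 1, 1, 1, 1, 1, 2, 2, 2, 2, 2, 2, 0, 0, 0, 0, 0, 1, 1, 1, 1, 1, 0, 0, 0, 0, 0, 0, 0, 0, 0, 0, 0, 0], [0, 0, 0, 1, 1, 1, 1, 1, 2, 2, 3], 1, false),
    ([0, 0, 0, 0, 0, 1, 1, 1, 1, 1, 2, 2, 2, 2, 2, 0, 2, 0, 0, 0, 0, 1, 1, 1, 1, 1, 2, 2, 2, 2, 2, 2, 0, 0, 0, 0, 0, 1, 1, 1, 1, 1, 0, 0, 0, 0, 0, 0, 0, 0, 0, 0, 0, 0, 0], [0, 0, 1, 1, 1, 1, 1, 2, 2, 3], 1, false),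
    ([0, 0, 0, 0, 0, 1, 1, 1, 1, 1, 2, 2, 2, 2, 2, 0, 2, 0, 0, 0, 0, 1, 1, 1, 1, 1, 2, 2, 2, 2, 2, 2, 0, 0, 0, 0, 0, 1, 1, 1, 1, 1, 0, 0, 0, 0, 0, 0, 0, 0, 0, 0, 0, 0, 0, 0], [0, 1, 1, 1, 1, 1, 2, 2, 3], 1, false),
    ([0, 0, 0, 0, 0, 1, 1, 1, 1, 1, 2, 2, 2, 2, 2, 0, 2, 0, 0, 0, 0, 1, 1, 1, 1, 1, 2, 2, 2, 2, 2, 2, 0, 0, 0, 0, 0, 1, 1, 1, 1, 1, 0, 0, 0, 0, 0, 0, 0, 0, 0, 0, 0, 0, 0, 0, 0], [1, 1, 1, 1, 1, 2, 2, 3], 1, false),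
    ([0, 0, 0, 0, 0, 1, 1, 1, 1, 1, 2, 2, 2, 2, 2, 0, 2, 0, 0, 0, 0, 1, 1, 1, 1, 1, 2, 2, 2, 2, 2, 2, 0, 0, 0, 0, 0, 1, 1, 1, 1, 1, 0, 0, 0, 0, 0, 0, 0, 0, 0], [1, 1, 1, 1, 1, 1, 2, 2, 3], 0, false),
    ([0, 0, 0, 0, 0, 1, 1, 1, 1, 1, 2, 2, 2, 2, 2, 0, 2, 0, 0, 0, 0, 1, 1, 1, 1, 1, 2, 2, 2, 2, 2, 2, 0, 0, 0, 0, 0, 1, 1, 1, 1, 1, 0, 0], [1, 1, 1, 1, 1, 1, 2, 2, 3], 0, false),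
    ([0, 0, 0, 0, 0, 1, 1, 1, 1, 1, 2, 2, 2, 2, 2, 0, 2, 0, 0, 0, 0, 1, 1, 1, 1, 1, 2, 2, 2, 2, 2, 2, 0, 0, 0, 0, 0, 1, 1, 1, 1], [0, 1, 1, 1, 1, 1, 1, 2, 2, 3], 1, false),
    ([0, 0, 0, 0, 0, 1, 1, 1, 1, 1, 2, 2, 2, 2, 2, 0, 2, 0, 0, 0, 0, 1, 1, 1, 1, 1, 2, 2, 2, 2, 2, 2, 0, 0, 0, 0, 0, 1, 1, 1, 1, 0], [1, 1, 1, 1, 1, 1, 2, 2, 3], 1, false),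
    ([0, 0, 0, 0, 0, 1, 1, 1, 1, 1, 2, 2, 2, 2, 2, 0, 2, 0, 0, 0, 0, 1, 1, 1, 1, 1, 2, 2, 2, 2, 2, 2, 0, 0, 0, 0, 0, 1, 1, 1, 1, 0, 0], [2, 2, 3], 2, false),
    ([0, 0, 0, 0, 0, 1, 1, 1, 1, 1, 2, 2, 2, 2, 2, 0, 2, 0, 0, 0, 0, 1, 1, 1, 1, 1, 2, 2, 2, 2, 2, 2, 0, 0, 0, 0, 0, 1, 1, 1], [0, 2, 2, 3], 1, false),
    ([0, 0, 0, 0, 0, 1, 1, 1, 1, 1, 2, 2, 2, 2, 2, 0, 2, 0, 0, 0, 0, 1, 1, 1, 1, 1, 2, 2, 2, 2, 2, 2, 0, 0, 0, 0, 0, 1, 1, 1, 0], [2, 2, 3], 1, false),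
    ([0, 0, 0, 0, 0, 1, 1, 1, 1, 1, 2, 2, 2, 2, 2, 0, 2, 0, 0, 0, 0, 1, 1, 1, 1, 1, 2, 2, 2, 2, 2, 2, 0, 0, 0, 0, 0, 1, 1], [0, 1, 2, 2, 3], 1, false),
    ([0, 0, 0, 0, 0, 1, 1, 1, 1, 1, 2, 2, 2, 2, 2, 0, 2, 0, 0, 0, 0, 1, 1, 1, 1, 1, 2, 2, 2, 2, 2, 2, 0, 0, 0, 0, 0, 1, 1, 0], [1, 2, 2, 3], 1, false),
    ([0, 0, 0, 0, 0, 1, 1, 1, 1, 1, 2, 2, 2, 2, 2, 0, 2, 0, 0, 0, 0, 1, 1, 1, 1, 1, 2, 2, 2, 2, 2, 2, 0, 0, 0, 0, 0, 1], [0, 1, 1, 2, 2, 3], 1, false),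
    ([0, 0, 0, 0, 0, 1, 1, 1, 1, 1, 2, 2, 2, 2, 2, 0, 2, 0, 0, 0, 0, 1, 1, 1, 1, 1, 2, 2, 2, 2, 2, 2, 0, 0, 0, 0, 0, 1, 0], [1, 1, 2, 2, 3], 1, false),
    ([0, 0, 0, 0, 0, 1, 1, 1, 1, 1, 2, 2, 2, 2, 2, 0, 2, 0, 0, 0, 0, 1, 1, 1, 1, 1, 2, 2, 2, 2, 2, 2, 0, 0, 0, 0, 0], [0, 1, 1, 1, 2, 2, 3], 1, false),
    ([0, 0, 0, 0, 0, 1, 1, 1, 1, 1, 2, 2, 2, 2, 2, 0, 2, 0, 0, 0, 0, 1, 1, 1, 1, 1, 2, 2, 2, 2, 2, 2, 0, 0, 0, 0, 0, 0], [1, 1, 1, 2, 2, 3], 1, false),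
    ([0, 0, 0, 0, 0, 1, 1, 1, 1, 1, 2, 2, 2, 2, 2, 0, 2, 0, 0, 0, 0, 1, 1, 1, 1, 1, 2, 2, 2, 2, 2, 2], [1, 1, 1, 1, 2, 2, 3], 0, false),
    ([0, 0, 0, 0, 0, 1, 1, 1, 1, 1, 2, 2, 2, 2, 2, 0, 2, 0, 0, 0, 0, 1, 1, 1, 1, 1, 2, 2, 2, 2, 2], [1, 1, 1, 2, 2, 3], 4, false),
    ([0, 0, 0, 0, 0, 1, 1, 1, 1, 1, 2, 2, 2, 2, 2, 0, 2, 0, 0, 0, 0, 1, 1, 1, 1, 1, 2, 2, 2, 2, 2, 0, 0, 0, 0, 1], [1, 1, 2, 2, 3], 4, false),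
    ([0, 0, 0, 0, 0, 1, 1, 1, 1, 1, 2, 2, 2, 2, 2, 0, 2, 0, 0, 0, 0, 1, 1, 1, 1, 1, 2, 2, 2, 2, 2, 0, 0, 0, 0, 1, 0, 0, 0, 0, 1], [1, 2, 2, 3], 4, false),
    ([0, 0, 0, 0, 0, 1, 1, 1, 1, 1, 2, 2, 2, 2, 2, 0, 2, 0, 0, 0, 0, 1, 1, 1, 1, 1, 2, 2, 2, 2, 2, 0, 0, 0, 0, 1, 0, 0, 0, 0, 1, 0, 0, 0, 0, 1], [2, 2, 3], 4, false),
    ([0, 0, 0, 0, 0, 1, 1, 1, 1, 1, 2, 2, 2, 2, 2, 0, 2, 0, 0, 0, 0, 1, 1, 1, 1, 1, 2, 2, 2, 2, 2, 0, 0, 0, 0, 1, 0, 0, 0, 0, 1, 0, 0, 0, 0], [0, 0, 0, 1, 2, 2, 2, 3], 1, false),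
    ([0, 0, 0, 0, 0, 1, 1, 1, 1, 1, 2, 2, 2, 2, 2, 0, 2, 0, 0, 0, 0, 1, 1, 1, 1, 1, 2, 2, 2, 2, 2, 0, 0, 0, 0, 1, 0, 0, 0, 0, 1, 0, 0, 0, 0, 0], [0, 0, 1, 2, 2, 2, 3], 1, false),
    ([0, 0, 0, 0, 0, 1, 1, 1, 1, 1, 2, 2, 2, 2, 2, 0, 2, 0, 0, 0, 0, 1, 1, 1, 1, 1, 2, 2, 2, 2, 2, 0, 0, 0, 0, 1, 0, 0, 0, 0, 1, 0, 0, 0, 0, 0, 0], [0, 1, 2, 2, 2, 3], 1, false),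
    ([0, 0, 0, 0, 0, 1, 1, 1, 1, 1, 2, 2, 2, 2, 2, 0, 2, 0, 0, 0, 0, 1, 1, 1, 1, 1, 2, 2, 2, 2, 2, 0, 0, 0, 0, 1, 0, 0, 0, 0, 1, 0, 0, 0, 0, 0, 0, 0], [1, 2, 2, 2, 3], 1, false),
    ([0, 0, 0, 0, 0, 1, 1, 1, 1, 1, 2, 2, 2, 2, 2, 0, 2, 0, 0, 0, 0, 1, 1, 1, 1, 1, 2, 2, 2, 2, 2, 0, 0, 0, 0, 1, 0, 0, 0, 0, 1, 0], [1, 1, 2, 2, 2, 3], 0, false),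
    ([0, 0, 0, 0, 0, 1, 1, 1, 1, 1, 2, 2, 2, 2, 2, 0, 2, 0, 0, 0, 0, 1, 1, 1, 1, 1, 2, 2, 2, 2, 2, 0, 0, 0, 0, 1, 0, 0, 0, 0], [1, 1, 2, 2, 2, 3], 1, false),
    ([0, 0, 0, 0, 0, 1, 1, 1, 1, 1, 2, 2, 2, 2, 2, 0, 2, 0, 0, 0, 0, 1, 1, 1, 1, 1, 2, 2, 2, 2, 2, 0, 0, 0, 0], [0, 0, 0, 0, 1, 1, 1, 2, 2, 2, 3], 1, false),
    ([0, 0, 0, 0, 0, 1, 1, 1, 1, 1, 2, 2, 2, 2, 2, 0, 2, 0, 0, 0, 0, 1, 1, 1, 1, 1, 2, 2, 2, 2, 2, 0, 0, 0, 0, 0], [0, 0, 0, 1, 1, 1, 2, 2, 2, 3], 1, false),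
    ([0, 0, 0, 0, 0, 1, 1, 1, 1, 1, 2, 2, 2, 2, 2, 0, 2, 0, 0, 0, 0, 1, 1, 1, 1, 1, 2, 2, 2, 2, 2, 0, 0, 0, 0, 0, 0], [0, 0, 1, 1, 1, 2, 2, 2, 3], 1, false),
    ([0, 0, 0, 0, 0, 1, 1, 1, 1, 1, 2, 2, 2, 2, 2, 0, 2, 0, 0, 0, 0, 1, 1, 1, 1, 1, 2, 2, 2, 2, 2, 0, 0, 0, 0, 0, 0, 0], [0, 1, 1, 1, 2, 2, 2, 3], 1, false),
    ([0, 0, 0, 0, 0, 1, 1, 1, 1, 1, 2, 2, 2, 2, 2, 0, 2, 0, 0, 0, 0, 1, 1, 1, 1, 1, 2, 2, 2, 2, 2, 0, 0, 0, 0, 0, 0, 0, 0], [1, 1, 1, 2, 2, 2, 3], 1, false),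
    ([0, 0, 0, 0, 0, 1, 1, 1, 1, 1, 2, 2, 2, 2, 2, 0, 2, 0, 0, 0, 0, 1, 1, 1, 1, 1, 2, 2, 2, 2, 2, 0, 0], [1, 1, 1, 1, 2, 2, 2, 3], 0, false),
    ([0, 0, 0, 0, 0, 1, 1, 1, 1, 1, 2, 2, 2, 2, 2, 0, 2, 0, 0, 0, 0, 1, 1, 1, 1, 1, 2, 2, 2, 2], [0, 1, 1, 1, 1, 2, 2, 2, 3], 3, false),
    ([0, 0, 0, 0, 0, 1, 1, 1, 1, 1, 2, 2, 2, 2, 2, 0, 2, 0, 0, 0, 0, 1, 1, 1, 1, 1, 2, 2, 2, 2, 0], [1, 1, 1, 1, 2, 2, 2, 3], 3, false),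
    ([0, 0, 0, 0, 0, 1, 1, 1, 1, 1, 2, 2, 2, 2, 2, 0, 2, 0, 0, 0, 0, 1, 1, 1, 1, 1, 2, 2, 2, 2, 0, 0], [1, 1, 1, 2, 2, 2, 3], 4, false),
    ([0, 0, 0, 0, 0, 1, 1, 1, 1, 1, 2, 2, 2, 2, 2, 0, 2, 0, 0, 0, 0, 1, 1, 1, 1, 1, 2, 2, 2, 2, 0, 0, 0, 0, 0, 0, 1], [1, 1, 2, 2, 2, 3], 4, false),
    ([0, 0, 0, 0, 0, 1, 1, 1, 1, 1, 2, 2, 2, 2, 2, 0, 2, 0, 0, 0, 0, 1, 1, 1, 1, 1, 2, 2, 2, 2, 0, 0, 0, 0, 0, 0, 1, 0, 0, 0, 0, 1], [1, 2, 2, 2, 3], 4, false),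
    ([0, 0, 0, 0, 0, 1, 1, 1, 1, 1, 2, 2, 2, 2, 2, 0, 2, 0, 0, 0, 0, 1, 1, 1, 1, 1, 2, 2, 2, 2, 0, 0, 0, 0, 0, 0, 1, 0, 0, 0, 0, 1, 0, 0, 0, 0, 1], [2, 2, 2, 3], 4, false),
    ([0, 0, 0, 0, 0, 1, 1, 1, 1, 1, 2, 2, 2, 2, 2, 0, 2, 0, 0, 0, 0, 1, 1, 1, 1, 1, 2, 2, 2, 2, 0, 0, 0, 0, 0, 0, 1, 0, 0, 0, 0, 1, 0, 0, 0, 0], [0, 0, 0, 1, 2, 2, 2, 2, 3], 1, false),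
    ([0, 0, 0, 0, 0, 1, 1, 1, 1, 1, 2, 2, 2, 2, 2, 0, 2, 0, 0, 0, 0, 1, 1, 1, 1, 1, 2, 2, 2, 2, 0, 0, 0, 0, 0, 0, 1, 0, 0, 0, 0, 1, 0, 0, 0, 0, 0], [0, 0, 1, 2, 2, 2, 2, 3], 1, false),
    ([0, 0, 0, 0, 0, 1, 1, 1, 1, 1, 2, 2, 2, 2, 2, 0, 2, 0, 0, 0, 0, 1, 1, 1, 1, 1, 2, 2, 2, 2, 0, 0, 0, 0, 0, 0, 1, 0, 0, 0, 0, 1, 0, 0, 0, 0, 0, 0], [0, 1, 2, 2, 2, 2, 3], 1, false),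
    ([0, 0, 0, 0, 0, 1, 1, 1, 1, 1, 2, 2, 2, 2, 2, 0, 2, 0, 0, 0, 0, 1, 1, 1, 1, 1, 2, 2, 2, 2, 0, 0, 0, 0, 0, 0, 1, 0, 0, 0, 0, 1, 0, 0, 0, 0, 0, 0, 0], [1, 2, 2, 2, 2, 3], 1, false),
    ([0, 0, 0, 0, 0, 1, 1, 1, 1, 1, 2, 2, 2, 2, 2, 0, 2, 0, 0, 0, 0, 1, 1, 1, 1, 1, 2, 2, 2, 2, 0, 0, 0, 0, 0, 0, 1, 0, 0, 0, 0, 1, 0], [1, 1, 2, 2, 2, 2, 3], 0, false),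
    ([0, 0, 0, 0, 0, 1, 1, 1, 1, 1, 2, 2, 2, 2, 2, 0, 2, 0, 0, 0, 0, 1, 1, 1, 1, 1, 2, 2, 2, 2, 0, 0, 0, 0, 0, 0, 1, 0, 0, 0, 0], [1, 1, 2, 2, 2, 2, 3], 1, false),
    ([0, 0, 0, 0, 0, 1, 1, 1, 1, 1, 2, 2, 2, 2, 2, 0, 2, 0, 0, 0, 0, 1, 1, 1, 1, 1, 2, 2, 2, 2, 0, 0, 0, 0, 0, 0], [0, 0, 0, 0, 1, 1, 1, 2, 2, 2, 2, 3], 1, false),
    ([0, 0, 0, 0, 0, 1, 1, 1, 1, 1, 2, 2, 2, 2, 2, 0, 2, 0, 0, 0, 0, 1, 1, 1, 1, 1, 2, 2, 2, 2, 0, 0, 0, 0, 0, 0, 0], [0, 0, 0, 1, 1, 1, 2, 2, 2, 2, 3], 1, false)]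

/-- Part of a closed path for the prime 7. -/
def path7_4_9 : List SchurPath.Step :=
  [([0, 0, 0, 0, 0, 1, 1, 1, 1, 1, 2, 2, 2, 2, 2, 0, 2, 0, 0, 0, 0, 1, 1, 1, 1, 1, 2, 2, 2, 2, 0, 0, 0, 0, 0, 0, 0, 0], [0, 0, 1, 1, 1, 2, 2, 2, 2, 3], 1, false),
    ([0, 0, 0, 0, 0, 1, 1, 1, 1, 1, 2, 2, 2, 2, 2, 0, 2, 0, 0, 0, 0, 1, 1, 1, 1, 1, 2, 2, 2, 2, 0, 0, 0, 0, 0, 0, 0, 0, 0], [0, 1, 1, 1, 2, 2, 2, 2, 3], 1, false),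
    ([0, 0, 0, 0, 0, 1, 1, 1, 1, 1, 2, 2, 2, 2, 2, 0, 2, 0, 0, 0, 0, 1, 1, 1, 1, 1, 2, 2, 2, 2, 0, 0, 0, 0, 0, 0, 0, 0, 0, 0], [1, 1, 1, 2, 2, 2, 2, 3], 1, false),
    ([0, 0, 0, 0, 0, 1, 1, 1, 1, 1, 2, 2, 2, 2, 2, 0, 2, 0, 0, 0, 0, 1, 1, 1, 1, 1, 2, 2, 2, 2, 0, 0, 0, 0], [1, 1, 1, 1, 2, 2, 2, 2, 3], 0, false),
    ([0, 0, 0, 0, 0, 1, 1, 1, 1, 1, 2, 2, 2, 2, 2, 0, 2, 0, 0, 0, 0, 1, 1, 1, 1, 1, 2, 2, 2], [0, 0, 0, 1, 1, 1, 1, 2, 2, 2, 2, 3], 3, false),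
    ([0, 0, 0, 0, 0, 1, 1, 1, 1, 1, 2, 2, 2, 2, 2, 0, 2, 0, 0, 0, 0, 1, 1, 1, 1, 1, 2, 2, 2, 0], [0, 0, 1, 1, 1, 1, 2, 2, 2, 2, 3], 3, false),
    ([0, 0, 0, 0, 0, 1, 1, 1, 1, 1, 2, 2, 2, 2, 2, 0, 2, 0, 0, 0, 0, 1, 1, 1, 1, 1, 2, 2, 2, 0, 0], [0, 1, 1, 1, 1, 2, 2, 2, 2, 3], 3, false),
    ([0, 0, 0, 0, 0, 1, 1, 1, 1, 1, 2, 2, 2, 2, 2, 0, 2, 0, 0, 0, 0, 1, 1, 1, 1, 1, 2, 2, 2, 0, 0, 0], [1, 1, 1, 1, 2, 2, 2, 2, 3], 3, false),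
    ([0, 0, 0, 0, 0, 1, 1, 1, 1, 1, 2, 2, 2, 2, 2, 0, 2, 0, 0, 0, 0, 1, 1, 1, 1, 1, 2, 2, 2, 0, 0, 0, 0], [1, 1, 1, 2, 2, 2, 2, 3], 4, false),
    ([0, 0, 0, 0, 0, 1, 1, 1, 1, 1, 2, 2, 2, 2, 2, 0, 2, 0, 0, 0, 0, 1, 1, 1, 1, 1, 2, 2, 2, 0, 0, 0, 0, 0, 0, 0, 0, 1], [1, 1, 2, 2, 2, 2, 3], 4, false),
    ([0, 0, 0, 0, 0, 1, 1, 1, 1, 1, 2, 2, 2, 2, 2, 0, 2, 0, 0, 0, 0, 1, 1, 1, 1, 1, 2, 2, 2, 0, 0, 0, 0, 0, 0, 0, 0, 1, 0, 0, 0, 0, 1], [1, 2, 2, 2, 2, 3], 4, false),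
    ([0, 0, 0, 0, 0, 1, 1, 1, 1, 1, 2, 2, 2, 2, 2, 0, 2, 0, 0, 0, 0, 1, 1, 1, 1, 1, 2, 2, 2, 0, 0, 0, 0, 0, 0, 0, 0, 1, 0, 0, 0, 0, 1, 0, 0, 0, 0, 1], [2, 2, 2, 2, 3], 4, false),
    ([0, 0, 0, 0, 0, 1, 1, 1, 1, 1, 2, 2, 2, 2, 2, 0, 2, 0, 0, 0, 0, 1, 1, 1, 1, 1, 2, 2, 2, 0, 0, 0, 0, 0, 0, 0, 0, 1, 0, 0, 0, 0, 1, 0, 0, 0, 0], [0, 0, 0, 1, 2, 2, 2, 2, 2, 3], 1, false),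
    ([0, 0, 0, 0, 0, 1, 1, 1, 1, 1, 2, 2, 2, 2, 2, 0, 2, 0, 0, 0, 0, 1, 1, 1, 1, 1, 2, 2, 2, 0, 0, 0, 0, 0, 0, 0, 0, 1, 0, 0, 0, 0, 1, 0, 0, 0, 0, 0], [0, 0, 1, 2, 2, 2, 2, 2, 3], 1, false),
    ([0, 0, 0, 0, 0, 1, 1, 1, 1, 1, 2, 2, 2, 2, 2, 0, 2, 0, 0, 0, 0, 1, 1, 1, 1, 1, 2, 2, 2, 0, 0, 0, 0, 0, 0, 0, 0, 1, 0, 0, 0, 0, 1, 0, 0, 0, 0, 0, 0], [0, 1, 2, 2, 2, 2, 2, 3], 1, false),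
    ([0, 0, 0, 0, 0, 1, 1, 1, 1, 1, 2, 2, 2, 2, 2, 0, 2, 0, 0, 0, 0, 1, 1, 1, 1, 1, 2, 2, 2, 0, 0, 0, 0, 0, 0, 0, 0, 1, 0, 0, 0, 0, 1, 0, 0, 0, 0, 0, 0, 0], [1, 2, 2, 2, 2, 2, 3], 1, false),
    ([0, 0, 0, 0, 0, 1, 1, 1, 1, 1, 2, 2, 2, 2, 2, 0, 2, 0, 0, 0, 0, 1, 1, 1, 1, 1, 2, 2, 2, 0, 0, 0, 0, 0, 0, 0, 0, 1, 0, 0, 0, 0, 1, 0], [1, 1, 2, 2, 2, 2, 2, 3], 0, false),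
    ([0, 0, 0, 0, 0, 1, 1, 1, 1, 1, 2, 2, 2, 2, 2, 0, 2, 0, 0, 0, 0, 1, 1, 1, 1, 1, 2, 2, 2, 0, 0, 0, 0, 0, 0, 0, 0, 1, 0, 0, 0, 0], [1, 1, 2, 2, 2, 2, 2, 3], 1, false),
    ([0, 0, 0, 0, 0, 1, 1, 1, 1, 1, 2, 2, 2, 2, 2, 0, 2, 0, 0, 0, 0, 1, 1, 1, 1, 1, 2, 2, 2, 0, 0, 0, 0, 0, 0, 0, 0], [0, 0, 0, 0, 1, 1, 1, 2, 2, 2, 2, 2, 3], 1, false),
    ([0, 0, 0, 0, 0, 1, 1, 1, 1, 1, 2, 2, 2, 2, 2, 0, 2, 0, 0, 0, 0, 1, 1, 1, 1, 1, 2, 2, 2, 0, 0, 0, 0, 0, 0, 0, 0, 0], [0, 0, 0, 1, 1, 1, 2, 2, 2, 2, 2, 3], 1, false),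
    ([0, 0, 0, 0, 0, 1, 1, 1, 1, 1, 2, 2, 2, 2, 2, 0, 2, 0, 0, 0, 0, 1, 1, 1, 1, 1, 2, 2, 2, 0, 0, 0, 0, 0, 0, 0, 0, 0, 0], [0, 0, 1, 1, 1, 2, 2, 2, 2, 2, 3], 1, false),
    ([0, 0, 0, 0, 0, 1, 1, 1, 1, 1, 2, 2, 2, 2, 2, 0, 2, 0, 0, 0, 0, 1, 1, 1, 1, 1, 2, 2, 2, 0, 0, 0, 0, 0, 0, 0, 0, 0, 0, 0], [0, 1, 1, 1, 2, 2, 2, 2, 2, 3], 1, false),
    ([0, 0, 0, 0, 0, 1, 1, 1, 1, 1, 2, 2, 2, 2, 2, 0, 2, 0, 0, 0, 0, 1, 1, 1, 1, 1, 2, 2, 2, 0, 0, 0, 0, 0, 0, 0, 0, 0, 0, 0, 0], [1, 1, 1, 2, 2, 2, 2, 2, 3], 1, false),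
    ([0, 0, 0, 0, 0, 1, 1, 1, 1, 1, 2, 2, 2, 2, 2, 0, 2, 0, 0, 0, 0, 1, 1, 1, 1, 1, 2, 2, 2, 0, 0, 0, 0, 0, 0], [1, 1, 1, 1, 2, 2, 2, 2, 2, 3], 0, false),
    ([0, 0, 0, 0, 0, 1, 1, 1, 1, 1, 2, 2, 2, 2, 2, 0, 2, 0, 0, 0, 0, 1, 1, 1, 1, 1, 2, 2], [0, 0, 0, 0, 0, 1, 1, 1, 1, 2, 2, 2, 2, 2, 3], 3, false),
    ([0, 0, 0, 0, 0, 1, 1, 1, 1, 1, 2, 2, 2, 2, 2, 0, 2, 0, 0, 0, 0, 1, 1, 1, 1, 1, 2, 2, 0], [0, 0, 0, 0, 1, 1, 1, 1, 2, 2, 2, 2, 2, 3], 3, false),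
    ([0, 0, 0, 0, 0, 1, 1, 1, 1, 1, 2, 2, 2, 2, 2, 0, 2, 0, 0, 0, 0, 1, 1, 1, 1, 1, 2, 2, 0, 0], [0, 0, 0, 1, 1, 1, 1, 2, 2, 2, 2, 2, 3], 3, false),
    ([0, 0, 0, 0, 0, 1, 1, 1, 1, 1, 2, 2, 2, 2, 2, 0, 2, 0, 0, 0, 0, 1, 1, 1, 1, 1, 2, 2, 0, 0, 0], [0, 0, 1, 1, 1, 1, 2, 2, 2, 2, 2, 3], 3, false),
    ([0, 0, 0, 0, 0, 1, 1, 1, 1, 1, 2, 2, 2, 2, 2, 0, 2, 0, 0, 0, 0, 1, 1, 1, 1, 1, 2, 2, 0, 0, 0, 0], [0, 1, 1, 1, 1, 2, 2, 2, 2, 2, 3], 3, false),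
    ([0, 0, 0, 0, 0, 1, 1, 1, 1, 1, 2, 2, 2, 2, 2, 0, 2, 0, 0, 0, 0, 1, 1, 1, 1, 1, 2, 2, 0, 0, 0, 0, 0], [1, 1, 1, 1, 2, 2, 2, 2, 2, 3], 3, false),
    ([0, 0, 0, 0, 0, 1, 1, 1, 1, 1, 2, 2, 2, 2, 2, 0, 2, 0, 0, 0, 0, 1, 1, 1, 1, 1, 2, 2, 0, 0, 0, 0, 0, 0], [1, 1, 1, 2, 2, 2, 2, 2, 3], 4, false),
    ([0, 0, 0, 0, 0, 1, 1, 1, 1, 1, 2, 2, 2, 2, 2, 0, 2, 0, 0, 0, 0, 1, 1, 1, 1, 1, 2, 2, 0, 0, 0, 0, 0, 0, 0, 0, 0, 0, 1], [1, 1, 2, 2, 2, 2, 2, 3], 4, false),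
    ([0, 0, 0, 0, 0, 1, 1, 1, 1, 1, 2, 2, 2, 2, 2, 0, 2, 0, 0, 0, 0, 1, 1, 1, 1, 1, 2, 2, 0, 0, 0, 0, 0, 0, 0, 0, 0, 0, 1, 0, 0, 0, 0, 1], [1, 2, 2, 2, 2, 2, 3], 4, false),
    ([0, 0, 0, 0, 0, 1, 1, 1, 1, 1, 2, 2, 2, 2, 2, 0, 2, 0, 0, 0, 0, 1, 1, 1, 1, 1, 2, 2, 0, 0, 0, 0, 0, 0, 0, 0, 0, 0, 1, 0, 0, 0, 0, 1, 0, 0, 0, 0, 1], [2, 2, 2, 2, 2, 3], 4, false),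
    ([0, 0, 0, 0, 0, 1, 1, 1, 1, 1, 2, 2, 2, 2, 2, 0, 2, 0, 0, 0, 0, 1, 1, 1, 1, 1, 2, 2, 0, 0, 0, 0, 0, 0, 0, 0, 0, 0, 1, 0, 0, 0, 0, 1, 0, 0, 0, 0], [0, 0, 0, 1, 2, 2, 2, 2, 2, 2, 3], 1, false),
    ([0, 0, 0, 0, 0, 1, 1, 1, 1, 1, 2, 2, 2, 2, 2, 0, 2, 0, 0, 0, 0, 1, 1, 1, 1, 1, 2, 2, 0, 0, 0, 0, 0, 0, 0, 0, 0, 0, 1, 0, 0, 0, 0, 1, 0, 0, 0, 0, 0], [0, 0, 1, 2, 2, 2, 2, 2, 2, 3], 1, false),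
    ([0, 0, 0, 0, 0, 1, 1, 1, 1, 1, 2, 2, 2, 2, 2, 0, 2, 0, 0, 0, 0, 1, 1, 1, 1, 1, 2, 2, 0, 0, 0, 0, 0, 0, 0, 0, 0, 0, 1, 0, 0, 0, 0, 1, 0, 0, 0, 0, 0, 0], [0, 1, 2, 2, 2, 2, 2, 2, 3], 1, false),
    ([0, 0, 0, 0, 0, 1, 1, 1, 1, 1, 2, 2, 2, 2, 2, 0, 2, 0, 0, 0, 0, 1, 1, 1, 1, 1, 2, 2, 0, 0, 0, 0, 0, 0, 0, 0, 0, 0, 1, 0, 0, 0, 0, 1, 0, 0, 0, 0, 0, 0, 0], [1, 2, 2, 2, 2, 2, 2, 3], 1, false),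
    ([0, 0, 0, 0, 0, 1, 1, 1, 1, 1, 2, 2, 2, 2, 2, 0, 2, 0, 0, 0, 0, 1, 1, 1, 1, 1, 2, 2, 0, 0, 0, 0, 0, 0, 0, 0, 0, 0, 1, 0, 0, 0, 0, 1, 0], [1, 1, 2, 2, 2, 2, 2, 2, 3], 0, false),
    ([0, 0, 0, 0, 0, 1, 1, 1, 1, 1, 2, 2, 2, 2, 2, 0, 2, 0, 0, 0, 0, 1, 1, 1, 1, 1, 2, 2, 0, 0, 0, 0, 0, 0, 0, 0, 0, 0, 1, 0, 0, 0, 0], [1, 1, 2, 2, 2, 2, 2, 2, 3], 1, false),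
    ([0, 0, 0, 0, 0, 1, 1, 1, 1, 1, 2, 2, 2, 2, 2, 0, 2, 0, 0, 0, 0, 1, 1, 1, 1, 1, 2, 2, 0, 0, 0, 0, 0, 0, 0, 0, 0, 0], [0, 0, 0, 0, 1, 1, 1, 2, 2, 2, 2, 2, 2, 3], 1, false),
    ([0, 0, 0, 0, 0, 1, 1, 1, 1, 1, 2, 2, 2, 2, 2, 0, 2, 0, 0, 0, 0, 1, 1, 1, 1, 1, 2, 2, 0, 0, 0, 0, 0, 0, 0, 0, 0, 0, 0], [0, 0, 0, 1, 1, 1, 2, 2, 2, 2, 2, 2, 3], 1, false),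
    ([0, 0, 0, 0, 0, 1, 1, 1, 1, 1, 2, 2, 2, 2, 2, 0, 2, 0, 0, 0, 0, 1, 1, 1, 1, 1, 2, 2, 0, 0, 0, 0, 0, 0, 0, 0, 0, 0, 0, 0], [0, 0, 1, 1, 1, 2, 2, 2, 2, 2, 2, 3], 1, false),
    ([0, 0, 0, 0, 0, 1, 1, 1, 1, 1, 2, 2, 2, 2, 2, 0, 2, 0, 0, 0, 0, 1, 1, 1, 1, 1, 2, 2, 0, 0, 0, 0, 0, 0, 0, 0, 0, 0, 0, 0, 0], [0, 1, 1, 1, 2, 2, 2, 2, 2, 2, 3], 1, false),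
    ([0, 0, 0, 0, 0, 1, 1, 1, 1, 1, 2, 2, 2, 2, 2, 0, 2, 0, 0, 0, 0, 1, 1, 1, 1, 1, 2, 2, 0, 0, 0, 0, 0, 0, 0, 0, 0, 0, 0, 0, 0, 0], [1, 1, 1, 2, 2, 2, 2, 2, 2, 3], 1, false),
    ([0, 0, 0, 0, 0, 1, 1, 1, 1, 1, 2, 2, 2, 2, 2, 0, 2, 0, 0, 0, 0, 1, 1, 1, 1, 1, 2, 2, 0, 0, 0, 0, 0, 0, 0, 0], [1, 1, 1, 1, 2, 2, 2, 2, 2, 2, 3], 0, false),
    ([0, 0, 0, 0, 0, 1, 1, 1, 1, 1, 2, 2, 2, 2, 2, 0, 2, 0, 0, 0, 0, 1, 1, 1, 1, 1, 2, 2, 0], [1, 1, 1, 1, 2, 2, 2, 2, 2, 2, 3], 0, false),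
    ([0, 0, 0, 0, 0, 1, 1, 1, 1, 1, 2, 2, 2, 2, 2, 0, 2, 0, 0, 0, 0, 1, 1, 1, 1, 1, 2], [1, 1, 1, 1, 2, 2, 2, 2, 2, 2, 3], 3, false),
    ([0, 0, 0, 0, 0, 1, 1, 1, 1, 1, 2, 2, 2, 2, 2, 0, 2, 0, 0, 0, 0, 1, 1, 1, 1, 1, 2, 0], [1, 1, 1, 2, 2, 2, 2, 2, 2, 3], 4, false),
    ([0, 0, 0, 0, 0, 1, 1, 1, 1, 1, 2, 2, 2, 2, 2, 0, 2, 0, 0, 0, 0, 1, 1, 1, 1, 1, 2, 0, 0, 0, 0, 0, 1], [1, 1, 2, 2, 2, 2, 2, 2, 3], 4, false),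
    ([0, 0, 0, 0, 0, 1, 1, 1, 1, 1, 2, 2, 2, 2, 2, 0, 2, 0, 0, 0, 0, 1, 1, 1, 1, 1, 2, 0, 0, 0, 0, 0, 1, 0, 0, 0, 0, 1], [1, 2, 2, 2, 2, 2, 2, 3], 4, false),
    ([0, 0, 0, 0, 0, 1, 1, 1, 1, 1, 2, 2, 2, 2, 2, 0, 2, 0, 0, 0, 0, 1, 1, 1, 1, 1, 2, 0, 0, 0, 0, 0, 1, 0, 0, 0, 0, 1, 0, 0, 0, 0, 1], [2, 2, 2, 2, 2, 2, 3], 4, false),
    ([0, 0, 0, 0, 0, 1, 1, 1, 1, 1, 2, 2, 2, 2, 2, 0, 2, 0, 0, 0, 0, 1, 1, 1, 1, 1, 2, 0, 0, 0, 0, 0, 1, 0, 0, 0, 0, 1, 0, 0, 0, 0, 1, 0, 0, 0, 0, 1], [3], 5, false),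
    ([0, 0, 0, 0, 0, 1, 1, 1, 1, 1, 2, 2, 2, 2, 2, 0, 2, 0, 0, 0, 0, 1, 1, 1, 1, 1, 2, 0, 0, 0, 0, 0, 1, 0, 0, 0, 0, 1, 0, 0, 0, 0], [0, 0, 0, 1, 3], 1, false),
    ([0, 0, 0, 0, 0, 1, 1, 1, 1, 1, 2, 2, 2, 2, 2, 0, 2, 0, 0, 0, 0, 1, 1, 1, 1, 1, 2, 0, 0, 0, 0, 0, 1, 0, 0, 0, 0, 1, 0, 0, 0, 0, 0], [0, 0, 1, 3], 1, false),
    ([0, 0, 0, 0, 0, 1, 1, 1, 1, 1, 2, 2, 2, 2, 2, 0, 2, 0, 0, 0, 0, 1, 1, 1, 1, 1, 2, 0, 0, 0, 0, 0, 1, 0, 0, 0, 0, 1, 0, 0, 0, 0, 0, 0], [0, 1, 3], 1, false),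
    ([0, 0, 0, 0, 0, 1, 1, 1, 1, 1, 2, 2, 2, 2, 2, 0, 2, 0, 0, 0, 0, 1, 1, 1, 1, 1, 2, 0, 0, 0, 0, 0, 1, 0, 0, 0, 0, 1, 0, 0, 0, 0, 0, 0, 0], [1, 3], 1, false),
    ([0, 0, 0, 0, 0, 1, 1, 1, 1, 1, 2, 2, 2, 2, 2, 0, 2, 0, 0, 0, 0, 1, 1, 1, 1, 1, 2, 0, 0, 0, 0, 0, 1, 0, 0, 0, 0, 1, 0], [1, 1, 3], 0, false),
    ([0, 0, 0, 0, 0, 1, 1, 1, 1, 1, 2, 2, 2, 2, 2, 0, 2, 0, 0, 0, 0, 1, 1, 1, 1, 1, 2, 0, 0, 0, 0, 0, 1, 0, 0, 0, 0], [1, 1, 3], 1, false),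
    ([0, 0, 0, 0, 0, 1, 1, 1, 1, 1, 2, 2, 2, 2, 2, 0, 2, 0, 0, 0, 0, 1, 1, 1, 1, 1, 2, 0, 0, 0, 0, 0], [0, 0, 0, 0, 1, 1, 1, 3], 1, false)]

/-- Part of a closed path for the prime 7. -/
def path7_4_10 : List SchurPath.Step :=
  [([0, 0, 0, 0, 0, 1, 1, 1, 1, 1, 2, 2, 2, 2, 2, 0, 2, 0, 0, 0, 0, 1, 1, 1, 1, 1, 2, 0, 0, 0, 0, 0, 0], [0, 0, 0, 1, 1, 1, 3], 1, false),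
    ([0, 0, 0, 0, 0, 1, 1, 1, 1, 1, 2, 2, 2, 2, 2, 0, 2, 0, 0, 0, 0, 1, 1, 1, 1, 1, 2, 0, 0, 0, 0, 0, 0, 0], [0, 0, 1, 1, 1, 3], 1, false),
    ([0, 0, 0, 0, 0, 1, 1, 1, 1, 1, 2, 2, 2, 2, 2, 0, 2, 0, 0, 0, 0, 1, 1, 1, 1, 1, 2, 0, 0, 0, 0, 0, 0, 0, 0], [0, 1, 1, 1, 3], 1, false),
    ([0, 0, 0, 0, 0, 1, 1, 1, 1, 1, 2, 2, 2, 2, 2, 0, 2, 0, 0, 0, 0, 1, 1, 1, 1, 1, 2, 0, 0, 0, 0, 0, 0, 0, 0, 0], [1, 1, 1, 3], 1, false),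
    ([0, 0, 0, 0, 0, 1, 1, 1, 1, 1, 2, 2, 2, 2, 2, 0, 2, 0, 0, 0, 0, 1, 1, 1, 1, 1, 2, 0, 0, 0], [1, 1, 1, 1, 3], 0, false),
    ([0, 0, 0, 0, 0, 1, 1, 1, 1, 1, 2, 2, 2, 2, 2, 0, 2, 0, 0, 0, 0, 1, 1, 1, 1, 1], [0, 0, 1, 1, 1, 1, 3], 3, false),
    ([0, 0, 0, 0, 0, 1, 1, 1, 1, 1, 2, 2, 2, 2, 2, 0, 2, 0, 0, 0, 0, 1, 1, 1, 1, 1, 0], [0, 1, 1, 1, 1, 3], 3, false),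
    ([0, 0, 0, 0, 0, 1, 1, 1, 1, 1, 2, 2, 2, 2, 2, 0, 2, 0, 0, 0, 0, 1, 1, 1, 1, 1, 0, 0], [1, 1, 1, 1, 3], 3, false),
    ([0, 0, 0, 0, 0, 1, 1, 1, 1, 1, 2, 2, 2, 2, 2, 0, 2, 0, 0, 0, 0, 1, 1, 1, 1, 1, 0, 0, 0], [1, 1, 1, 3], 4, false),
    ([0, 0, 0, 0, 0, 1, 1, 1, 1, 1, 2, 2, 2, 2, 2, 0, 2, 0, 0, 0, 0, 1, 1, 1, 1, 1, 0, 0, 0, 0, 0, 0, 0, 1], [1, 1, 3], 4, false),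
    ([0, 0, 0, 0, 0, 1, 1, 1, 1, 1, 2, 2, 2, 2, 2, 0, 2, 0, 0, 0, 0, 1, 1, 1, 1, 1, 0, 0, 0, 0, 0, 0, 0, 1, 0, 0, 0, 0, 1], [1, 3], 4, false),
    ([0, 0, 0, 0, 0, 1, 1, 1, 1, 1, 2, 2, 2, 2, 2, 0, 2, 0, 0, 0, 0, 1, 1, 1, 1, 1, 0, 0, 0, 0, 0, 0, 0, 1, 0, 0, 0, 0, 1, 0, 0, 0, 0, 1], [3], 4, false),
    ([0, 0, 0, 0, 0, 1, 1, 1, 1, 1, 2, 2, 2, 2, 2, 0, 2, 0, 0, 0, 0, 1, 1, 1, 1, 1, 0, 0, 0, 0, 0, 0, 0, 1, 0, 0, 0, 0, 1, 0, 0, 0, 0], [0, 0, 0, 1, 2, 3], 1, false),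
    ([0, 0, 0, 0, 0, 1, 1, 1, 1, 1, 2, 2, 2, 2, 2, 0, 2, 0, 0, 0, 0, 1, 1, 1, 1, 1, 0, 0, 0, 0, 0, 0, 0, 1, 0, 0, 0, 0, 1, 0, 0, 0, 0, 0], [0, 0, 1, 2, 3], 1, false),
    ([0, 0, 0, 0, 0, 1, 1, 1, 1, 1, 2, 2, 2, 2, 2, 0, 2, 0, 0, 0, 0, 1, 1, 1, 1, 1, 0, 0, 0, 0, 0, 0, 0, 1, 0, 0, 0, 0, 1, 0, 0, 0, 0, 0, 0], [0, 1, 2, 3], 1, false),
    ([0, 0, 0, 0, 0, 1, 1, 1, 1, 1, 2, 2, 2, 2, 2, 0, 2, 0, 0, 0, 0, 1, 1, 1, 1, 1, 0, 0, 0, 0, 0, 0, 0, 1, 0, 0, 0, 0, 1, 0, 0, 0, 0, 0, 0, 0], [1, 2, 3], 1, false),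
    ([0, 0, 0, 0, 0, 1, 1, 1, 1, 1, 2, 2, 2, 2, 2, 0, 2, 0, 0, 0, 0, 1, 1, 1, 1, 1, 0, 0, 0, 0, 0, 0, 0, 1, 0, 0, 0, 0, 1, 0], [1, 1, 2, 3], 0, false),
    ([0, 0, 0, 0, 0, 1, 1, 1, 1, 1, 2, 2, 2, 2, 2, 0, 2, 0, 0, 0, 0, 1, 1, 1, 1, 1, 0, 0, 0, 0, 0, 0, 0, 1, 0, 0, 0, 0], [1, 1, 2, 3], 1, false),
    ([0, 0, 0, 0, 0, 1, 1, 1, 1, 1, 2, 2, 2, 2, 2, 0, 2, 0, 0, 0, 0, 1, 1, 1, 1, 1, 0, 0, 0, 0, 0, 0, 0], [0, 0, 0, 0, 1, 1, 1, 2, 3], 1, false),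
    ([0, 0, 0, 0, 0, 1, 1, 1, 1, 1, 2, 2, 2, 2, 2, 0, 2, 0, 0, 0, 0, 1, 1, 1, 1, 1, 0, 0, 0, 0, 0, 0, 0, 0], [0, 0, 0, 1, 1, 1, 2, 3], 1, false),
    ([0, 0, 0, 0, 0, 1, 1, 1, 1, 1, 2, 2, 2, 2, 2, 0, 2, 0, 0, 0, 0, 1, 1, 1, 1, 1, 0, 0, 0, 0, 0, 0, 0, 0, 0], [0, 0, 1, 1, 1, 2, 3], 1, false),
    ([0, 0, 0, 0, 0, 1, 1, 1, 1, 1, 2, 2, 2, 2, 2, 0, 2, 0, 0, 0, 0, 1, 1, 1, 1, 1, 0, 0, 0, 0, 0, 0, 0, 0, 0, 0], [0, 1, 1, 1, 2, 3], 1, false),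
    ([0, 0, 0, 0, 0, 1, 1, 1, 1, 1, 2, 2, 2, 2, 2, 0, 2, 0, 0, 0, 0, 1, 1, 1, 1, 1, 0, 0, 0, 0, 0, 0, 0, 0, 0, 0, 0], [1, 1, 1, 2, 3], 1, false),
    ([0, 0, 0, 0, 0, 1, 1, 1, 1, 1, 2, 2, 2, 2, 2, 0, 2, 0, 0, 0, 0, 1, 1, 1, 1, 1, 0, 0, 0, 0, 0], [1, 1, 1, 1, 2, 3], 0, false),
    ([0, 0, 0, 0, 0, 1, 1, 1, 1, 1, 2, 2, 2, 2, 2, 0, 2, 0, 0, 0, 0, 1, 1, 1, 1], [0, 0, 0, 0, 1, 1, 1, 1, 2, 3], 1, false),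
    ([0, 0, 0, 0, 0, 1, 1, 1, 1, 1, 2, 2, 2, 2, 2, 0, 2, 0, 0, 0, 0, 1, 1, 1, 1, 0], [0, 0, 0, 1, 1, 1, 1, 2, 3], 1, false),
    ([0, 0, 0, 0, 0, 1, 1, 1, 1, 1, 2, 2, 2, 2, 2, 0, 2, 0, 0, 0, 0, 1, 1, 1, 1, 0, 0], [0, 0, 1, 1, 1, 1, 2, 3], 1, false),
    ([0, 0, 0, 0, 0, 1, 1, 1, 1, 1, 2, 2, 2, 2, 2, 0, 2, 0, 0, 0, 0, 1, 1, 1, 1, 0, 0, 0], [0, 1, 1, 1, 1, 2, 3], 1, false),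
    ([0, 0, 0, 0, 0, 1, 1, 1, 1, 1, 2, 2, 2, 2, 2, 0, 2, 0, 0, 0, 0, 1, 1, 1, 1, 0, 0, 0, 0], [1, 1, 1, 1, 2, 3], 1, false),
    ([0, 0, 0, 0, 0, 1, 1, 1, 1, 1, 2, 2, 2, 2, 2, 0, 2, 0, 0, 0, 0, 1, 1, 1], [0, 0, 0, 0, 1, 1, 1, 1, 1, 2, 3], 1, false),
    ([0, 0, 0, 0, 0, 1, 1, 1, 1, 1, 2, 2, 2, 2, 2, 0, 2, 0, 0, 0, 0, 1, 1, 1, 0], [0, 0, 0, 1, 1, 1, 1, 1, 2, 3], 1, false),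
    ([0, 0, 0, 0, 0, 1, 1, 1, 1, 1, 2, 2, 2, 2, 2, 0, 2, 0, 0, 0, 0, 1, 1, 1, 0, 0], [0, 0, 1, 1, 1, 1, 1, 2, 3], 1, false),
    ([0, 0, 0, 0, 0, 1, 1, 1, 1, 1, 2, 2, 2, 2, 2, 0, 2, 0, 0, 0, 0, 1, 1, 1, 0, 0, 0], [0, 1, 1, 1, 1, 1, 2, 3], 1, false),
    ([0, 0, 0, 0, 0, 1, 1, 1, 1, 1, 2, 2, 2, 2, 2, 0, 2, 0, 0, 0, 0, 1, 1, 1, 0, 0, 0, 0], [1, 1, 1, 1, 1, 2, 3], 1, false),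
    ([0, 0, 0, 0, 0, 1, 1, 1, 1, 1, 2, 2, 2, 2, 2, 0, 2, 0, 0, 0, 0, 1, 1], [0, 0, 0, 0, 1, 1, 1, 1, 1, 1, 2, 3], 1, false),
    ([0, 0, 0, 0, 0, 1, 1, 1, 1, 1, 2, 2, 2, 2, 2, 0, 2, 0, 0, 0, 0, 1, 1, 0], [0, 0, 0, 1, 1, 1, 1, 1, 1, 2, 3], 1, false),
    ([0, 0, 0, 0, 0, 1, 1, 1, 1, 1, 2, 2, 2, 2, 2, 0, 2, 0, 0, 0, 0, 1, 1, 0, 0], [0, 0, 1, 1, 1, 1, 1, 1, 2, 3], 1, false),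
    ([0, 0, 0, 0, 0, 1, 1, 1, 1, 1, 2, 2, 2, 2, 2, 0, 2, 0, 0, 0, 0, 1, 1, 0, 0, 0], [0, 1, 1, 1, 1, 1, 1, 2, 3], 1, false),
    ([0, 0, 0, 0, 0, 1, 1, 1, 1, 1, 2, 2, 2, 2, 2, 0, 2, 0, 0, 0, 0, 1, 1, 0, 0, 0, 0], [1, 1, 1, 1, 1, 1, 2, 3], 1, false),
    ([0, 0, 0, 0, 0, 1, 1, 1, 1, 1, 2, 2, 2, 2, 2, 0, 2, 0, 0, 0, 0, 1, 1, 0, 0, 0, 0, 0], [2, 3], 2, false),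
    ([0, 0, 0, 0, 0, 1, 1, 1, 1, 1, 2, 2, 2, 2, 2, 0, 2, 0, 0, 0, 0, 1], [0, 0, 0, 0, 2, 3], 1, false),
    ([0, 0, 0, 0, 0, 1, 1, 1, 1, 1, 2, 2, 2, 2, 2, 0, 2, 0, 0, 0, 0, 1, 0], [0, 0, 0, 2, 3], 1, false),
    ([0, 0, 0, 0, 0, 1, 1, 1, 1, 1, 2, 2, 2, 2, 2, 0, 2, 0, 0, 0, 0, 1, 0, 0], [0, 0, 2, 3], 1, false),
    ([0, 0, 0, 0, 0, 1, 1, 1, 1, 1, 2, 2, 2, 2, 2, 0, 2, 0, 0, 0, 0, 1, 0, 0, 0], [0, 2, 3], 1, false),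
    ([0, 0, 0, 0, 0, 1, 1, 1, 1, 1, 2, 2, 2, 2, 2, 0, 2, 0, 0, 0, 0, 1, 0, 0, 0, 0], [2, 3], 1, false),
    ([0, 0, 0, 0, 0, 1, 1, 1, 1, 1, 2, 2, 2, 2, 2, 0, 2, 0, 0, 0, 0], [0, 0, 0, 0, 1, 2, 3], 1, false),
    ([0, 0, 0, 0, 0, 1, 1, 1, 1, 1, 2, 2, 2, 2, 2, 0, 2, 0, 0, 0, 0, 0], [0, 0, 0, 1, 2, 3], 1, false),
    ([0, 0, 0, 0, 0, 1, 1, 1, 1, 1, 2, 2, 2, 2, 2, 0, 2, 0, 0, 0, 0, 0, 0], [0, 0, 1, 2, 3], 1, false),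
    ([0, 0, 0, 0, 0, 1, 1, 1, 1, 1, 2, 2, 2, 2, 2, 0, 2, 0, 0, 0, 0, 0, 0, 0], [0, 1, 2, 3], 1, false),
    ([0, 0, 0, 0, 0, 1, 1, 1, 1, 1, 2, 2, 2, 2, 2, 0, 2, 0, 0, 0, 0, 0, 0, 0, 0], [1, 2, 3], 1, false),
    ([0, 0, 0, 0, 0, 1, 1, 1, 1, 1, 2, 2, 2, 2, 2, 0, 2, 0, 0], [1, 1, 2, 3], 0, false),
    ([0, 0, 0, 0, 0, 1, 1, 1, 1, 1, 2, 2, 2, 2, 2, 0], [0, 1, 1, 2, 3], 3, false),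
    ([0, 0, 0, 0, 0, 1, 1, 1, 1, 1, 2, 2, 2, 2, 2, 0, 0], [1, 1, 2, 3], 3, false),
    ([0, 0, 0, 0, 0, 1, 1, 1, 1, 1, 2, 2, 2, 2, 2, 0, 0, 0], [1, 2, 3], 4, false),
    ([0, 0, 0, 0, 0, 1, 1, 1, 1, 1, 2, 2, 2, 2, 2, 0, 0, 0, 0, 0, 0, 0, 1], [2, 3], 4, false),
    ([0, 0, 0, 0, 0, 1, 1, 1, 1, 1, 2, 2, 2, 2, 2, 0, 0, 0, 0, 0, 0, 0], [0, 0, 0, 1, 2, 2, 3], 1, false),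
    ([0, 0, 0, 0, 0, 1, 1, 1, 1, 1, 2, 2, 2, 2, 2, 0, 0, 0, 0, 0, 0, 0, 0], [0, 0, 1, 2, 2, 3], 1, false),
    ([0, 0, 0, 0, 0, 1, 1, 1, 1, 1, 2, 2, 2, 2, 2, 0, 0, 0, 0, 0, 0, 0, 0, 0], [0, 1, 2, 2, 3], 1, false),
    ([0, 0, 0, 0, 0, 1, 1, 1, 1, 1, 2, 2, 2, 2, 2, 0, 0, 0, 0, 0, 0, 0, 0, 0, 0], [1, 2, 2, 3], 1, false),
    ([0, 0, 0, 0, 0, 1, 1, 1, 1, 1, 2, 2, 2, 2, 2, 0, 0, 0, 0], [1, 1, 2, 2, 3], 0, false)]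

/-- Part of a closed path for the prime 7. -/
def path7_4_11 : List SchurPath.Step :=
  [([0, 0, 0, 0, 0, 1, 1, 1, 1, 1, 2, 2, 2, 2], [0, 0, 0, 1, 1, 2, 2, 3], 3, false),
    ([0, 0, 0, 0, 0, 1, 1, 1, 1, 1, 2, 2, 2, 2, 0], [0, 0, 1, 1, 2, 2, 3], 3, false),
    ([0, 0, 0, 0, 0, 1, 1, 1, 1, 1, 2, 2, 2, 2, 0, 0], [0, 1, 1, 2, 2, 3], 3, false),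
    ([0, 0, 0, 0, 0, 1, 1, 1, 1, 1, 2, 2, 2, 2, 0, 0, 0], [1, 1, 2, 2, 3], 3, false),
    ([0, 0, 0, 0, 0, 1, 1, 1, 1, 1, 2, 2, 2, 2, 0, 0, 0, 0], [1, 2, 2, 3], 4, false),
    ([0, 0, 0, 0, 0, 1, 1, 1, 1, 1, 2, 2, 2, 2, 0, 0, 0, 0, 0, 0, 0, 0, 1], [2, 2, 3], 4, false),
    ([0, 0, 0, 0, 0, 1, 1, 1, 1, 1, 2, 2, 2, 2, 0, 0, 0, 0, 0, 0, 0, 0], [0, 0, 0, 1, 2, 2, 2, 3], 1, false),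
    ([0, 0, 0, 0, 0, 1, 1, 1, 1, 1, 2, 2, 2, 2, 0, 0, 0, 0, 0, 0, 0, 0, 0], [0, 0, 1, 2, 2, 2, 3], 1, false),
    ([0, 0, 0, 0, 0, 1, 1, 1, 1, 1, 2, 2, 2, 2, 0, 0, 0, 0, 0, 0, 0, 0, 0, 0], [0, 1, 2, 2, 2, 3], 1, false),
    ([0, 0, 0, 0, 0, 1, 1, 1, 1, 1, 2, 2, 2, 2, 0, 0, 0, 0, 0, 0, 0, 0, 0, 0, 0], [1, 2, 2, 2, 3], 1, false),
    ([0, 0, 0, 0, 0, 1, 1, 1, 1, 1, 2, 2, 2, 2, 0, 0, 0, 0, 0], [1, 1, 2, 2, 2, 3], 0, false),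
    ([0, 0, 0, 0, 0, 1, 1, 1, 1, 1, 2, 2, 2], [0, 0, 0, 0, 1, 1, 2, 2, 2, 3], 3, false),
    ([0, 0, 0, 0, 0, 1, 1, 1, 1, 1, 2, 2, 2, 0], [0, 0, 0, 1, 1, 2, 2, 2, 3], 3, false),
    ([0, 0, 0, 0, 0, 1, 1, 1, 1, 1, 2, 2, 2, 0, 0], [0, 0, 1, 1, 2, 2, 2, 3], 3, false),
    ([0, 0, 0, 0, 0, 1, 1, 1, 1, 1, 2, 2, 2, 0, 0, 0], [0, 1, 1, 2, 2, 2, 3], 3, false),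
    ([0, 0, 0, 0, 0, 1, 1, 1, 1, 1, 2, 2, 2, 0, 0, 0, 0], [1, 1, 2, 2, 2, 3], 3, false),
    ([0, 0, 0, 0, 0, 1, 1, 1, 1, 1, 2, 2, 2, 0, 0, 0, 0, 0], [1, 2, 2, 2, 3], 4, false),
    ([0, 0, 0, 0, 0, 1, 1, 1, 1, 1, 2, 2, 2, 0, 0, 0, 0, 0, 0, 0, 0, 0, 1], [2, 2, 2, 3], 4, false),
    ([0, 0, 0, 0, 0, 1, 1, 1, 1, 1, 2, 2, 2, 0, 0, 0, 0, 0, 0, 0, 0, 0], [0, 0, 0, 1, 2, 2, 2, 2, 3], 1, false),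
    ([0, 0, 0, 0, 0, 1, 1, 1, 1, 1, 2, 2, 2, 0, 0, 0, 0, 0, 0, 0, 0, 0, 0], [0, 0, 1, 2, 2, 2, 2, 3], 1, false),
    ([0, 0, 0, 0, 0, 1, 1, 1, 1, 1, 2, 2, 2, 0, 0, 0, 0, 0, 0, 0, 0, 0, 0, 0], [0, 1, 2, 2, 2, 2, 3], 1, false),
    ([0, 0, 0, 0, 0, 1, 1, 1, 1, 1, 2, 2, 2, 0, 0, 0, 0, 0, 0, 0, 0, 0, 0, 0, 0], [1, 2, 2, 2, 2, 3], 1, false),
    ([0, 0, 0, 0, 0, 1, 1, 1, 1, 1, 2, 2, 2, 0, 0, 0, 0, 0, 0], [1, 1, 2, 2, 2, 2, 3], 0, false),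
    ([0, 0, 0, 0, 0, 1, 1, 1, 1, 1, 2, 2], [0, 0, 0, 0, 0, 1, 1, 2, 2, 2, 2, 3], 3, false),
    ([0, 0, 0, 0, 0, 1, 1, 1, 1, 1, 2, 2, 0], [0, 0, 0, 0, 1, 1, 2, 2, 2, 2, 3], 3, false),
    ([0, 0, 0, 0, 0, 1, 1, 1, 1, 1, 2, 2, 0, 0], [0, 0, 0, 1, 1, 2, 2, 2, 2, 3], 3, false),
    ([0, 0, 0, 0, 0, 1, 1, 1, 1, 1, 2, 2, 0, 0, 0], [0, 0, 1, 1, 2, 2, 2, 2, 3], 3, false),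
    ([0, 0, 0, 0, 0, 1, 1, 1, 1, 1, 2, 2, 0, 0, 0, 0], [0, 1, 1, 2, 2, 2, 2, 3], 3, false),
    ([0, 0, 0, 0, 0, 1, 1, 1, 1, 1, 2, 2, 0, 0, 0, 0, 0], [1, 1, 2, 2, 2, 2, 3], 3, false),
    ([0, 0, 0, 0, 0, 1, 1, 1, 1, 1, 2, 2, 0, 0, 0, 0, 0, 0], [1, 2, 2, 2, 2, 3], 4, false),
    ([0, 0, 0, 0, 0, 1, 1, 1, 1, 1, 2, 2, 0, 0, 0, 0, 0, 0, 0, 0, 0, 0, 1], [2, 2, 2, 2, 3], 4, false),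
    ([0, 0, 0, 0, 0, 1, 1, 1, 1, 1, 2, 2, 0, 0, 0, 0, 0, 0, 0, 0, 0, 0], [0, 0, 0, 1, 2, 2, 2, 2, 2, 3], 1, false),
    ([0, 0, 0, 0, 0, 1, 1, 1, 1, 1, 2, 2, 0, 0, 0, 0, 0, 0, 0, 0, 0, 0, 0], [0, 0, 1, 2, 2, 2, 2, 2, 3], 1, false),
    ([0, 0, 0, 0, 0, 1, 1, 1, 1, 1, 2, 2, 0, 0, 0, 0, 0, 0, 0, 0, 0, 0, 0, 0], [0, 1, 2, 2, 2, 2, 2, 3], 1, false),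
    ([0, 0, 0, 0, 0, 1, 1, 1, 1, 1, 2, 2, 0, 0, 0, 0, 0, 0, 0, 0, 0, 0, 0, 0, 0], [1, 2, 2, 2, 2, 2, 3], 1, false),
    ([0, 0, 0, 0, 0, 1, 1, 1, 1, 1, 2, 2, 0, 0, 0, 0, 0, 0, 0], [1, 1, 2, 2, 2, 2, 2, 3], 0, false),
    ([0, 0, 0, 0, 0, 1, 1, 1, 1, 1, 2, 2], [1, 1, 2, 2, 2, 2, 2, 3], 0, false),
    ([0, 0, 0, 0, 0, 1, 1, 1, 1, 1, 2], [1, 2, 2, 2, 2, 2, 3], 4, false),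
    ([0, 0, 0, 0, 0, 1, 1, 1, 1, 1, 2, 0, 0, 0, 0, 1], [2, 2, 2, 2, 2, 3], 4, false),
    ([0, 0, 0, 0, 0, 1, 1, 1, 1, 1, 2, 0, 0, 0, 0], [0, 0, 0, 1, 2, 2, 2, 2, 2, 2, 3], 1, false),
    ([0, 0, 0, 0, 0, 1, 1, 1, 1, 1, 2, 0, 0, 0, 0, 0], [0, 0, 1, 2, 2, 2, 2, 2, 2, 3], 1, false),
    ([0, 0, 0, 0, 0, 1, 1, 1, 1, 1, 2, 0, 0, 0, 0, 0, 0], [0, 1, 2, 2, 2, 2, 2, 2, 3], 1, false),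
    ([0, 0, 0, 0, 0, 1, 1, 1, 1, 1, 2, 0, 0, 0, 0, 0, 0, 0], [1, 2, 2, 2, 2, 2, 2, 3], 1, false),
    ([0, 0, 0, 0, 0, 1, 1, 1, 1, 1, 2, 0], [1, 1, 2, 2, 2, 2, 2, 2, 3], 0, false),
    ([0, 0, 0, 0, 0, 1, 1, 1, 1, 1], [1, 1, 2, 2, 2, 2, 2, 2, 3], 3, false),
    ([0, 0, 0, 0, 0, 1, 1, 1, 1, 1, 0], [1, 2, 2, 2, 2, 2, 2, 3], 4, false),
    ([0, 0, 0, 0, 0, 1, 1, 1, 1, 1, 0, 0, 0, 0, 0, 1], [2, 2, 2, 2, 2, 2, 3], 4, false),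
    ([0, 0, 0, 0, 0, 1, 1, 1, 1, 1, 0, 0, 0, 0, 0, 1, 0, 0, 0, 0, 1], [3], 5, false),
    ([0, 0, 0, 0, 0, 1, 1, 1, 1, 1, 0, 0, 0, 0, 0], [0, 0, 0, 1, 3], 1, false),
    ([0, 0, 0, 0, 0, 1, 1, 1, 1, 1, 0, 0, 0, 0, 0, 0], [0, 0, 1, 3], 1, false),
    ([0, 0, 0, 0, 0, 1, 1, 1, 1, 1, 0, 0, 0, 0, 0, 0, 0], [0, 1, 3], 1, false),
    ([0, 0, 0, 0, 0, 1, 1, 1, 1, 1, 0, 0, 0, 0, 0, 0, 0, 0], [1, 3], 1, false),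
    ([0, 0, 0, 0, 0, 1, 1, 1, 1, 1, 0, 0], [1, 1, 3], 0, false),
    ([0, 0, 0, 0, 0, 1, 1, 1, 1], [0, 1, 1, 3], 1, false),
    ([0, 0, 0, 0, 0, 1, 1, 1, 1, 0], [1, 1, 3], 1, false),
    ([0, 0, 0, 0, 0, 1, 1, 1], [0, 1, 1, 1, 3], 1, false),
    ([0, 0, 0, 0, 0, 1, 1, 1, 0], [1, 1, 1, 3], 1, false),
    ([0, 0, 0, 0, 0, 1, 1], [0, 1, 1, 1, 1, 3], 1, false),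
    ([0, 0, 0, 0, 0, 1, 1, 0], [1, 1, 1, 1, 3], 1, false),
    ([0, 0, 0, 0, 0, 1], [0, 1, 1, 1, 1, 1, 3], 1, false)]

/-- Part of a closed path for the prime 7. -/
def path7_4_12 : List SchurPath.Step :=
  [([0, 0, 0, 0, 0, 1, 0], [1, 1, 1, 1, 1, 3], 1, false),
    ([0, 0, 0, 0, 0], [0, 1, 1, 1, 1, 1, 1, 3], 1, false),
    ([0, 0, 0, 0, 0, 0], [1, 1, 1, 1, 1, 1, 3], 1, false),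
    ([0, 0, 0, 0, 0, 0, 0], [3], 2, false),
    ([], [3], 0, false),
    ([3], [], 5, true)]

/-- Words of the letters for the prime 7. -/
def letters7 : List (List ℕ) :=
  [[1, 3, 2, 1, 3, 2, 1, 4, 5, 3, 2, 1, 3, 4, 6, 3, 2, 3, 5, 4, 1, 2, 3, 1, 2, 3, 6, 2, 1],
    [6, 3, 5, 1, 2, 3, 4, 0, 1, 2],
    [1, 4, 3, 2, 1, 5, 3, 6, 5, 3, 2, 4, 3, 2, 3, 5, 6, 3, 1, 2, 3, 6, 2, 3, 1],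
    [6, 3, 5, 3, 4, 3, 1, 2, 3, 2, 3, 1, 2]]

/-- Words of the elements of the Sylow 7-subgroup, by increasing keys. -/
def elts7 : List (List ℕ) :=
  [[0, 0, 0, 1, 1, 1, 1, 1, 1, 2, 2],
    [0, 0, 0, 2, 2],
    [0, 0, 0, 0, 0, 0, 1, 1, 1, 1, 1, 1, 2, 2, 2],
    [],
    [1, 2, 2, 2, 2, 2],
    [0, 0, 0, 0, 0, 0, 1, 1, 1, 1, 1, 2, 2, 2, 2, 2, 2],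
    [0, 0, 0, 0, 2, 2, 2, 2, 2, 2],
    [0, 0, 0, 0, 0, 0, 2, 2, 2],
    [0, 0, 1, 1, 1, 1, 1, 2, 2],
    [0, 0, 0, 0, 0, 1, 1, 1, 1, 1, 1, 2, 2, 2, 2, 2, 2],
    [0, 0, 0, 0, 1, 1, 1, 1, 1, 2, 2],
    [0, 2, 2, 2, 2],
    [0, 1, 1, 1, 1, 1, 1, 2, 2, 2, 2, 2, 2],
    [1, 1, 1, 1, 2, 2, 2, 2, 2],
    [0, 0, 0, 0, 0, 1, 2],
    [0, 1, 2, 2, 2, 2],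
    [0, 0, 1, 1, 2, 2, 2, 2, 2],
    [0, 0, 0, 0, 0, 0, 1, 1, 2],
    [0, 0, 1, 1, 2],
    [0, 0, 0, 1, 2],
    [0, 0, 1, 1, 1, 1, 1, 1, 2, 2, 2, 2, 2],
    [0, 1, 1, 1, 1, 1, 2, 2, 2, 2, 2, 2],
    [0, 0, 0, 0, 1, 1, 1, 1, 1, 1, 2, 2, 2, 2, 2, 2],
    [0, 0, 1, 1, 1, 2, 2],
    [0, 0, 1, 1, 1, 2, 2, 2, 2, 2],
    [0, 0, 0, 0, 0, 0, 1, 2, 2, 2],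
    [0, 0, 0, 0, 0, 0, 1, 1, 1, 1, 2, 2, 2, 2, 2, 2],
    [0, 0, 0, 0, 0, 0, 1, 2],
    [0, 0, 1, 1, 1, 1, 2, 2],
    [0, 0, 0, 0, 2, 2, 2],
    [0, 0, 0, 0, 1, 1, 1, 1, 1, 2, 2, 2, 2, 2],
    [1, 1, 1, 1, 1, 2, 2, 2, 2, 2, 2],
    [0, 0, 0, 0, 1, 1, 1, 1, 1, 1, 2, 2],
    [0, 0, 0, 0, 0, 0, 1, 1, 1, 2, 2, 2, 2, 2, 2],
    [0, 0, 0, 0, 0, 1, 1, 2, 2],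
    [0, 0, 0, 0, 1, 1, 1, 1, 2, 2],
    [0, 0, 2, 2, 2],
    [0, 0, 2, 2, 2, 2, 2],
    [0, 0, 0, 0, 0, 1, 1, 1, 1, 1, 1, 2, 2, 2],
    [0, 0, 0, 0, 0, 0, 1, 1, 1, 1, 1, 2, 2, 2],
    [1, 2, 2, 2],
    [0, 0, 1, 1, 2, 2],
    [0, 0, 0, 1, 1, 1, 1, 2, 2, 2, 2],
    [0, 0, 0, 1, 1, 1, 1, 1, 2, 2],
    [0, 0, 0, 0, 0, 0, 1, 1, 2, 2, 2],
    [1, 1, 2, 2, 2, 2, 2, 2],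
    [0, 0, 0, 0, 1, 1, 2, 2, 2, 2, 2, 2],
    [0, 0, 0, 1, 1, 2, 2, 2],
    [0, 0, 2, 2, 2, 2, 2, 2],
    [0, 0, 0, 0, 1, 1, 2, 2, 2, 2],
    [0, 0, 0, 0, 0, 2, 2, 2, 2, 2, 2],
    [0, 0, 0, 0, 0, 0, 2, 2, 2, 2, 2, 2],
    [0, 1, 2, 2, 2, 2, 2],
    [0, 1, 1, 2, 2, 2, 2, 2],
    [0, 0, 0, 0, 0, 1, 2, 2],
    [0, 0, 0, 0, 2, 2],
    [0, 0, 0, 1, 2, 2],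
    [0, 1, 1, 2, 2],
    [1, 1, 1, 1, 1, 1],
    [0, 0, 1, 2, 2, 2, 2, 2],
    [0, 0, 0, 0, 0, 0, 1, 1, 1, 1, 2, 2],
    [0, 2, 2, 2, 2, 2, 2],
    [0, 0, 0, 2, 2, 2, 2, 2, 2],
    [0, 0, 0, 0, 0, 1, 1, 1, 1, 1, 2, 2, 2, 2, 2],
    [0, 0, 0, 1, 1, 2, 2, 2, 2, 2],
    [0, 0, 0, 0, 1, 2],
    [0, 0, 0, 0, 0, 0, 2],
    [0, 0, 0, 0, 0, 0, 1, 1, 1, 2, 2],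
    [0, 0, 0, 1, 2, 2, 2, 2, 2],
    [0, 0, 0, 0, 0, 0, 1, 1, 1, 1, 1, 2, 2, 2, 2, 2],
    [0, 0, 0, 1, 1, 1, 1, 1, 2],
    [1, 1, 1, 1, 1, 1, 2, 2, 2, 2],
    [0, 0, 1, 1, 1, 1, 1, 1, 2, 2],
    [0, 0, 0, 1, 2, 2, 2, 2, 2, 2],
    [0, 1, 1, 1, 1, 1, 2, 2, 2],
    [0, 0, 0, 0, 0, 1, 1, 1, 1, 2, 2, 2, 2, 2],
    [0, 0, 0, 0, 1, 1, 1, 1, 2, 2, 2, 2, 2, 2],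
    [0, 0, 0, 1, 1, 2, 2, 2, 2, 2, 2],
    [0, 1, 1, 1, 1, 1, 1, 2, 2, 2],
    [0, 0, 0, 1],
    [0, 0, 1, 1, 1, 2, 2, 2],
    [0, 1, 1, 1],
    [0, 0, 1, 1, 2, 2, 2, 2],
    [0, 0, 1, 1, 1, 1, 2, 2, 2, 2, 2],
    [0, 0, 1],
    [0, 0, 0, 0, 1, 2, 2, 2],
    [0, 1, 1, 1, 1, 2, 2, 2, 2, 2],
    [1],
    [1, 1, 1, 1, 1, 1, 2, 2, 2, 2, 2, 2],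
    [0, 1, 1, 1, 1, 1, 1],
    [1, 1, 2, 2, 2, 2, 2],
    [0, 0, 0, 1, 2, 2, 2, 2],
    [0, 0, 0, 0, 1, 1, 1, 2, 2, 2, 2, 2],
    [0, 1, 2],
    [0, 0, 0, 1, 1, 2],
    [0, 0, 0, 1, 1, 1, 1, 1],
    [0, 0, 0, 0, 0, 1, 1, 2],
    [0, 2, 2, 2],
    [0, 0, 0, 0, 0, 0, 1, 1, 2, 2],
    [1, 1, 1, 1, 1, 2],
    [0, 0, 0, 0, 1, 2, 2, 2, 2, 2, 2],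
    [0, 0, 1, 1, 1, 1, 1, 1, 2],
    [0, 1, 1],
    [0, 0, 0, 0, 0, 0, 1, 2, 2, 2, 2, 2, 2],
    [0, 0, 1, 1, 1, 1, 2, 2, 2, 2, 2, 2],
    [0, 1, 1, 2, 2, 2, 2],
    [0, 0, 1, 1, 1, 2],
    [0, 0, 0, 0, 0, 0, 1, 2, 2, 2, 2, 2],
    [1, 1, 1, 1, 1, 1, 2, 2],
    [0, 0, 0, 0, 1, 1, 1, 1, 1, 1, 2, 2, 2, 2, 2],
    [0, 0, 0, 0, 1, 1, 1, 1, 1, 2, 2, 2],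
    [0, 0, 0, 0, 0, 1, 1, 1, 2],
    [0, 0, 0, 0, 0, 0, 1, 1, 1, 1, 1, 1, 2],
    [1, 1, 1],
    [1, 1, 1, 2, 2],
    [0, 0, 0, 0, 0, 0, 1, 1, 1, 1, 1, 1, 2, 2, 2, 2, 2, 2],
    [0, 0, 0, 0, 0, 1, 1, 1, 1, 2, 2, 2, 2, 2, 2],
    [0, 0, 0, 0, 1, 1, 1, 1, 1, 1, 2, 2, 2],
    [0, 0, 0, 0, 0, 1, 1, 1, 1, 1, 1, 2, 2],
    [1, 1, 1, 1, 2, 2],
    [0, 0, 0, 0, 0, 0, 1, 1, 2, 2, 2, 2, 2],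
    [0, 0, 0, 0, 0, 2, 2],
    [1, 1, 1, 1, 1, 1, 2, 2, 2],
    [0, 0, 1, 1, 1, 1, 1, 1, 2, 2, 2, 2, 2, 2],
    [0, 0, 0, 1, 1, 1, 1, 2, 2, 2],
    [0, 0, 0, 1, 1, 1, 1, 1, 2, 2, 2, 2, 2, 2],
    [0, 0, 0, 0, 0, 2, 2, 2],
    [0, 1, 1, 1, 1, 2, 2, 2, 2, 2, 2],
    [1, 1, 2, 2, 2, 2],
    [0, 0, 1, 1, 1, 1, 1, 2, 2, 2, 2, 2],
    [0, 0, 0, 0, 1, 1, 1, 1, 2],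
    [0, 0, 0, 0, 0, 1, 1, 1, 1, 2, 2, 2],
    [0, 0, 0, 1, 1, 1, 1, 1, 1],
    [1, 1, 1, 1, 1, 1, 2, 2, 2, 2, 2],
    [1, 1, 1, 1, 1, 2, 2, 2, 2, 2],
    [0, 0, 0, 0, 0, 2],
    [0, 1, 1, 1, 1, 1, 1, 2, 2],
    [2, 2, 2],
    [0, 0, 0, 0, 1, 1, 1, 1, 1, 1],
    [0, 0, 0, 1, 1, 1, 1, 2],
    [0, 0, 0, 0, 0],
    [0, 0, 0, 0, 1, 1, 2, 2, 2, 2, 2],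
    [0, 0, 1, 1, 1],
    [1, 1, 1, 2, 2, 2, 2, 2],
    [0, 1, 1, 1, 1, 1, 1, 2, 2, 2, 2, 2],
    [0, 0, 0, 0, 0, 1, 1, 1, 1, 1, 2, 2, 2, 2],
    [0, 0, 0, 0, 1, 1, 1, 2, 2],
    [0, 0, 0, 0, 0, 1, 1, 1, 1, 1, 1],
    [0, 1, 1, 1, 2, 2, 2, 2, 2, 2],
    [0, 0, 0, 0, 0, 1],
    [0, 0, 0, 0, 0, 1, 1, 1, 1, 1, 2, 2, 2],
    [0, 0, 0, 0, 2],
    [0, 0, 0, 0, 0, 1, 1, 1, 1, 1, 1, 2, 2, 2, 2, 2],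
    [0, 0, 1, 1, 2, 2, 2, 2, 2, 2],
    [1, 1, 1, 1, 1],
    [0, 0, 0, 0, 1, 1, 1, 1, 1],
    [0, 0, 0, 0, 0, 0, 1, 1, 1],
    [0, 0, 0, 0, 0, 0, 1, 1, 1, 2],
    [0, 0, 1, 1, 1, 1, 2, 2, 2],
    [0, 0, 2],
    [0, 0, 1, 1, 1, 1, 1, 1],
    [0, 0, 0, 2],
    [0, 0, 0, 1, 1, 1, 1],
    [0, 0, 1, 2, 2, 2],
    [0, 0, 0, 1, 1, 1, 1, 1, 1, 2, 2, 2, 2],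
    [1, 1],
    [0, 0, 0, 0, 1, 1, 1, 1, 1, 1, 2, 2, 2, 2],
    [0, 0, 0, 0, 0, 1, 1, 1, 1, 2],
    [0, 0, 0, 0, 0, 1, 2, 2, 2],
    [0, 0, 0, 0, 0, 0, 1, 1, 1, 1, 1, 1, 2, 2],
    [0, 0, 1, 1, 1, 1, 1, 1, 2, 2, 2],
    [0, 0, 0, 1, 1, 1, 1, 1, 2, 2, 2],
    [0, 0, 0, 0, 0, 1, 1, 2, 2, 2, 2],
    [0, 1, 2, 2, 2, 2, 2, 2],
    [0, 1, 1, 1, 1, 1, 2, 2],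
    [1, 1, 2, 2, 2],
    [0, 1, 1, 1, 1, 1, 2, 2, 2, 2],
    [0, 0, 0, 0, 0, 1, 1],
    [0, 0, 0, 0, 0, 2, 2, 2, 2],
    [0, 0, 1, 1, 1, 1, 2, 2, 2, 2],
    [0, 0, 0, 1, 1, 1, 1, 1, 1, 2, 2, 2],
    [0, 0, 0, 0, 0, 0, 2, 2],
    [0, 0, 0, 0, 0, 0, 1, 1, 1, 1, 1, 2],
    [0, 0, 0, 0, 0, 0, 1, 1, 1, 1, 2, 2, 2],
    [0, 0, 0, 1, 1, 1, 1, 1, 2, 2, 2, 2],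
    [0, 0, 0, 0, 0, 1, 1, 1, 2, 2, 2, 2, 2],
    [1, 2],
    [0, 0, 0, 0, 1, 1, 1, 1, 2, 2, 2, 2, 2],
    [0, 1, 1, 1, 2],
    [0, 0, 0, 1, 2, 2, 2],
    [0, 0, 0, 0, 0, 1, 1, 1, 1, 1, 2, 2],
    [0, 0, 0, 1, 1, 1, 2, 2, 2, 2, 2, 2],
    [1, 1, 1, 1, 2],
    [0, 0, 0, 0, 0, 0, 1, 1, 1, 1, 1, 2, 2],
    [0, 0, 0, 0, 1, 1, 1, 1, 1, 2],
    [0, 0, 0, 0, 1, 1, 2, 2, 2],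
    [0, 0, 0, 0, 0, 1, 1, 1, 1, 1, 1, 2],
    [0, 0, 0, 0, 0, 1, 1, 1, 1, 1, 2, 2, 2, 2, 2, 2],
    [0, 0, 0, 0, 1, 1, 1, 2, 2, 2],
    [0],
    [0, 0, 0, 1, 1, 1, 1, 1, 1, 2, 2, 2, 2, 2, 2],
    [0, 0, 0, 0, 0, 0, 1],
    [2, 2, 2, 2, 2],
    [1, 1, 1, 2, 2, 2],
    [0, 0, 0, 2, 2, 2, 2],
    [0, 0, 0, 0, 1, 1, 1, 1, 1, 2, 2, 2, 2, 2, 2],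
    [0, 0, 0, 0, 0, 0],
    [0, 0, 0, 0, 0, 0, 1, 1],
    [0, 0, 0, 1, 1, 1, 1, 2, 2],
    [0, 0, 0, 0, 0, 1, 1, 1],
    [0, 0, 0, 1, 1, 1, 2],
    [0, 0, 0, 0, 0, 1, 1, 1, 1, 1, 2],
    [0, 0, 0, 1, 1, 1, 1, 1, 1, 2],
    [0, 0, 0, 0, 0, 0, 1, 2, 2, 2, 2],
    [0, 0, 0, 0, 0, 0, 1, 1, 2, 2, 2, 2, 2, 2],
    [0, 0, 0, 2, 2, 2],
    [0, 0, 0, 0, 1, 1, 1, 2, 2, 2, 2],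
    [0, 0, 1, 2],
    [0, 0, 0, 1, 1, 1, 2, 2],
    [0, 0, 2, 2],
    [0, 0, 0, 0, 0, 1, 1, 1, 2, 2],
    [0, 0, 0, 0, 1, 1, 1, 1, 1, 2, 2, 2, 2],
    [0, 1, 1, 1, 1, 1, 2],
    [0, 1, 1, 1, 1, 2],
    [0, 0, 0, 1, 1, 1],
    [2, 2, 2, 2, 2, 2],
    [0, 0, 0, 0, 1, 1, 1, 1, 1, 1, 2],
    [0, 0, 0, 0, 1, 1, 2, 2],
    [0, 0, 1, 1, 1, 1, 1, 1, 2, 2, 2, 2],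
    [0, 0, 0, 0, 2, 2, 2, 2],
    [0, 0, 1, 1, 1, 2, 2, 2, 2, 2, 2],
    [0, 2],
    [0, 0, 0, 0, 0, 0, 1, 1, 2, 2, 2, 2],
    [2],
    [0, 1, 1, 2],
    [0, 0, 0, 1, 1, 1, 2, 2, 2, 2],
    [0, 0, 0, 0, 0, 1, 1, 1, 1, 2, 2, 2, 2],
    [0, 0],
    [0, 0, 0, 0, 0, 0, 1, 1, 1, 2, 2, 2, 2],
    [0, 0, 1, 1, 1, 1, 2],
    [0, 1, 1, 1, 1, 2, 2, 2],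
    [0, 0, 0, 0, 1, 1, 1, 1, 2, 2, 2],
    [0, 0, 0, 0, 1, 1, 1, 2],
    [0, 0, 1, 1],
    [0, 0, 0, 0, 0, 0, 2, 2, 2, 2, 2],
    [0, 0, 0, 0, 0, 2, 2, 2, 2, 2],
    [1, 1, 1, 1, 1, 2, 2],
    [2, 2, 2, 2],
    [0, 2, 2],
    [0, 1, 1, 2, 2, 2],
    [0, 0, 1, 1, 1, 1, 1],
    [0, 1, 1, 1, 1, 1],
    [0, 0, 0, 0, 0, 0, 1, 1, 1, 1, 1, 2, 2, 2, 2],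
    [0, 0, 0, 0, 1, 1, 1, 1],
    [2, 2],
    [0, 0, 0],
    [0, 0, 0, 0, 0, 1, 1, 2, 2, 2, 2, 2],
    [0, 0, 0, 0, 0, 0, 1, 1, 1, 1, 1, 1, 2, 2, 2, 2, 2],
    [0, 0, 0, 0, 1, 1, 1, 1, 2, 2, 2, 2],
    [0, 0, 1, 1, 1, 2, 2, 2, 2],
    [0, 0, 1, 1, 1, 1],
    [0, 0, 0, 0, 0, 1, 1, 1, 2, 2, 2, 2, 2, 2],
    [1, 1, 1, 1, 2, 2, 2, 2],
    [1, 1, 2, 2],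
    [0, 0, 0, 0, 0, 1, 2, 2, 2, 2],
    [0, 0, 0, 1, 1, 1, 2, 2, 2, 2, 2],
    [0, 1, 1, 1, 1, 2, 2],
    [1, 1, 1, 2, 2, 2, 2, 2, 2],
    [0, 0, 0, 0, 0, 0, 1, 1, 1, 1, 1],
    [1, 1, 1, 1, 1, 2, 2, 2, 2],
    [0, 0, 0, 0, 1, 1, 2],
    [0, 0, 0, 1, 1, 2, 2, 2, 2],
    [0, 0, 0, 0, 0, 0, 1, 2, 2],
    [1, 2, 2, 2, 2],
    [1, 2, 2, 2, 2, 2, 2],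
    [0, 1, 1, 1, 1, 1, 1, 2],
    [0, 0, 0, 0, 0, 0, 1, 1, 1, 2, 2, 2],
    [0, 0, 0, 0, 0, 0, 1, 1, 1, 1, 1, 1, 2, 2, 2, 2],
    [0, 0, 0, 0, 0, 1, 1, 1, 1],
    [0, 0, 0, 0, 0, 0, 1, 1, 1, 1, 2, 2, 2, 2],
    [1, 1, 1, 1],
    [0, 1, 1, 1, 1, 1, 2, 2, 2, 2, 2],
    [0, 0, 1, 1, 1, 1, 1, 2, 2, 2, 2, 2, 2],
    [0, 1, 1, 1, 2, 2],
    [0, 0, 0, 0, 0, 1, 1, 1, 2, 2, 2, 2],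
    [0, 1, 1, 1, 1, 1, 1, 2, 2, 2, 2],
    [0, 0, 0, 1, 1, 1, 1, 2, 2, 2, 2, 2],
    [0, 0, 0, 1, 1, 1, 1, 2, 2, 2, 2, 2, 2],
    [0, 1, 1, 1, 1, 2, 2, 2, 2],
    [0, 0, 1, 2, 2, 2, 2, 2, 2],
    [0, 1, 2, 2],
    [1, 1, 1, 1, 2, 2, 2],
    [1, 1, 1, 1, 1, 2, 2, 2],
    [0, 0, 0, 0, 0, 1, 1, 1, 1, 1, 1, 2, 2, 2, 2],
    [0, 0, 0, 0, 1, 2, 2, 2, 2, 2],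
    [0, 0, 0, 0, 1, 1, 1],
    [0, 0, 0, 1, 1, 1, 1, 1, 2, 2, 2, 2, 2],
    [0, 0, 1, 2, 2, 2, 2],
    [0, 1, 2, 2, 2],
    [0, 0, 1, 1, 1, 1, 1, 2],
    [0, 1, 1, 1, 2, 2, 2],
    [0, 0, 0, 0, 1, 2, 2],
    [0, 0, 0, 0, 0, 0, 1, 1, 1, 2, 2, 2, 2, 2],
    [0, 0, 0, 0, 1, 1],
    [0, 0, 0, 1, 1, 2, 2],
    [0, 0, 0, 0, 0, 1, 1, 1, 1, 1],
    [1, 1, 1, 1, 2, 2, 2, 2, 2, 2],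
    [1, 1, 1, 2],
    [1, 1, 1, 1, 1, 1, 2],
    [0, 0, 0, 0, 0, 1, 1, 2, 2, 2, 2, 2, 2],
    [0, 0, 0, 1, 1, 1, 1, 1, 1, 2, 2, 2, 2, 2],
    [0, 0, 0, 0, 0, 1, 2, 2, 2, 2, 2, 2],
    [0, 0, 0, 0, 1, 2, 2, 2, 2],
    [0, 0, 0, 2, 2, 2, 2, 2],
    [0, 0, 0, 0, 0, 1, 1, 1, 1, 2, 2],
    [0, 0, 0, 0, 1, 1, 1, 2, 2, 2, 2, 2, 2],
    [0, 2, 2, 2, 2, 2],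
    [0, 1, 1, 2, 2, 2, 2, 2, 2],
    [0, 1, 1, 1, 2, 2, 2, 2, 2],
    [0, 0, 2, 2, 2, 2],
    [0, 0, 1, 2, 2],
    [0, 0, 0, 0, 0, 0, 2, 2, 2, 2],
    [1, 2, 2],
    [0, 0, 0, 0, 2, 2, 2, 2, 2],
    [0, 0, 0, 0, 0, 1, 1, 1, 2, 2, 2],
    [0, 0, 0, 0, 0, 0, 1, 1, 1, 1, 1, 1],
    [0, 0, 0, 0, 0, 0, 1, 1, 1, 1, 2, 2, 2, 2, 2],
    [0, 0, 0, 0, 0, 1, 2, 2, 2, 2, 2],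
    [0, 0, 0, 0, 0, 1, 1, 2, 2, 2],
    [0, 1, 1, 1, 2, 2, 2, 2],
    [0, 0, 0, 0, 1],
    [0, 0, 0, 0, 0, 0, 1, 1, 1, 1],
    [0, 0, 1, 1, 2, 2, 2],
    [0, 0, 1, 1, 1, 1, 1, 2, 2, 2, 2],
    [0, 0, 0, 1, 1],
    [0, 0, 1, 1, 1, 1, 1, 2, 2, 2],
    [1, 1, 2],
    [0, 0, 0, 0],
    [0, 1],
    [0, 1, 1, 1, 1],
    [1, 1, 1, 2, 2, 2, 2],
    [0, 0, 0, 0, 0, 0, 1, 1, 1, 1, 2],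
    [0, 0, 0, 1, 1, 1, 2, 2, 2]]

/-- The certificate for the prime 7. -/
def cert7 : SchurPath.Cert where
  m := 3
  rels := [([0, 0, 0, 0, 0, 0, 0], []),
    ([1, 0], [0, 1]),
    ([1, 1, 1, 1, 1, 1, 1], []),
    ([2, 0], [0, 2]),
    ([2, 1], [0, 0, 0, 0, 1, 2]),
    ([2, 2, 2, 2, 2, 2, 2], []),
    ([3, 0], [0, 3]),
    ([3, 1], [0, 0, 0, 0, 0, 0, 2, 2, 2, 2, 3]),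
    ([3, 2], [0, 0, 0, 0, 0, 1, 1, 1, 1, 1, 2, 2, 2, 2, 2, 2, 3])]
  paths := [([3, 1, 0], [([], [0], 7, false),
      ([0, 0, 0, 0, 0, 0, 2, 2, 2, 2], [], 6, false),
      ([0, 0, 0, 0, 0, 0, 2, 2, 2], [3], 3, false),
      ([0, 0, 0, 0, 0, 0, 2, 2], [2, 3], 3, false),
      ([0, 0, 0, 0, 0, 0, 2], [2, 2, 3], 3, false),
      ([0, 0, 0, 0, 0, 0], [2, 2, 2, 3], 3, false),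
      ([], [2, 2, 2, 2, 3], 0, false),
      ([], [2, 2, 2, 2, 3], 0, true),
      ([0], [], 7, true),
      ([], [1], 6, true),
      ([3], [], 1, true)]),
    ([3, 2, 0], [([], [0], 8, false),
      ([0, 0, 0, 0, 0, 1, 1, 1, 1, 1, 2, 2, 2, 2, 2, 2], [], 6, false),
      ([0, 0, 0, 0, 0, 1, 1, 1, 1, 1, 2, 2, 2, 2, 2], [3], 3, false),
      ([0, 0, 0, 0, 0, 1, 1, 1, 1, 1, 2, 2, 2, 2], [2, 3], 3, false),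
      ([0, 0, 0, 0, 0, 1, 1, 1, 1, 1, 2, 2, 2], [2, 2, 3], 3, false),
      ([0, 0, 0, 0, 0, 1, 1, 1, 1, 1, 2, 2], [2, 2, 2, 3], 3, false),
      ([0, 0, 0, 0, 0, 1, 1, 1, 1, 1, 2], [2, 2, 2, 2, 3], 3, false),
      ([0, 0, 0, 0, 0, 1, 1, 1, 1, 1], [2, 2, 2, 2, 2, 3], 3, false),
      ([0, 0, 0, 0, 0, 1, 1, 1, 1], [2, 2, 2, 2, 2, 2, 3], 1, false),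
      ([0, 0, 0, 0, 0, 1, 1, 1], [1, 2, 2, 2, 2, 2, 2, 3], 1, false),
      ([0, 0, 0, 0, 0, 1, 1], [1, 1, 2, 2, 2, 2, 2, 2, 3], 1, false),
      ([0, 0, 0, 0, 0, 1], [1, 1, 1, 2, 2, 2, 2, 2, 2, 3], 1, false),
      ([0, 0, 0, 0, 0], [1, 1, 1, 1, 2, 2, 2, 2, 2, 2, 3], 1, false),
      ([0], [], 8, true),
      ([], [2], 6, true),
      ([3], [], 3, true)]),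
    ([2, 2, 2, 2, 2, 2, 2, 1], [([], [1], 5, false),
      ([], [1], 0, true),
      ([0, 0, 0, 0, 0, 0, 0, 1], [], 5, true),
      ([0, 0, 0], [2, 2, 2, 2, 2, 2], 4, true),
      ([0, 0], [1, 2, 2, 2, 2, 2, 2], 3, true),
      ([0], [0, 1, 2, 2, 2, 2, 2, 2], 3, true),
      ([], [0, 0, 1, 2, 2, 2, 2, 2, 2], 3, true),
      ([2, 0, 0, 0], [1, 2, 2, 2, 2, 2, 2], 0, true),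
      ([2, 0, 0, 0, 0, 0, 0], [2, 2, 2, 2, 2], 4, true),
      ([2, 0, 0, 0, 0, 0], [1, 2, 2, 2, 2, 2], 3, true),
      ([2, 0, 0, 0, 0], [0, 1, 2, 2, 2, 2, 2], 3, true),
      ([2, 0, 0, 0], [0, 0, 1, 2, 2, 2, 2, 2], 3, true),
      ([2, 0, 0], [0, 0, 0, 1, 2, 2, 2, 2, 2], 3, true),
      ([2, 0], [0, 0, 0, 0, 1, 2, 2, 2, 2, 2], 3, true),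
      ([2], [0, 0, 0, 0, 0, 1, 2, 2, 2, 2, 2], 3, true),
      ([2, 2, 0, 0], [2, 2, 2, 2], 4, true),
      ([2, 2, 0], [1, 2, 2, 2, 2], 3, true),
      ([2, 2], [0, 1, 2, 2, 2, 2], 3, true),
      ([2, 2, 2, 0, 0], [1, 2, 2, 2, 2], 0, true),
      ([2, 2, 2, 0, 0, 0, 0, 0], [2, 2, 2], 4, true),
      ([2, 2, 2, 0, 0, 0, 0], [1, 2, 2, 2], 3, true),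
      ([2, 2, 2, 0, 0, 0], [0, 1, 2, 2, 2], 3, true),
      ([2, 2, 2, 0, 0], [0, 0, 1, 2, 2, 2], 3, true),
      ([2, 2, 2, 0], [0, 0, 0, 1, 2, 2, 2], 3, true),
      ([2, 2, 2], [0, 0, 0, 0, 1, 2, 2, 2], 3, true),
      ([2, 2, 2, 2, 0], [2, 2], 4, true),
      ([2, 2, 2, 2], [1, 2, 2], 3, true),
      ([2, 2, 2, 2, 2, 0], [1, 2, 2], 0, true),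
      ([2, 2, 2, 2, 2, 0, 0, 0, 0], [2], 4, true),
      ([2, 2, 2, 2, 2, 0, 0, 0], [1, 2], 3, true),
      ([2, 2, 2, 2, 2, 0, 0], [0, 1, 2], 3, true),
      ([2, 2, 2, 2, 2, 0], [0, 0, 1, 2], 3, true),
      ([2, 2, 2, 2, 2], [0, 0, 0, 1, 2], 3, true),
      ([2, 2, 2, 2, 2, 2], [], 4, true)]),
    ([3, 1, 1, 1, 1, 1, 1, 1], path7_3_0 ++ path7_3_1),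
    ([3, 2, 2, 2, 2, 2, 2, 2], path7_4_0 ++ path7_4_1 ++ path7_4_2 ++ path7_4_3 ++ path7_4_4 ++ path7_4_5 ++ path7_4_6 ++ path7_4_7 ++ path7_4_8 ++ path7_4_9 ++ path7_4_10 ++ path7_4_11 ++ path7_4_12)]
  rows := [[0, 6, 0, 4, 0, 0, 0, 0, 0],
    [0, 5, 0, 5, 0, 0, 0, 0, 0],
    [3, 0, 0, 0, 0, 0, 0, 0, 0],
    [6, 0, 6, 0, 0, 4, 0, 0, 0],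
    [0, 0, 5, 0, 0, 5, 0, 0, 0]]
  mu := [[0, 0, 0, 0, 2, 0, 0, 0, 0],
    [0, 0, 0, 0, 0, 0, 0, 0, 0],
    [0, 0, 0, 0, 0, 0, 0, 0, 0]]
  comb := [[0, 0, 5, 0, 0],
    [4, 1, 0, 0, 0],
    [0, 0, 6, 4, 1],
    [3, 2, 0, 0, 0],
    [0, 0, 0, 0, 0],
    [0, 0, 1, 3, 2]]

end CfsgLib.SchurHe
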