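import Cfsg.Agent.Lib.Schur.He.Words
import Cfsg.Agent.Lib.Schur.He.Data
import Cfsg.Agent.Lib.Schur.Trivial
import Mathlib.Tactic.NormNum.Prime

/-!
The Schur multiplier of the Held group is trivial.
-/

set_option autoImplicit false
set_option maxRecDepth 20000

namespace CfsgLib.SchurHe

open CfsgLib.HeWord

/-- The checks of the data at one prime against the group. -/
noncomputable def dataOK (L : List (List ℕ)) (E : List (List ℕ)) (C : SchurPath.Cert) (q : ℕ) : Bool :=
  (L.all fun l => l.all fun x => Nat.blt x 7) && Nat.beq E.length q &&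
    (E.all fun w => w.all fun a => Nat.blt a C.m) && eqAll L C.rels &&
    incr (E.map (key L))

/-- The certificate at one prime, applied. -/
theorem not_dvd_of_data (L E : List (List ℕ)) (C : SchurPath.Cert) {p : ℕ} [Fact p.Prime]
    (hC : C.check p = true) (hD : dataOK L E C (p ^ C.m) = true) {i : ℕ}
    (hNi : 4030387200 = p ^ C.m * i) (hi : ¬ p ∣ i) {Γ : Type} [Group Γ] [Finite Γ]
    (σ : Γ →* Cfsg.Spor.He) (hσ : Function.Surjective σ) (hc : σ.ker ≤ Subgroup.center Γ)
    (hd : σ.ker ≤ commutator Γ) : ¬ p ∣ Nat.card σ.ker := by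
  simp only [dataOK, Bool.and_eq_true, Nat.beq_eq] at hD
  obtain ⟨⟨⟨⟨hL, hlen⟩, hE⟩, hR⟩, hincr⟩ := hD
  have : Finite Cfsg.Spor.He := CfsgLib.CosetEnum.He.finite
  refine SchurPath.not_dvd_card_ker_of_check C hC (fun a => ev (L.getD a [])) ?_ ?_
    CfsgLib.CosetEnum.He.card_group hNi hi σ hσ hc hd
  · intro r hr
    simp only [eqAll, List.all_eq_true, Nat.beq_eq] at hR
    have := hR _ (List.getElem_mem hr)
    rw [List.getD_eq_getElem _ _ hr]
    show ((C.rels[r]).1.map fun a => ev (L.getD a [])).prod = ((C.rels[r]).2.map fun a => ev (L.getD a [])).prod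
    rw [ev_flat, ev_flat]
    exact ev_eq_of_key L hL _ _ this
  · simp only [List.all_eq_true, Nat.blt_eq] at hE
    set S := Subgroup.closure {x | ∃ a < C.m, (fun a => ev (L.getD a [])) a = x}
    have hmem : ∀ w ∈ E, (w.map fun a => ev (L.getD a [])).prod ∈ S := fun w hw =>
      list_prod_mem fun x hx => by
        obtain ⟨a, ha, rfl⟩ := List.mem_map.1 hx
        exact Subgroup.subset_closure ⟨a, hE w hw a ha, rfl⟩
    let f : Fin E.length → S := fun j => ⟨_, hmem _ (List.getElem_mem j.2)⟩
    have hf : Function.Injective f := by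
      intro j k h
      have h' : ev (flat L E[(j : ℕ)]) = ev (flat L E[(k : ℕ)]) := by
        rw [← ev_flat, ← ev_flat]
        exact congrArg Subtype.val h
      have hkey := key_eq_of_ev L hL _ _ h'
      have hnd : (E.map (key L)).Nodup :=
        (incr_pairwise _ hincr).imp fun hab => Nat.ne_of_lt hab
      apply Fin.ext
      exact (List.Nodup.getElem_inj_iff hnd (hi := by simp) (hj := by simp)).1
        (by simpa using hkey)
    have := Nat.card_le_card_of_injective f hf
    rw [Nat.card_fin, hlen] at this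
    exact this

theorem data2 : dataOK letters2 elts2 cert2 (2 ^ cert2.m) = true := by decide +kernel
theorem data3 : dataOK letters3 elts3 cert3 (3 ^ cert3.m) = true := by decide +kernel
theorem data5 : dataOK letters5 elts5 cert5 (5 ^ cert5.m) = true := by decide +kernel
theorem data7 : dataOK letters7 elts7 cert7 (7 ^ cert7.m) = true := by decide +kernel
theorem check2 : cert2.check 2 = true := by decide +kernel
theorem check3 : cert3.check 3 = true := by decide +kernel
theorem check5 : cert5.check 5 = true := by decide +kernel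
theorem check7 : cert7.check 7 = true := by decide +kernel

theorem prime_cases {r : ℕ} (hr : r.Prime) (h : r ∣ 4030387200) :
    r = 2 ∨ r = 3 ∨ r = 5 ∨ r = 7 ∨ r = 17 := by
  rw [show 4030387200 = 2 ^ 10 * 3 ^ 3 * 5 ^ 2 * 7 ^ 3 * 17 by norm_num] at h
  rcases hr.dvd_mul.1 h with h | h
  · rcases hr.dvd_mul.1 h with h | h
    · rcases hr.dvd_mul.1 h with h | h
      · rcases hr.dvd_mul.1 h with h | h
        · exact Or.inl ((Nat.prime_dvd_prime_iff_eq hr Nat.prime_two).1 (hr.dvd_of_dvd_pow h))
        · exact Or.inr (Or.inl ((Nat.prime_dvd_prime_iff_eq hr Nat.prime_three).1 (hr.dvd_of_dvd_pow h)))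
      · exact Or.inr (Or.inr (Or.inl ((Nat.prime_dvd_prime_iff_eq hr Nat.prime_five).1 (hr.dvd_of_dvd_pow h))))
    · exact Or.inr (Or.inr (Or.inr (Or.inl
        ((Nat.prime_dvd_prime_iff_eq hr (by norm_num)).1 (hr.dvd_of_dvd_pow h)))))
  · exact Or.inr (Or.inr (Or.inr (Or.inr ((Nat.prime_dvd_prime_iff_eq hr (by norm_num)).1 h))))

theorem hasCyclic : Cfsg.HasCyclicSchurMultiplier Cfsg.Spor.He 1 := by
  have : Finite Cfsg.Spor.He := CfsgLib.CosetEnum.He.finite
  refine SchurTrivial.hasCyclic_one fun Γ _ _ σ hσ hc hd r hr hdvd => ?_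
  rw [CfsgLib.CosetEnum.He.card_group] at hdvd
  have h2 : Fact (Nat.Prime 2) := ⟨Nat.prime_two⟩
  have h3 : Fact (Nat.Prime 3) := ⟨Nat.prime_three⟩
  have h5 : Fact (Nat.Prime 5) := ⟨Nat.prime_five⟩
  have h7 : Fact (Nat.Prime 7) := ⟨by norm_num⟩
  have h17 : Fact (Nat.Prime 17) := ⟨by norm_num⟩
  rcases prime_cases hr hdvd with rfl | rfl | rfl | rfl | rfl
  · exact not_dvd_of_data letters2 elts2 cert2 check2 data2 (i := 3935925)
      (by norm_num [cert2]) (by norm_num) σ hσ hc hd
  · exact not_dvd_of_data letters3 elts3 cert3 check3 data3 (i := 149273600)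
      (by norm_num [cert3]) (by norm_num) σ hσ hc hd
  · exact not_dvd_of_data letters5 elts5 cert5 check5 data5 (i := 161215488)
      (by norm_num [cert5]) (by norm_num) σ hσ hc hd
  · exact not_dvd_of_data letters7 elts7 cert7 check7 data7 (i := 11750400)
      (by norm_num [cert7]) (by norm_num) σ hσ hc hd
  · exact SchurBound.not_dvd_card_ker_of_sq_not_dvd σ hσ hc hd
      (by rw [CfsgLib.CosetEnum.He.card_group]; norm_num)

end CfsgLib.SchurHe
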